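import Cfsg.Agent.Lib.AschbacherEvenDim.OddTools

/-!
Over three elements a tensor product with a symmetric factor on three dimensions has three blocks.
-/

set_option autoImplicit false
set_option linter.style.haveILetI false
set_option linter.unusedSectionVars false

namespace Cfsg.Agent.Lib.AschbacherEvenDim

open Cfsg.Geo Cfsg.Agent.Lib.PrimeDim.Basic Cfsg.Agent.Lib.Aschbacher
open Cfsg.Agent.Lib.AschbacherSp (Isom mem_isom gramIn gramForm_in gramForm_single gramForm_ext gramForm_gramMatrix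
  three_facts exists_frame pt kron_mulVec_pt gramForm_pt toX mk_toX toX_mk toX_coord symm_isom perp mem_perp)
open scoped Matrix MatrixGroups Kronecker

variable {ι : Type} [Fintype ι] [DecidableEq ι] {F : Type*} [Field F] [Fintype F] {G : Matrix ι ι F}

theorem indep_of_orth' {t : ℕ} {D : Fin t → Submodule F (ι → F)}
    (hn : ∀ i, IsNondegenerateOn (gramForm G) (D i))
    (ho : ∀ i j, i ≠ j → AreOrthogonalFor (gramForm G) (D i) (D j)) : iSupIndep D := by
  intro i
  have h1 : (⨆ j, ⨆ _ : j ≠ i, D j) ≤ perp G (D i) :=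
    iSup₂_le fun j hj v hv => mem_perp.mpr fun w hw => ho i j (Ne.symm hj) w hw v hv
  refine Submodule.disjoint_def.mpr fun v hv hv' => ?_
  by_contra h0
  obtain ⟨x, hx, hne⟩ := (hn i v hv h0).1
  exact hne (mem_perp.mp (h1 hv') x hx)

/-- Over the field with three elements a tensor product with a symmetric form on three dimensions has a frame. -/
theorem blocks_three (hq : Fintype.card F = 3) {n : ℕ} (hn : 0 < n) {e : ι ≃ Fin n × Fin 3}
    {P : GL ι F} {f₁ : (Fin n → F) → (Fin n → F) → F} {f₂ : (Fin 3 → F) → (Fin 3 → F) → F}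
    (h1 : IsSymmetricForm f₁) (h2 : IsSymmetricForm f₂) (hf : IsTensorFormStructure id (gramForm G) f₁ f₂ e P) :
    ∃ D : Fin 3 → Submodule F (ι → F), IsNondegenerateMDecomposition (gramForm G) n D ∧
      tensorProductSubgroup n 3 e P ⊓ Isom G ≤ decompositionStabilizer D := by
  classical
  obtain ⟨h3, hF⟩ := three_facts hq
  obtain ⟨c, hc, hf⟩ := hf
  have hg1 := gramForm_gramMatrix h1.bilinear
  have hg2 := gramForm_gramMatrix h2.bilinear
  set G₁ := gramMatrix f₁
  set G₂ := gramMatrix f₂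
  have hG₁ : G₁.det ≠ 0 :=
    (Cfsg.Agent.Lib.PrimeDim.Fields.isSesqui_of_bilinear h1.bilinear).det_ne_zero Function.bijective_id h1.nondegenerate
  have hG₂ : G₂.det ≠ 0 :=
    (Cfsg.Agent.Lib.PrimeDim.Fields.isSesqui_of_bilinear h2.bilinear).det_ne_zero Function.bijective_id h2.nondegenerate
  have hs : G₂ᵀ = G₂ := by ext i j; exact h2.symm _ _
  have hin : gramIn G e P = c • (G₁ ⊗ₖ G₂) := gramForm_ext fun x y => by
    rw [← gramForm_in, hf]
    simp [formOfGram, gramForm, dotProduct, Matrix.mulVec, Finset.mul_sum, mul_assoc, mul_left_comm]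
  obtain ⟨M, κ, hκ, hM⟩ := exists_frame hq hs hG₂
  have hMd : M.det ≠ 0 := by
    intro h
    have := congrArg Matrix.det hM
    rw [Matrix.det_mul, Matrix.det_mul, h, mul_zero, Matrix.det_smul, Matrix.det_one, mul_one] at this
    exact pow_ne_zero _ hκ this.symm
  have hMu : IsUnit M.det := isUnit_iff_ne_zero.mpr hMd
  let fr : Fin 3 → (Fin 3 → F) := fun i => M *ᵥ Pi.single i 1
  have hfr : ∀ i j, gramForm G₂ (fr i) (fr j) = if i = j then κ else 0 := fun i j => by
    simp only [fr, gramForm_apply, hM, gramForm_single]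
    simp [Matrix.one_apply]
  let L : Fin 3 → (Fin n → F) →ₗ[F] (ι → F) := fun i =>
    { toFun := fun u => (P : Matrix ι ι F) *ᵥ (pt u (fr i) ∘ e)
      map_add' := fun u v => by
        rw [← Matrix.mulVec_add]; congr 1; funext a; simp [pt, add_mul]
      map_smul' := fun s u => by
        rw [RingHom.id_apply, ← Matrix.mulVec_smul]; congr 1; funext a; simp [pt, mul_assoc] }
  have hL : ∀ i j u v, gramForm G (L i u) (L j v) = c * (if i = j then κ else 0) * gramForm G₁ u v :=
    fun i j u v => by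
      show gramForm G ((P : Matrix ι ι F) *ᵥ (pt u (fr i) ∘ e)) ((P : Matrix ι ι F) *ᵥ (pt v (fr j) ∘ e)) = _
      rw [gramForm_in, hin, gramForm, Matrix.smul_mulVec, dotProduct_smul, smul_eq_mul,
        show pt u (fr i) ⬝ᵥ (G₁ ⊗ₖ G₂) *ᵥ pt v (fr j) = _ from gramForm_pt G₁ G₂ u v (fr i) (fr j), hfr]
      ring
  have hinj : ∀ i, Function.Injective (L i) := fun i u v h => by
    by_contra hne
    obtain ⟨w, hw⟩ := (gramForm_nondegenerate hG₁ (u - v) (sub_ne_zero.mpr hne)).2
    have := hL i i (u - v) w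
    rw [map_sub, h, sub_self, if_pos rfl] at this
    simp [gramForm, hc, hκ] at this hw
    exact hw this
  let D : Fin 3 → Submodule F (ι → F) := fun i => LinearMap.range (L i)
  have hn' : ∀ i, IsNondegenerateOn (gramForm G) (D i) := by
    rintro i _ ⟨u, rfl⟩ h0
    have hu : u ≠ 0 := fun h => h0 (by rw [h, map_zero])
    obtain ⟨⟨w, hw⟩, ⟨w', hw'⟩⟩ := gramForm_nondegenerate hG₁ u hu
    exact ⟨⟨L i w, ⟨w, rfl⟩, by rw [hL, if_pos rfl]; exact mul_ne_zero (mul_ne_zero hc hκ) hw⟩,
      ⟨L i w', ⟨w', rfl⟩, by rw [hL, if_pos rfl]; exact mul_ne_zero (mul_ne_zero hc hκ) hw'⟩⟩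
  have ho : ∀ i j, i ≠ j → AreOrthogonalFor (gramForm G) (D i) (D j) := by
    rintro i j hij _ ⟨u, rfl⟩ _ ⟨v, rfl⟩
    rw [hL, if_neg hij]; ring
  refine ⟨D, ⟨⟨by norm_num, hn, fun i => ?_, indep_of_orth' hn' ho, ?_⟩, hn', ho⟩, ?_⟩
  · rw [LinearMap.finrank_range_of_inj (hinj i), Module.finrank_pi, Fintype.card_fin]
  · rw [eq_top_iff]
    intro v _
    let a : Fin 3 → Fin n → F := fun i x => (M⁻¹ *ᵥ fun y => toX e P v (x, y)) i
    have hv : v = ∑ i, L i (a i) := by
      show v = ∑ i, (P : Matrix ι ι F) *ᵥ (pt (a i) (fr i) ∘ e)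
      rw [← Matrix.mulVec_sum]
      conv_lhs => rw [← mk_toX e P v]
      congr 1
      funext k
      have h := congrFun (congrArg (· *ᵥ fun y => toX e P v ((e k).1, y)) (Matrix.mul_nonsing_inv M hMu)) (e k).2
      simp only [← Matrix.mulVec_mulVec, Matrix.one_mulVec] at h
      rw [Finset.sum_apply, Function.comp_apply, ← h, Matrix.mulVec, dotProduct]
      refine Finset.sum_congr rfl fun i _ => ?_
      simp [pt, fr, a, Matrix.mulVec_single_one, mul_comm]
    rw [hv]
    exact Submodule.sum_mem _ fun i _ => Submodule.mem_iSup_of_mem i ⟨_, rfl⟩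
  rintro g ⟨hgT, hgI⟩
  obtain ⟨_, ⟨g₀, ⟨A, B, hAB⟩, rfl⟩, rfl⟩ := hgT
  have hg0 : g₀ ∈ Isom (gramIn G e P) := by
    have := symm_isom hgI e P
    rwa [show ((MulAut.conj P).toMonoidHom ((glReindex e.symm).toMonoidHom g₀) : GL ι F) = coordGL e P g₀ from rfl,
      MulEquiv.symm_apply_apply] at this
  rw [mem_isom, hin, hAB] at hg0
  simp only [Matrix.mul_smul, Matrix.smul_mul, ← Matrix.kroneckerMap_transpose, ← Matrix.mul_kronecker_mul] at hg0
  have heq := smul_right_injective _ hc hg0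
  obtain ⟨i₀, j₀, hij₀⟩ : ∃ i j, G₁ i j ≠ 0 := by
    by_contra! h
    haveI : Nonempty (Fin n) := ⟨⟨0, hn⟩⟩
    exact hG₁ (by rw [show G₁ = 0 from Matrix.ext h, Matrix.det_zero])
  set ρ := ((A : Matrix (Fin n) (Fin n) F)ᵀ * G₁ * (A : Matrix (Fin n) (Fin n) F)) i₀ j₀
  have hBG : ρ • ((B : Matrix (Fin 3) (Fin 3) F)ᵀ * G₂ * (B : Matrix (Fin 3) (Fin 3) F)) = G₁ i₀ j₀ • G₂ := by
    ext a b
    simpa using congrFun (congrFun heq (i₀, a)) (j₀, b)
  have hρ : ρ ≠ 0 := fun h => by
    rw [h, zero_smul] at hBG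
    rcases smul_eq_zero.mp hBG.symm with h | h
    · exact hij₀ h
    · exact hG₂ (by rw [h, Matrix.det_zero])
  set γ := ρ⁻¹ * G₁ i₀ j₀
  have hB2 : (B : Matrix (Fin 3) (Fin 3) F)ᵀ * G₂ * (B : Matrix (Fin 3) (Fin 3) F) = γ • G₂ := by
    rw [show γ • G₂ = ρ⁻¹ • (G₁ i₀ j₀ • G₂) from mul_smul _ _ _, ← hBG, smul_smul, inv_mul_cancel₀ hρ, one_smul]
  set C := M⁻¹ * (B : Matrix (Fin 3) (Fin 3) F) * M with hC
  have hMC : M * C = (B : Matrix (Fin 3) (Fin 3) F) * M := by
    rw [hC, ← mul_assoc, ← mul_assoc, Matrix.mul_nonsing_inv M hMu, one_mul]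
  have hCC : κ • (Cᵀ * C) = (γ * κ) • (1 : Matrix (Fin 3) (Fin 3) F) := by
    calc κ • (Cᵀ * C) = Cᵀ * (Mᵀ * G₂ * M) * C := by rw [hM, Matrix.mul_smul, Matrix.smul_mul, mul_one]
      _ = (M * C)ᵀ * G₂ * (M * C) := by rw [Matrix.transpose_mul M C]; simp only [mul_assoc]
      _ = Mᵀ * ((B : Matrix (Fin 3) (Fin 3) F)ᵀ * G₂ * (B : Matrix (Fin 3) (Fin 3) F)) * M := by
          rw [hMC, Matrix.transpose_mul]; simp only [mul_assoc]
      _ = _ := by rw [hB2, Matrix.mul_smul, Matrix.smul_mul, hM, smul_smul]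
  have hCC' : Cᵀ * C = γ • (1 : Matrix (Fin 3) (Fin 3) F) := by
    apply smul_right_injective _ hκ
    simp only [hCC, smul_smul, mul_comm]
  have hγ : γ = 1 := by
    have h := congrArg Matrix.det hCC'
    rw [Matrix.det_mul, Matrix.det_transpose, Matrix.det_smul, Matrix.det_one, mul_one, Fintype.card_fin] at h
    have hd : C.det ≠ 0 := by
      rw [hC, Matrix.det_mul, Matrix.det_mul]
      exact mul_ne_zero (mul_ne_zero (Matrix.isUnit_nonsing_inv_det _ hMu).ne_zero
        ((Matrix.isUnit_iff_isUnit_det _).mp B.isUnit).ne_zero) hMd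
    rcases (hF C.det).resolve_left hd with e | e <;> rw [e] at h <;>
      rcases hF γ with r | r | r <;> rw [r] at h ⊢ <;>
      first
        | (exfalso; exact one_ne_zero (show (1 : F) = 0 by linear_combination h))
        | (exfalso; exact one_ne_zero (show (1 : F) = 0 by linear_combination h3 - h))
        | (exfalso; exact one_ne_zero (show (1 : F) = 0 by linear_combination h + h3))
  rw [hγ, one_smul] at hCC'
  have hcol : ∀ j, ∃ i, C i j ≠ 0 ∧ ∀ i', i' ≠ i → C i' j = 0 := fun j => by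
    have h := congrFun (congrFun hCC' j) j
    simp only [Matrix.mul_apply, Matrix.transpose_apply, Fin.sum_univ_three, Matrix.one_apply_eq] at h
    have hz : C 0 j = 0 ∨ C 0 j * C 0 j = 1 := by rcases hF (C 0 j) with e | e | e <;> simp [e]
    have ho' : C 1 j = 0 ∨ C 1 j * C 1 j = 1 := by rcases hF (C 1 j) with e | e | e <;> simp [e]
    have ht : C 2 j = 0 ∨ C 2 j * C 2 j = 1 := by rcases hF (C 2 j) with e | e | e <;> simp [e]
    rcases hz with z | z <;> rcases ho' with o | o <;> rcases ht with w | w <;>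
      simp only [z, o, w, mul_zero, zero_add, add_zero, zero_ne_one] at h
    · exact ⟨2, fun e => by simp [e] at w, fun i hi => by fin_cases i <;> simp_all⟩
    · exact ⟨1, fun e => by simp [e] at o, fun i hi => by fin_cases i <;> simp_all⟩
    · exact absurd (show (1 : F) = 0 by linear_combination h) one_ne_zero
    · exact ⟨0, fun e => by simp [e] at z, fun i hi => by fin_cases i <;> simp_all⟩
    · exact absurd (show (1 : F) = 0 by linear_combination h) one_ne_zero
    · exact absurd (show (1 : F) = 0 by linear_combination h) one_ne_zero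
    · exact absurd (show (1 : F) = 0 by linear_combination h3 - h) one_ne_zero
  choose s hs1 hs0 using hcol
  have hsinj : Function.Injective s := fun j j' h => by
    by_contra hne
    have h' := congrFun (congrFun hCC' j) j'
    rw [Matrix.mul_apply, Finset.sum_eq_single (s j) (fun i _ hi => by
      rw [Matrix.transpose_apply, hs0 j i hi, zero_mul]) (by simp), Matrix.one_apply_ne hne,
      Matrix.transpose_apply] at h'
    exact mul_ne_zero (hs1 j) (h ▸ hs1 j') h'
  refine ⟨Equiv.ofBijective s ⟨hsinj, Finite.surjective_of_injective hsinj⟩, fun j => ?_⟩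
  have hBfr : (B : Matrix (Fin 3) (Fin 3) F) *ᵥ fr j = C (s j) j • fr (s j) := by
    simp only [fr, Matrix.mulVec_mulVec, ← hMC, ← Matrix.mulVec_smul]
    rw [← Matrix.mulVec_mulVec]
    congr 1
    rw [Matrix.mulVec_single_one]
    funext i
    rcases eq_or_ne i (s j) with rfl | hi
    · simp
    · simp [hs0 j i hi, Pi.single_eq_of_ne hi]
  have himg : ∀ u, (((MulAut.conj P).toMonoidHom ((glReindex e.symm).toMonoidHom g₀) : GL ι F) : Matrix ι ι F) *ᵥ
      L j u = L (s j) (C (s j) j • ((A : Matrix (Fin n) (Fin n) F) *ᵥ u)) := fun u => by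
    show (coordGL e P g₀ : Matrix ι ι F) *ᵥ ((P : Matrix ι ι F) *ᵥ (pt u (fr j) ∘ e)) =
      (P : Matrix ι ι F) *ᵥ (pt (C (s j) j • ((A : Matrix (Fin n) (Fin n) F) *ᵥ u)) (fr (s j)) ∘ e)
    rw [← mk_toX e P ((coordGL e P g₀ : Matrix ι ι F) *ᵥ _), coordGL_val, toX_coord, toX_mk, hAB, kron_mulVec_pt,
      hBfr]
    congr 2
    funext p
    simp [pt]; ring
  refine Submodule.eq_of_le_of_finrank_le ?_ ?_
  · rintro _ ⟨_, ⟨u, rfl⟩, rfl⟩
    rw [Matrix.toLin'_apply, himg]
    exact ⟨_, rfl⟩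
  · refine le_of_eq ?_
    show Module.finrank F (LinearMap.range (L (s j))) = Module.finrank F ((LinearMap.range (L j)).map (Matrix.toLin' _))
    rw [← LinearMap.range_comp, LinearMap.finrank_range_of_inj (hinj _), LinearMap.finrank_range_of_inj]
    intro x y h
    simp only [LinearMap.comp_apply, Matrix.toLin'_apply] at h
    apply hinj j
    simpa only [inv_mulVec_cancel] using congrArg (fun w => ((((MulAut.conj P).toMonoidHom ((glReindex e.symm).toMonoidHom g₀))⁻¹ : GL ι F) : Matrix ι ι F) *ᵥ w) h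

end Cfsg.Agent.Lib.AschbacherEvenDim
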