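import Cfsg.Agent.Lib.AschbacherEvenDim.Sums
import Cfsg.Agent.Lib.AschbacherOrth.OddDim

/-!
Criteria for plus type: field structures, subfield structures, lines, and two odd halves.
-/

set_option autoImplicit false
set_option linter.unusedSectionVars false
set_option linter.style.haveILetI false

namespace Cfsg.Agent.Lib.AschbacherEvenDim

open Cfsg.Geo Module QuadraticMap Cfsg.Agent.Lib.Forms Cfsg.Agent.Lib.Subspaces.OrthForm
open Cfsg.Agent.Lib.Subspaces.OmegaGL Cfsg.Agent.Lib.Subspaces.OrthNondeg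
open scoped Matrix

variable {ι : Type} [Fintype ι] [DecidableEq ι] {F : Type*} [Field F] [Fintype F] {Q : (ι → F) → F}
  (hQ : IsNondegenerateQuadraticForm Q)
include hQ

local notation "B" => QuadraticMap.polar Q

omit hQ in
theorem exists_inv_mulVec {r : ℕ} {K : Subalgebra F (Matrix ι ι F)} (hK : IsFieldSubalgebra r K) {k : Matrix ι ι F}
    (hk : k ∈ K) (h0 : k ≠ 0) : ∃ k' ∈ K, ∀ v, k *ᵥ (k' *ᵥ v) = v := by
  obtain ⟨k', hk', h⟩ := hK.inv k hk h0
  exact ⟨k', hk', fun v => by rw [Matrix.mulVec_mulVec, h, Matrix.one_mulVec]⟩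

/-- A structure over a quadratic extension by similarities: minus type for odd `m`, plus type for even `m`. -/
theorem field_two_type [Nonempty ι] {m : ℕ} (hn : Fintype.card ι = 2 * m) {K : Subalgebra F (Matrix ι ι F)}
    (hK : IsFieldSubalgebra 2 K) (hsim : ∀ k ∈ K, ∃ c : F, ∀ v : ι → F, Q (k *ᵥ v) = c * Q v) :
    (Odd m → ¬ IsPlusTypeOn Q ⊤) ∧ (Even m → IsPlusTypeOn Q ⊤) := by
  classical
  have hb := hQ.polar_bilinear
  have hsimB : ∀ k ∈ K, ∃ c : F, ∀ u v : ι → F, B (k *ᵥ u) (k *ᵥ v) = c * B u v := by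
    intro k hk
    obtain ⟨c, hc⟩ := hsim k hk
    exact ⟨c, fun u v => by simp only [QuadraticMap.polar, ← Matrix.mulVec_add, hc]; ring⟩
  have : Finite (Submodule F (ι → F)) := Finite.of_injective _ SetLike.coe_injective
  obtain ⟨L, ⟨hL, hLK⟩, hLmax⟩ := Set.exists_max_image
    {L : Submodule F (ι → F) | IsTotallySingularQuad Q L ∧ ∀ k ∈ K, ∀ v ∈ L, k *ᵥ v ∈ L}
    (fun L => finrank F L) (Set.toFinite _)
    ⟨⊥, fun w hw => by rw [(Submodule.mem_bot F).mp hw, Q_zero hQ], fun k _ v hv => by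
      rw [(Submodule.mem_bot F).mp hv, Matrix.mulVec_zero]; exact zero_mem _⟩
  have hperp : ∀ k ∈ K, ∀ z, (∀ x ∈ L, B z x = 0) → ∀ x ∈ L, B (k *ᵥ z) x = 0 := by
    intro k hk z hz x hx
    by_cases h0 : k = 0
    · rw [h0, Matrix.zero_mulVec, B_comm, zero_right hQ]
    obtain ⟨k', hk', hkk⟩ := exists_inv_mulVec hK hk h0
    obtain ⟨c, hc⟩ := hsimB k hk
    rw [← hkk x, hc, hz _ (hLK k' hk' x hx), mul_zero]
  have hmax : ∀ z, Q z = 0 → (∀ w ∈ L, B z w = 0) → z ∈ L := by
    intro z hz hzL
    let f : Matrix ι ι F →ₗ[F] (ι → F) :=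
      { toFun := fun M => M *ᵥ z
        map_add' := fun a b => Matrix.add_mulVec a b z
        map_smul' := fun c a => Matrix.smul_mulVec c a z }
    set X := (Subalgebra.toSubmodule K).map f
    have hX : IsTotallySingularQuad Q X := by
      rintro _ ⟨k, hk, rfl⟩
      obtain ⟨c, hc⟩ := hsim k hk
      show Q (k *ᵥ z) = 0
      rw [hc, hz, mul_zero]
    have hLX : IsTotallySingularQuad Q (L ⊔ X) := ts_sup hQ hL hX fun u hu x hx => by
      obtain ⟨k, hk, rfl⟩ := hx
      rw [B_comm]
      exact hperp k hk z hzL u hu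
    have hinv : ∀ k ∈ K, ∀ v ∈ L ⊔ X, k *ᵥ v ∈ L ⊔ X := by
      intro k hk v hv
      obtain ⟨a, ha, b, hb', rfl⟩ := Submodule.mem_sup.mp hv
      obtain ⟨k', hk', rfl⟩ := hb'
      rw [Matrix.mulVec_add]
      refine Submodule.add_mem_sup (hLK k hk a ha) ⟨k * k', K.mul_mem hk hk', ?_⟩
      show (k * k') *ᵥ z = k *ᵥ (k' *ᵥ z)
      rw [Matrix.mulVec_mulVec]
    have hle := hLmax _ ⟨hLX, hinv⟩
    have heq : L = L ⊔ X := Submodule.eq_of_le_of_finrank_le le_sup_left hle
    rw [heq]
    exact Submodule.mem_sup_right ⟨1, one_mem K, Matrix.one_mulVec z⟩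
  have heven : Even (finrank F L) := by
    letI : Field K := IsField.toField (R := K)
      { exists_pair_ne := ⟨0, 1, fun he => zero_ne_one (congrArg Subtype.val he)⟩
        mul_comm := fun x y => Subtype.ext (hK.comm x x.2 y y.2)
        mul_inv_cancel := fun {x} hx => by
          obtain ⟨y, hy, hxy⟩ := hK.inv x x.2 (fun he => hx (Subtype.ext he))
          exact ⟨⟨y, hy⟩, Subtype.ext hxy⟩ }
    letI : Module K L :=
      { smul := fun k v => ⟨(k : Matrix ι ι F) *ᵥ v.1, hLK k k.2 v.1 v.2⟩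
        one_smul := fun v => Subtype.ext (Matrix.one_mulVec _)
        mul_smul := fun a b v => Subtype.ext (Matrix.mulVec_mulVec _ _ _).symm
        smul_zero := fun a => Subtype.ext (Matrix.mulVec_zero _)
        smul_add := fun a v w => Subtype.ext (Matrix.mulVec_add _ _ _)
        add_smul := fun a b v => Subtype.ext (Matrix.add_mulVec _ _ _)
        zero_smul := fun v => Subtype.ext (Matrix.zero_mulVec _) }
    haveI : Finite K := Finite.of_injective (fun x : K => (x : Matrix ι ι F)) Subtype.val_injective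
    haveI : Module.Finite K L := Module.Finite.of_finite
    have hK' : Nat.card K = Fintype.card F ^ 2 := by
      rw [Module.natCard_eq_pow_finrank (K := F) (V := K), hK.finrank_eq, Nat.card_eq_fintype_card]
    have h := Module.natCard_eq_pow_finrank (K := K) (V := L)
    rw [hK', ← pow_mul, Module.natCard_eq_pow_finrank (K := F) (V := L), Nat.card_eq_fintype_card] at h
    exact ⟨finrank K L, by rw [Nat.pow_right_injective (Fintype.one_lt_card (α := F)) h]; ring⟩
  have h2 := two_dim_le hQ hL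
  refine ⟨fun hm => not_plus_of_maximal hQ hL hmax ?_, fun hm => ?_⟩
  · obtain ⟨a, ha⟩ := heven
    obtain ⟨b, hb'⟩ := hm
    omega
  · by_contra hnp
    have hne : 2 * finrank F L ≠ Fintype.card ι := fun h => hnp (plus_of_ts hL h)
    obtain ⟨a, ha⟩ := heven
    obtain ⟨b, hb'⟩ := hm
    obtain ⟨z, hz, hzp, hzn⟩ := exists_extend hQ (L := L) (by omega)
    exact hzn (hmax z hz hzp)

set_option maxHeartbeats 1000000 in
/-- A structure over a subfield of index two makes the form of plus type. -/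
theorem plus_of_index_two [Nonempty ι] {m : ℕ} (hn : Fintype.card ι = 2 * m) {F₀ : Subfield F} {P : GL ι F} {ζ : F}
    (hq : Fintype.card F = Nat.card F₀ ^ 2) (hζ : ζ ≠ 0)
    (hP : IsQuadFormRationalStructure (fun v => ζ * Q v) F₀ P) : IsPlusTypeOn Q ⊤ := by
  classical
  have hb := hQ.polar_bilinear
  letI : Fintype F₀ := Fintype.ofFinite F₀
  let c : (ι → F₀) → (ι → F) := fun u i => (u i : F)
  let Φ : (ι → F₀) → (ι → F) := fun u => (P : Matrix ι ι F) *ᵥ c u
  have hΦa : ∀ u v, Φ (u + v) = Φ u + Φ v := fun u v => by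
    simp only [Φ]
    rw [← Matrix.mulVec_add]
    rfl
  have hΦs : ∀ (a : F₀) u, Φ (a • u) = (a : F) • Φ u := fun a u => by
    simp only [Φ]
    rw [← Matrix.mulVec_smul]
    rfl
  let q : (ι → F₀) → F₀ := fun u => ⟨ζ * Q (Φ u), hP (c u) (fun i => (u i).2)⟩
  have hqv : ∀ u, ((q u : F₀) : F) = ζ * Q (Φ u) := fun _ => rfl
  have hpol : ∀ u v, ((QuadraticMap.polar q u v : F₀) : F) = ζ * B (Φ u) (Φ v) := fun u v => by
    simp only [QuadraticMap.polar, AddSubgroupClass.coe_sub, hqv, hΦa]
    ring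
  have hq0 : IsNondegenerateQuadraticForm q := by
    refine ⟨fun a u => Subtype.ext ?_, ⟨fun x y v => Subtype.ext ?_, fun a x v => Subtype.ext ?_,
      fun v x y => Subtype.ext ?_, fun a v x => Subtype.ext ?_⟩, fun v hv => ?_⟩
    · rw [MulMemClass.coe_mul, SubmonoidClass.coe_pow, hqv, hqv, hΦs, hQ.smul]; ring
    · rw [AddMemClass.coe_add, hpol, hpol, hpol, hΦa, hb.add_left, mul_add]
    · rw [MulMemClass.coe_mul, hpol, hpol, hΦs, hb.smul_left]; ring
    · rw [AddMemClass.coe_add, hpol, hpol, hpol, hΦa, hb.add_right, mul_add]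
    · rw [MulMemClass.coe_mul, hpol, hpol, hΦs, hb.smul_right]; ring
    · have hv0 : Φ v ≠ 0 := fun h => hv (funext fun i => Subtype.ext (by
        have h1 := congrArg (fun w => ((P⁻¹ : GL ι F) : Matrix ι ι F) *ᵥ w) h
        simp only [Φ, Matrix.mulVec_mulVec, Units.inv_mul, Matrix.one_mulVec, Matrix.mulVec_zero] at h1
        exact congrFun h1 i))
      obtain ⟨w, hw⟩ := (hQ.nondegenerate _ hv0).2
      -- some basis vector pairs non-trivially
      have : ∃ i, B (Φ v) (Φ (Pi.single i 1)) ≠ 0 := by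
        by_contra! hc
        refine hw ?_
        have hsp : w = ∑ i, (((P⁻¹ : GL ι F) : Matrix ι ι F) *ᵥ w) i • Φ (Pi.single i 1) := by
          have he : ∀ i, Φ (Pi.single i 1) = (P : Matrix ι ι F) *ᵥ Pi.single i 1 := fun i => by
            simp only [Φ]
            congr 1
            funext j
            rcases eq_or_ne i j with rfl | h
            · simp [c]
            · simp [c, Pi.single_eq_of_ne' h]
          simp only [he, ← Matrix.mulVec_smul, ← Matrix.mulVec_sum]
          rw [← pi_eq_sum_univ', Matrix.mulVec_mulVec, Units.mul_inv, Matrix.one_mulVec]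
        let f : (ι → F) →ₗ[F] F :=
          { toFun := fun x => B (Φ v) x, map_add' := fun a b => hb.add_right _ a b,
            map_smul' := fun a b => hb.smul_right a _ b }
        show f w = 0
        rw [hsp, map_sum]
        exact Finset.sum_eq_zero fun i _ => by
          rw [map_smul]; show _ • B (Φ v) _ = 0; rw [hc, smul_zero]
      obtain ⟨i, hi⟩ := this
      refine ⟨⟨Pi.single i 1, fun h => hi ?_⟩, ⟨Pi.single i 1, fun h => hi ?_⟩⟩ <;>
        refine (mul_eq_zero.mp ?_).resolve_left hζ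
      · rw [QuadraticMap.polar_comm q] at h; rw [← hpol, h]; rfl
      · rw [← hpol, h]; rfl
  -- independent vectors stay independent
  have himg : ∀ {κ : Type} [Fintype κ] [DecidableEq κ] (v : κ → ι → F₀), LinearIndependent F₀ v →
      LinearIndependent F fun k => Φ (v k) := by
    intro κ _ _ v hv
    let g : (κ → F₀) →ₗ[F₀] (ι → F₀) := Matrix.toLin' (Matrix.of fun i k => v k i)
    obtain ⟨g', hg'⟩ := g.exists_leftInverse_of_injective (LinearMap.ker_eq_bot.mpr (by
      show Function.Injective (Matrix.mulVec (Matrix.of fun i k => v k i))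
      exact Matrix.mulVec_injective_iff.mpr hv))
    have hM : (LinearMap.toMatrix' g').map (F₀.subtype) * (Matrix.of fun i k => v k i).map (F₀.subtype) = 1 := by
      have h1 := congrArg LinearMap.toMatrix' hg'
      rw [LinearMap.toMatrix'_comp, LinearMap.toMatrix'_id, show g = Matrix.toLin' (Matrix.of fun i k => v k i) from rfl,
        LinearMap.toMatrix'_toLin'] at h1
      rw [← Matrix.map_mul, h1, Matrix.map_one] <;> simp
    rw [Fintype.linearIndependent_iff]
    intro x hx k
    have h1 : (P : Matrix ι ι F) *ᵥ ((Matrix.of fun i k => v k i).map (F₀.subtype) *ᵥ x) = 0 := by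
      rw [← hx, show (Matrix.of fun i k => v k i).map (F₀.subtype) *ᵥ x = ∑ k, x k • c (v k) by
        funext i
        simp [Matrix.mulVec, dotProduct, c, Finset.sum_apply, mul_comm], Matrix.mulVec_sum]
      exact Finset.sum_congr rfl fun k _ => Matrix.mulVec_smul _ _ _
    have h2 := congrArg (fun w => (LinearMap.toMatrix' g').map (F₀.subtype) *ᵥ
      (((P⁻¹ : GL ι F) : Matrix ι ι F) *ᵥ w)) h1
    rw [Matrix.mulVec_zero, Matrix.mulVec_zero, Matrix.mulVec_mulVec _ ((P⁻¹ : GL ι F) : Matrix ι ι F), Units.inv_mul,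
      Matrix.one_mulVec, Matrix.mulVec_mulVec, hM, Matrix.one_mulVec] at h2
    exact congrFun h2 k
  have : Finite (Submodule F₀ (ι → F₀)) := Finite.of_injective _ SetLike.coe_injective
  obtain ⟨L, hL, hLmax⟩ := Set.exists_max_image {L : Submodule F₀ (ι → F₀) | IsTotallySingularQuad q L}
    (fun L => finrank F₀ L) (Set.toFinite _)
    ⟨⊥, fun w hw => by rw [(Submodule.mem_bot F₀).mp hw, Q_zero hq0]⟩
  let bL := Module.finBasis F₀ L
  let v : Fin (finrank F₀ L) → ι → F₀ := fun k => ((bL k : L) : ι → F₀)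
  have hvi : LinearIndependent F₀ v := bL.linearIndependent.map' L.subtype (Submodule.ker_subtype L)
  set Y := Submodule.span F (Set.range fun k => Φ (v k)) with hYdef
  have hYd : finrank F Y = finrank F₀ L := by
    rw [hYdef, finrank_span_eq_card (himg v hvi), Fintype.card_fin]
  have key : ∀ u w, QuadraticMap.polar q u w = 0 → B (Φ u) (Φ w) = 0 := fun u w h => by
    have := hpol u w
    rw [h] at this
    exact (mul_eq_zero.mp this.symm).resolve_left hζ
  have hYperp : ∀ u, (∀ w ∈ L, QuadraticMap.polar q u w = 0) → ∀ y ∈ Y, B (Φ u) y = 0 := by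
    intro u hu y hy
    induction hy using Submodule.span_induction with
    | mem z hz =>
      obtain ⟨k, rfl⟩ := hz
      exact key u _ (hu _ (bL k).2)
    | zero => exact zero_right hQ _
    | add p r _ _ hp hr => rw [hb.add_right, hp, hr, add_zero]
    | smul s p _ hp => rw [hb.smul_right, hp, mul_zero]
  have hY : IsTotallySingularQuad Q Y := by
    intro y hy
    suffices Q y = 0 ∧ ∀ w ∈ Y, B y w = 0 from this.1
    induction hy using Submodule.span_induction with
    | mem y hy =>
      obtain ⟨k, rfl⟩ := hy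
      refine ⟨(mul_eq_zero.mp ?_).resolve_left hζ, hYperp _ fun w hw => ts_polar hL (bL k).2 hw⟩
      rw [← hqv, hL _ (bL k).2]; rfl
    | zero => exact ⟨Q_zero hQ, fun u _ => by rw [B_comm, zero_right hQ]⟩
    | add a b _ hb' ha hb'' =>
      exact ⟨by rw [Q_add (Q := Q), ha.1, hb''.1, ha.2 b hb']; ring,
        fun w hw => by rw [hb.add_left, ha.2 w hw, hb''.2 w hw, add_zero]⟩
    | smul s a _ ha => exact ⟨by rw [hQ.smul, ha.1, mul_zero], fun w hw => by rw [hb.smul_left, ha.2 w hw, mul_zero]⟩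
  by_contra hnp
  have hlt : 2 * finrank F₀ L < Fintype.card ι := lt_of_le_of_ne (two_dim_le hq0 hL) fun h =>
    hnp (plus_of_ts hY (by rw [hYd, h]))
  have hperpd := finrank_perpQ hq0 L
  have hLP : L ≤ perpQ hq0 L := le_perp_self hq0 hL
  have hmax : ∀ z, q z = 0 → (∀ w ∈ L, QuadraticMap.polar q z w = 0) → z ∈ L := by
    intro z hz hzL
    by_contra hzn
    have hs : IsTotallySingularQuad q (L ⊔ Submodule.span F₀ {z}) := ts_sup hq0 hL
      (fun x hx => by
        obtain ⟨a, rfl⟩ := Submodule.mem_span_singleton.mp hx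
        rw [hq0.smul, hz, mul_zero]) fun u hu x hx => by
      obtain ⟨a, rfl⟩ := Submodule.mem_span_singleton.mp hx
      rw [hq0.polar_bilinear.smul_right, QuadraticMap.polar_comm, hzL u hu, mul_zero]
    have h1 := hLmax _ hs
    have h2 : L < L ⊔ Submodule.span F₀ {z} := left_lt_sup.mpr fun h => hzn (h (Submodule.mem_span_singleton_self z))
    have := Submodule.finrank_lt_finrank_of_lt h2
    omega
  have hsmall : Fintype.card ι < 2 * finrank F₀ L + 3 := by
    by_contra! h
    obtain ⟨z, hz, hzp, hzn⟩ := exists_extend hq0 h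
    exact hzn (hmax z hz hzp)
  -- two further vectors orthogonal to the maximal subspace
  obtain ⟨C, hC⟩ := Submodule.exists_isCompl L
  set C₀ : Submodule F₀ (ι → F₀) := C ⊓ perpQ hq0 L with hC₀
  have hsum : L ⊔ C₀ = perpQ hq0 L := by
    rw [hC₀, ← sup_inf_assoc_of_le C hLP, hC.sup_eq_top, top_inf_eq]
  have hdisj : L ⊓ C₀ = ⊥ := le_bot_iff.mp ((inf_le_inf_left L inf_le_left).trans hC.inf_eq_bot.le)
  have hCd : finrank F₀ C₀ = 2 := by
    have h1 := Submodule.finrank_sup_add_finrank_inf_eq L C₀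
    rw [hsum, hdisj, finrank_bot] at h1
    omega
  let bC := Module.finBasisOfFinrankEq F₀ C₀ hCd
  let w : Fin 2 → ι → F₀ := fun k => ((bC k : C₀) : ι → F₀)
  have hwP : ∀ k, w k ∈ perpQ hq0 L := fun k => (Submodule.mem_inf.mp (bC k).2).2
  have hli : LinearIndependent F₀ (Sum.elim v w) := by
    refine LinearIndependent.sum_type hvi ?_ ?_
    · exact bC.linearIndependent.map' C₀.subtype (Submodule.ker_subtype C₀)
    · exact (disjoint_iff.mpr hdisj).mono (Submodule.span_le.mpr (by rintro _ ⟨k, rfl⟩; exact (bL k).2))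
        (Submodule.span_le.mpr (by rintro _ ⟨k, rfl⟩; exact (bC k).2))
  have hliF := himg _ hli
  set a := Φ (w 0)
  set b := Φ (w 1)
  -- a zero over the extension
  obtain ⟨x, y, hxy, hzero⟩ : ∃ x y : F, (x ≠ 0 ∨ y ≠ 0) ∧ Q (x • a + y • b) = 0 := by
    have hval : ∀ x y : F, ζ * Q (x • a + y • b) = x ^ 2 * (q (w 0) : F) +
        x * y * ((QuadraticMap.polar q (w 0) (w 1) : F₀) : F) + y ^ 2 * (q (w 1) : F) := fun x y => by
      rw [hqv, hqv, hpol, Q_add (Q := Q), hQ.smul, hQ.smul, hb.smul_left, hb.smul_right]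
      ring
    by_cases ha0 : q (w 0) = 0
    · refine ⟨1, 0, Or.inl one_ne_zero, (mul_eq_zero.mp ?_).resolve_left hζ⟩
      rw [hval, ha0]; simp
    set p := QuadraticMap.polar q (w 0) (w 1) / q (w 0) with hp
    set r := q (w 1) / q (w 0) with hr
    have hK : finrank F₀ F = 2 := by
      have h1 := Module.card_eq_pow_finrank (K := F₀) (V := F)
      rw [hq, Nat.card_eq_fintype_card] at h1
      exact (Nat.pow_right_injective (Fintype.one_lt_card (α := F₀)) h1).symm
    have ha1 : (q (w 0) : F) ≠ 0 := fun h => ha0 (Subtype.ext h)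
    by_cases hab : OrthField.Aniso p r
    · obtain ⟨t, ht⟩ := AutPOmega.exists_root (K := F) p r hK hab
      refine ⟨t, 1, Or.inr one_ne_zero, (mul_eq_zero.mp ?_).resolve_left hζ⟩
      rw [hval]
      have e1 : algebraMap F₀ F p = ((QuadraticMap.polar q (w 0) (w 1) : F₀) : F) / (q (w 0) : F) := by
        rw [hp]; rfl
      have e2 : algebraMap F₀ F r = ((q (w 1) : F₀) : F) / (q (w 0) : F) := by
        rw [hr]; rfl
      rw [e1, e2] at ht
      field_simp at ht
      linear_combination ht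
    · simp only [OrthField.Aniso, not_forall] at hab
      obtain ⟨z₁, z₂, hz, hne⟩ := hab
      refine ⟨(z₁ : F), (z₂ : F), ?_, (mul_eq_zero.mp ?_).resolve_left hζ⟩
      · by_contra! h
        exact hne ⟨Subtype.ext h.1, Subtype.ext h.2⟩
      · rw [hval]
        have h1 : z₁ ^ 2 * q (w 0) + z₁ * z₂ * QuadraticMap.polar q (w 0) (w 1) + z₂ ^ 2 * q (w 1) = 0 := by
          have := congrArg (· * q (w 0)) hz
          simp only [hp, hr, zero_mul] at this
          rw [← this]
          field_simp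
        simpa using congrArg (fun e : F₀ => (e : F)) h1
  set z := x • a + y • b with hzdef
  have hzY : ∀ u ∈ Y, B z u = 0 := fun u hu => by
    rw [hb.add_left, hb.smul_left, hb.smul_left, hYperp _ (hwP 0) u hu, hYperp _ (hwP 1) u hu]; ring
  have hzn : z ∉ Y := by
    intro hz
    rw [hYdef, Submodule.mem_span_range_iff_exists_fun] at hz
    obtain ⟨c', hc'⟩ := hz
    have h1 := Fintype.linearIndependent_iff.mp hliF (Sum.elim c' ![-x, -y]) (by
      rw [Fintype.sum_sum_type]
      simp only [Sum.elim_inl, Sum.elim_inr, hc', Fin.sum_univ_two, Matrix.cons_val_zero, Matrix.cons_val_one]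
      rw [hzdef]
      module)
    rcases hxy with h | h
    · exact h (by simpa using h1 (Sum.inr 0))
    · exact h (by simpa using h1 (Sum.inr 1))
  have hspan : IsTotallySingularQuad Q (Submodule.span F {z}) := fun u hu => by
    obtain ⟨s, rfl⟩ := Submodule.mem_span_singleton.mp hu
    rw [hQ.smul, hzero, mul_zero]
  have hsup := ts_sup hQ hY hspan fun u hu e he => by
    obtain ⟨s, rfl⟩ := Submodule.mem_span_singleton.mp he
    rw [hb.smul_right, B_comm, hzY u hu, mul_zero]
  have h2 : Y < Y ⊔ Submodule.span F {z} := left_lt_sup.mpr fun h => hzn (h (Submodule.mem_span_singleton_self z))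
  have h3 := Submodule.finrank_lt_finrank_of_lt h2
  have h4 := two_dim_le hQ hsup
  exact hnp (plus_of_ts hsup (by omega))


open Cfsg.Agent.Lib.AschbacherSp (two_ne_zero')
open Cfsg.Agent.Lib.AschbacherOrth (gram_eq polar_self eq_half sym_gram)

/-- An orthogonal frame with one value: the type is decided by `(-1)^m`. -/
theorem plus_iff_of_lines (hodd : Odd (Fintype.card F)) {m : ℕ} (hn : Fintype.card ι = 2 * m) {κ : Type} [Fintype κ]
    [DecidableEq κ] (hκ : Fintype.card κ = Fintype.card ι) {v : κ → ι → F} {c : F} (hc : c ≠ 0)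
    (hvv : ∀ i j, B (v i) (v j) = if i = j then c else 0) :
    IsPlusTypeOn Q ⊤ ↔ IsSquare ((-1 : F) ^ m) := by
  classical
  have h2 := two_ne_zero' hodd
  have hb := hQ.polar_bilinear
  let Bl : LinearMap.BilinForm F (ι → F) := Matrix.toBilin' (gramMatrix B)
  have hBl : ∀ x y, Bl x y = B x y := fun x y => by
    rw [← gram_eq hQ]; simp only [Bl, Matrix.toBilin'_apply']; rfl
  have hli : LinearIndependent F v := by
    rw [Fintype.linearIndependent_iff]
    intro a ha i
    have h : Bl (∑ j, a j • v j) (v i) = 0 := by rw [ha, map_zero, LinearMap.zero_apply]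
    rw [map_sum, LinearMap.sum_apply, Finset.sum_eq_single i (fun j _ hj => by simp [hBl, hvv, hj])
      (by simp)] at h
    simpa [hBl, hvv, hc] using h
  let b : Basis κ F (ι → F) := Basis.mk hli (by
    refine le_of_eq (Submodule.eq_top_of_finrank_eq ?_).symm
    rw [finrank_span_eq_card hli, hκ, Module.finrank_fintype_fun_eq_card])
  have hbv : ∀ i, b i = v i := fun i => Basis.mk_apply _ _ i
  have hsym : Bl.IsSymm := ⟨fun x y => by simp only [hBl]; exact QuadraticMap.polar_comm Q x y⟩
  have hiff := Cfsg.Agent.Lib.Forms.Tensor.exists_lagrangian_iff h2 hsym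
    (LinearMap.BilinForm.nondegenerate_toBilin'_iff_det_ne_zero.mpr (sym_gram hQ).det_ne) b
    (fun i j hij => by rw [hbv, hbv, hBl, hvv, if_neg hij]) m (by rw [hκ, hn])
  have hprod : ∏ i, Bl (b i) (b i) = (c ^ m) * (c ^ m) := by
    simp only [hbv, hBl, hvv, if_pos, Finset.prod_const, Finset.card_univ, hκ, hn]
    ring
  rw [hprod] at hiff
  constructor
  · rintro ⟨U, -, hU, hd⟩
    rw [finrank_top, Module.finrank_fintype_fun_eq_card, hn] at hd
    obtain ⟨d, hd'⟩ := hiff.mp ⟨U, by omega, fun x hx y hy => by rw [hBl]; exact ts_polar hU hx hy⟩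
    exact ⟨d / c ^ m, by rw [div_mul_div_comm, eq_div_iff (mul_ne_zero (pow_ne_zero _ hc) (pow_ne_zero _ hc))]; exact hd'⟩
  · rintro ⟨d, hd⟩
    obtain ⟨X, hX, hXs⟩ := hiff.mpr ⟨d * c ^ m, by rw [hd]; ring⟩
    refine plus_of_ts (fun x hx => ?_) (by rw [hX, hn])
    rw [eq_half hQ hodd, ← hBl, hXs x hx x hx, zero_div]

/-- A half of dimension five has the shape `qPlus 2 + c x²`. -/
theorem five_shape {W : Submodule F (ι → F)} (hW : IsNondegenerateOn B W) (hd : finrank F W = 5) :
    ∃ c : F, c ≠ 0 ∧ (resQ hQ W).Equivalent ((qPlus 2).prod (qOne c)) := by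
  rcases classify (resQ hQ W) (resQ_nondeg hQ hW) with ⟨m, hm, -⟩ | ⟨m, c, hc, -, hm, he⟩ | ⟨m, a, b, -, hm, -⟩
  · omega
  · obtain rfl : m = 2 := by omega
    exact ⟨c, hc, he⟩
  · omega

/-- The type of a sum of two halves of dimension five. -/
theorem plus_iff_five (hn : Fintype.card ι = 10) {W : Submodule F (ι → F)} (hW : IsNondegenerateOn B W)
    (hd : finrank F W = 5) {c c' : F} (hc : c ≠ 0) (hc' : c' ≠ 0) (he : (resQ hQ W).Equivalent ((qPlus 2).prod (qOne c)))
    (he' : (resQ hQ (perpQ hQ W)).Equivalent ((qPlus 2).prod (qOne c'))) :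
    IsPlusTypeOn Q ⊤ ↔ IsSquare (-(c' / c)) := by
  classical
  have hb := hQ.polar_bilinear
  have key : ∀ {U : Submodule F (ι → F)} {d : F}, (resQ hQ U).Equivalent ((qPlus 2).prod (qOne d)) →
      ∃ (L : Submodule F (ι → F)) (w : ι → F), L ≤ U ∧ w ∈ U ∧ IsTotallySingularQuad Q L ∧ finrank F L = 2 ∧
        Q w = d ∧ w ≠ 0 ∧ (∀ l ∈ L, B w l = 0) ∧ ∀ x ∈ U, (∀ l ∈ L, B x l = 0) →
          ∃ l ∈ L, ∃ s : F, x = l + s • w := by
    intro U d hU
    obtain ⟨e⟩ := hU
    let g : ((Fin 2 ⊕ Fin 2 → F) × F) →ₗ[F] (ι → F) := U.subtype.comp e.toLinearEquiv.symm.toLinearMap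
    have hgQ : ∀ p, Q (g p) = qPlus 2 p.1 + d * (p.2 * p.2) := fun p => by
      have h : ((qPlus 2).prod (qOne d)) (e.toLinearEquiv (e.toLinearEquiv.symm p)) =
          resQ hQ U (e.toLinearEquiv.symm p) := e.map_app (e.toLinearEquiv.symm p)
      rw [LinearEquiv.apply_symm_apply] at h
      show resQ hQ U (e.toLinearEquiv.symm p) = _
      rw [← h]
      simp [QuadraticMap.prod_apply, qOne_apply]
    have hginj : Function.Injective g := U.injective_subtype.comp e.toLinearEquiv.symm.injective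
    have hgB : ∀ p r, B (g p) (g r) = polar (qPlus 2) p.1 r.1 + 2 * d * (p.2 * r.2) := fun p r => by
      simp only [QuadraticMap.polar, ← map_add, hgQ, Prod.fst_add, Prod.snd_add]
      ring
    let X := MaxSingular.stdX F 2
    let j : X →ₗ[F] ((Fin 2 ⊕ Fin 2 → F) × F) := (LinearMap.inl F (Fin 2 ⊕ Fin 2 → F) F).comp X.subtype
    refine ⟨LinearMap.range (g.comp j), g (0, 1), ?_, (e.toLinearEquiv.symm (0, 1)).2, ?_, ?_, ?_, ?_, ?_, ?_⟩
    · rintro _ ⟨x, rfl⟩; exact (e.toLinearEquiv.symm _).2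
    · rintro _ ⟨x, rfl⟩
      show Q (g ((x : Fin 2 ⊕ Fin 2 → F), 0)) = 0
      rw [hgQ, MaxSingular.isMax_stdX.2 _ x.2]
      ring
    · have hinj' : Function.Injective (g.comp j) := hginj.comp (LinearMap.inl_injective.comp X.injective_subtype)
      rw [LinearMap.finrank_range_of_inj hinj']
      exact MaxSingular.isMax_stdX.1
    · rw [hgQ]; simp
    · intro h
      have := congrArg Prod.snd (hginj (h.trans (map_zero g).symm))
      exact one_ne_zero this
    · rintro _ ⟨x, rfl⟩
      show B (g (0, 1)) (g ((x : Fin 2 ⊕ Fin 2 → F), 0)) = 0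
      rw [hgB]
      simp [QuadraticMap.polar]
    · intro x hx hxL
      obtain ⟨⟨p, s⟩, hp⟩ : ∃ q, g q = x := ⟨e.toLinearEquiv ⟨x, hx⟩, by
        show ((e.toLinearEquiv.symm (e.toLinearEquiv ⟨x, hx⟩) : U) : ι → F) = x
        rw [LinearEquiv.symm_apply_apply]⟩
      have hpX : p ∈ X := by
        have hperp : p ∈ MaxSingular.perp (qPlus (F := F) 2) X := MaxSingular.mem_perp.2 fun y hy => by
          have := hxL _ ⟨⟨y, hy⟩, rfl⟩
          rw [← hp] at this
          rw [QuadraticMap.polar_comm]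
          have h' : B (g (p, s)) (g (y, 0)) = 0 := this
          rw [hgB] at h'
          simpa using h'
        rwa [MaxSingular.perp_eq_self (qPlus_nondeg 2) MaxSingular.finrank_space MaxSingular.isMax_stdX] at hperp
      refine ⟨g (p, 0), ⟨⟨p, hpX⟩, rfl⟩, s, ?_⟩
      rw [← hp, ← map_smul, ← map_add]
      simp
  obtain ⟨L, w, hLW, hwW, hL, hLd, hw, hw0, hwL, hWdec⟩ := key he
  obtain ⟨L', w', hLW', hwW', hL', hLd', hw', hw0', hwL', hWdec'⟩ := key he'
  have horth : ∀ u ∈ W, ∀ v ∈ perpQ hQ W, B u v = 0 := fun u hu v hv => by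
    rw [QuadraticMap.polar_comm]; exact hv u hu
  have hWW : W ⊓ perpQ hQ W = ⊥ := by
    rw [eq_bot_iff]
    rintro y ⟨hy, hy'⟩
    by_contra h0
    obtain ⟨-, z, hz, hyz⟩ := hW y hy h0
    exact hyz (hy' z hz)
  have hX := ts_sup hQ hL hL' fun u hu v hv => horth u (hLW hu) v (hLW' hv)
  have hXd : finrank F ↥(L ⊔ L') = 4 := by
    have h := Submodule.finrank_sup_add_finrank_inf_eq L L'
    rw [le_bot_iff.mp ((inf_le_inf hLW hLW').trans hWW.le), finrank_bot, hLd, hLd'] at h
    omega
  constructor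
  · intro hV
    by_contra hns
    refine not_plus_of_maximal hQ hX (fun z hz hzX => ?_) (by omega) hV
    obtain ⟨a, ha, hza⟩ := exists_split (hQ := hQ) hW z
    set a' := z - a with ha'
    have hz' : z = a + a' := (add_sub_cancel a z).symm
    obtain ⟨l, hl, s, hs⟩ := hWdec a ha fun x hx => by
      have := hzX x (Submodule.mem_sup_left hx)
      rwa [hz', hb.add_left, hza x (hLW hx), add_zero] at this
    obtain ⟨l', hl', s', hs'⟩ := hWdec' a' hza fun x hx => by
      have := hzX x (Submodule.mem_sup_right hx)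
      rwa [hz', hb.add_left, horth a ha x (hLW' hx), zero_add] at this
    have hQa : Q a = c * s ^ 2 := by
      rw [hs, Q_add (Q := Q), hQ.smul, hb.smul_right, hL l hl, hw, QuadraticMap.polar_comm Q l w, hwL l hl]
      ring
    have hQa' : Q a' = c' * s' ^ 2 := by
      rw [hs', Q_add (Q := Q), hQ.smul, hb.smul_right, hL' l' hl', hw', QuadraticMap.polar_comm Q l' w', hwL' l' hl']
      ring
    have h0 : c * s ^ 2 + c' * s' ^ 2 = 0 := by
      rw [← hQa, ← hQa', ← hz, hz', Q_add (Q := Q), horth a ha a' hza, add_zero]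
    have hs'0 : s' = 0 := by
      by_contra hne
      refine hns ⟨s / s', ?_⟩
      field_simp
      linear_combination -h0
    have hs0 : s = 0 := by
      rw [hs'0] at h0
      simpa [hc] using h0
    rw [hz', hs, hs', hs0, hs'0, zero_smul, zero_smul, add_zero, add_zero]
    exact Submodule.add_mem_sup hl hl'
  · rintro ⟨t, ht⟩
    set z := t • w + w'
    have hzW : t • w ∈ W := W.smul_mem t hwW
    have hz : Q z = 0 := by
      rw [Q_add (Q := Q), hQ.smul, horth _ hzW _ hwW', hw, hw']
      field_simp at ht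
      linear_combination -ht
    have hzX : ∀ u ∈ L ⊔ L', B z u = 0 := fun u hu => by
      obtain ⟨l, hl, l', hl', rfl⟩ := Submodule.mem_sup.mp hu
      rw [hb.add_right, hb.add_left, hb.add_left, hb.smul_left, hb.smul_left, hwL l hl,
        horth w hwW l' (hLW' hl'), hwL' l' hl', QuadraticMap.polar_comm Q w' l, horth l (hLW hl) w' hwW']
      ring
    have hzn : z ∉ L ⊔ L' := fun hmem => by
      obtain ⟨l, hl, l', hl', hll⟩ := Submodule.mem_sup.mp hmem
      have h1 : t • w - l ∈ W ⊓ perpQ hQ W := ⟨W.sub_mem hzW (hLW hl), by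
        have : t • w - l = l' - w' := by linear_combination (norm := module) -hll
        rw [this]
        exact Submodule.sub_mem _ (hLW' hl') hwW'⟩
      rw [hWW, Submodule.mem_bot, sub_eq_zero] at h1
      have h2 : l' = w' := by
        have h3 := hll
        simp only [z, h1] at h3
        exact add_left_cancel h3
      have := hL' l' hl'
      rw [h2, hw'] at this
      exact hc' this
    have hsup := ts_sup hQ hX (W := Submodule.span F {z}) (fun u hu => by
      obtain ⟨r, rfl⟩ := Submodule.mem_span_singleton.mp hu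
      rw [hQ.smul, hz, mul_zero]) fun u hu e he => by
      obtain ⟨r, rfl⟩ := Submodule.mem_span_singleton.mp he
      rw [hb.smul_right, QuadraticMap.polar_comm, hzX u hu, mul_zero]
    have h2 : L ⊔ L' < L ⊔ L' ⊔ Submodule.span F {z} :=
      left_lt_sup.mpr fun h => hzn (h (Submodule.mem_span_singleton_self z))
    have h3 := Submodule.finrank_lt_finrank_of_lt h2
    have h4 := two_dim_le hQ hsup
    exact plus_of_ts hsup (by omega)

end Cfsg.Agent.Lib.AschbacherEvenDim
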