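import Cfsg.Agent.Lib.AschbacherEvenDim.Reducible

/-!
The type from the determinant of a Gram matrix, and determinants in `Ω`.
-/

set_option autoImplicit false
set_option linter.unusedSectionVars false

namespace Cfsg.Agent.Lib.AschbacherEvenDim

open Cfsg.Geo Module QuadraticMap
open Cfsg.Agent.Lib.AschbacherOrth (sym_gram gram_eq eq_half)
open Cfsg.Agent.Lib.AschbacherSp (gramIn gramForm_single two_ne_zero')
open Cfsg.Agent.Lib.Aschbacher
open scoped Matrix MatrixGroups commutatorElement

variable {ι : Type} [Fintype ι] [DecidableEq ι] {F : Type*} [Field F] [Fintype F] {Q : (ι → F) → F}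

local notation "B" => QuadraticMap.polar Q
local notation "G₀" => gramMatrix (QuadraticMap.polar Q)

omit [Fintype F] in
/-- Elements of `Ω` have determinant one. -/
theorem det_omega {g : GL ι F} (hg : g ∈ omegaGL Q) : (g : Matrix ι ι F).det = 1 := by
  obtain ⟨x, hx, rfl⟩ := hg
  let f : Cfsg.isometryGroup F Q →* Fˣ := Matrix.GeneralLinearGroup.det.comp (Cfsg.isometryGroup F Q).subtype
  have h1 : f x = 1 := MonoidHom.mem_ker.mp (Abelianization.commutator_subset_ker f hx)
  exact congrArg Units.val h1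

variable (hQ : IsNondegenerateQuadraticForm Q)
include hQ

/-- The type is decided by the determinant of a Gram matrix. -/
theorem plus_iff_gram (hodd : Odd (Fintype.card F)) {m : ℕ} (hn : Fintype.card ι = 2 * m) :
    IsPlusTypeOn Q ⊤ ↔ IsSquare ((-1 : F) ^ m * (G₀).det) := by
  classical
  have h2 := two_ne_zero' hodd
  let Bl : LinearMap.BilinForm F (ι → F) := Matrix.toBilin' G₀
  have hBl : ∀ x y, Bl x y = B x y := fun x y => by
    rw [← gram_eq hQ]; simp only [Bl, Matrix.toBilin'_apply']; rfl
  have hsym : Bl.IsSymm := ⟨fun x y => by simp only [hBl]; exact QuadraticMap.polar_comm Q x y⟩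
  have hnd : Bl.Nondegenerate :=
    LinearMap.BilinForm.nondegenerate_toBilin'_iff_det_ne_zero.mpr (sym_gram hQ).det_ne
  letI : Invertible (2 : F) := invertibleOfNonzero h2
  have hsym' : LinearMap.IsSymm Bl := ⟨fun x y => by simp only [RingHom.id_apply]; exact hsym.eq x y⟩
  obtain ⟨v, hv⟩ := LinearMap.BilinForm.exists_orthogonal_basis hsym'
  have hdim : Fintype.card (Fin (finrank F (ι → F))) = Fintype.card ι := by
    rw [Fintype.card_fin, Module.finrank_fintype_fun_eq_card]
  let b := v.reindex (Fintype.equivOfCardEq hdim)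
  have hb : ∀ i j, i ≠ j → Bl (b i) (b j) = 0 := fun i j hij => by
    simp only [b, Module.Basis.reindex_apply]
    exact hv fun h => hij ((Fintype.equivOfCardEq hdim).symm.injective h)
  have hiff := Cfsg.Agent.Lib.Forms.Tensor.exists_lagrangian_iff h2 hsym hnd b hb m hn
  let M : Matrix ι ι F := Matrix.of fun p i => b i p
  have hM : Mᵀ * G₀ * M = Matrix.diagonal fun i => Bl (b i) (b i) := by
    ext i j
    rw [← gramForm_single (Mᵀ * G₀ * M), ← gramForm_apply, gram_eq hQ, Matrix.mulVec_single_one,
      Matrix.mulVec_single_one]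
    show B (b i) (b j) = _
    rcases eq_or_ne i j with rfl | h
    · rw [Matrix.diagonal_apply_eq, hBl]
    · rw [Matrix.diagonal_apply_ne _ h, ← hBl, hb i j h]
  have hd := congrArg Matrix.det hM
  rw [Matrix.det_mul, Matrix.det_mul, Matrix.det_transpose, Matrix.det_diagonal] at hd
  have hne : M.det ≠ 0 := fun h => by
    rw [h, zero_mul, zero_mul, eq_comm, Finset.prod_eq_zero_iff] at hd
    obtain ⟨i, -, hi⟩ := hd
    refine b.ne_zero i (hnd.1 (b i) fun w => ?_)
    rw [← b.sum_repr w, map_sum]
    refine Finset.sum_eq_zero fun j _ => ?_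
    rcases eq_or_ne i j with rfl | hij
    · rw [map_smul, hi, smul_zero]
    · rw [map_smul, hb i j hij, smul_zero]
  rw [← hd] at hiff
  have hsq : IsSquare ((-1 : F) ^ m * (M.det * (G₀).det * M.det)) ↔ IsSquare ((-1 : F) ^ m * (G₀).det) := by
    constructor <;> rintro ⟨r, hr⟩
    · exact ⟨r / M.det, by field_simp; linear_combination hr⟩
    · exact ⟨r * M.det, by linear_combination (M.det * M.det) * hr⟩
  rw [← hsq, ← hiff]
  constructor
  · rintro ⟨U, -, hU, hd'⟩
    rw [finrank_top, Module.finrank_fintype_fun_eq_card, hn] at hd'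
    exact ⟨U, by omega, fun x hx y hy => by rw [hBl]; exact ts_polar hU hx hy⟩
  · rintro ⟨U, hU, hUs⟩
    refine plus_of_ts (fun x hx => ?_) (by rw [hU, hn])
    rw [eq_half hQ hodd, ← hBl, hUs x hx x hx, zero_div]

/-- The type in coordinates. -/
theorem plus_iff_gramIn (hodd : Odd (Fintype.card F)) {m : ℕ} (hn : Fintype.card ι = 2 * m) {X : Type} [Fintype X]
    [DecidableEq X] (ε : ι ≃ X) (P : GL ι F) :
    IsPlusTypeOn Q ⊤ ↔ IsSquare ((-1 : F) ^ m * (gramIn G₀ ε P).det) := by
  have hP : (P : Matrix ι ι F).det ≠ 0 := ((Matrix.isUnit_iff_isUnit_det _).mp P.isUnit).ne_zero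
  rw [plus_iff_gram hQ hodd hn, gramIn, Matrix.det_submatrix_equiv_self, Matrix.det_mul, Matrix.det_mul,
    Matrix.det_transpose]
  constructor <;> rintro ⟨r, hr⟩
  · exact ⟨r * (P : Matrix ι ι F).det, by linear_combination (P : Matrix ι ι F).det * (P : Matrix ι ι F).det * hr⟩
  · exact ⟨r / (P : Matrix ι ι F).det, by field_simp; linear_combination hr⟩

omit hQ in
/-- Whether `-1` is a square. -/
theorem neg_one_square (hodd : Odd (Fintype.card F)) :
    (IsSquare (-1 : F) → Fintype.card F % 4 = 1) ∧ (¬ IsSquare (-1 : F) → Fintype.card F % 4 = 3) := by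
  obtain ⟨k, hk⟩ := hodd
  constructor <;> intro h
  · have := FiniteField.isSquare_neg_one_iff.mp h
    omega
  · by_contra h'
    exact h (FiniteField.isSquare_neg_one_iff.mpr (by omega))

end Cfsg.Agent.Lib.AschbacherEvenDim
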