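import Cfsg.Agent.Lib.AschbacherEvenDim.EvenTools

/-!
Characteristic two: the centre of the commutant of a normalised subgroup of an irreducible subgroup of `Ω`.
-/

set_option autoImplicit false
set_option linter.unusedSectionVars false
set_option linter.style.haveILetI false

namespace Cfsg.Agent.Lib.AschbacherEvenDim

open Cfsg.Geo Module QuadraticMap Cfsg.Agent.Lib.Subspaces.OrthForm
open Cfsg.Agent.Lib.PrimeDim.Basic Cfsg.Agent.Lib.Aschbacher
open Cfsg.Agent.Lib.AschbacherOrth (gram_eq sym_gram)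
open Cfsg.Agent.Lib.AschbacherSp (Alt Isom mem_isom two_eq_zero rng rng_fix rng_kill translate_rng mdec_of_idem
  gramForm_adj adj adj_adj adj_mul adj_one adj_add adj_smul adj_conj adj_mem_centre exists_subfield_of_dvd)
open scoped Matrix MatrixGroups

variable {ι : Type} [Fintype ι] [DecidableEq ι] {F : Type*} [Field F] [Fintype F] {Q : (ι → F) → F}
  (hQ : IsNondegenerateQuadraticForm Q)
include hQ

local notation "B" => QuadraticMap.polar Q
local notation "G" => gramMatrix (QuadraticMap.polar Q)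

/-- An element of `Ω` moving one subspace to another makes them isometric. -/
theorem isometric_of_translate {W W' : Submodule F (ι → F)} {g : GL ι F} (hg : g ∈ omegaGL Q)
    (h : translate g W = W') : AreIsometricFor Q W W' := by
  have hinj : Function.Injective (Matrix.toLin' (g : Matrix ι ι F)) := fun a b hab => by
    simpa [inv_mulVec_cancel] using congrArg (fun w => ((g⁻¹ : GL ι F) : Matrix ι ι F) *ᵥ w) hab
  refine ⟨(Submodule.equivMapOfInjective _ hinj W).trans (LinearEquiv.ofEq _ _ h), fun w => ?_⟩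
  exact Cfsg.Agent.Lib.Subspaces.OmegaGL.omega_isometry hQ hg w

variable {H N : Subgroup (GL ι F)}

/-- The outcomes from the centre. -/
def CentreOutcome (Q : (ι → F) → F) (H : Subgroup (GL ι F)) : Prop :=
  (∃ (t k : ℕ) (D : Fin t → Submodule F (ι → F)), IsOrthogonalMDecomposition Q k D ∧
    H ≤ decompositionStabilizer D) ∨
  (∃ (r : ℕ) (K : Subalgebra F (Matrix ι ι F)), r.Prime ∧ r ∣ Fintype.card ι ∧ IsFieldSubalgebra r K ∧
    IsSelfAdjointFor (QuadraticMap.polar Q) K ∧ (∀ k ∈ K, ∀ v, QuadraticMap.polar Q (k *ᵥ v) v = 0) ∧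
    H ≤ subalgebraNormalizer K) ∨
  PairOrField Q H

/-- A transitively permuted system of self-adjoint idempotents. -/
theorem selfadj_idem (hG : Alt G) (hHΩ : H ≤ omegaGL Q) {P : Finset (Matrix ι ι F)} (hP : 2 ≤ P.card)
    (hidem : ∀ e ∈ P, e * e = e) (horth : ∀ e ∈ P, ∀ e' ∈ P, e ≠ e' → e * e' = 0) (hsum : ∑ e ∈ P, e = 1)
    (h0 : ∀ e ∈ P, e ≠ 0) (hadj : ∀ e ∈ P, adj G e = e)
    (hconj : ∀ h ∈ H, ∀ e ∈ P, (h : Matrix ι ι F) * e * ((h⁻¹ : GL ι F) : Matrix ι ι F) ∈ P)
    (htr : ∀ e ∈ P, ∀ e' ∈ P, ∃ h ∈ H, (h : Matrix ι ι F) * e * ((h⁻¹ : GL ι F) : Matrix ι ι F) = e') :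
    CentreOutcome Q H := by
  classical
  set t := P.card with ht
  let en : Fin t ≃ P := P.equivFin.symm
  let E : Fin t → Matrix ι ι F := fun i => (en i : Matrix ι ι F)
  have hEP : ∀ i, E i ∈ P := fun i => (en i).2
  have hEinj : Function.Injective E := fun a b h => en.injective (Subtype.ext h)
  have hi : ∀ i, E i * E i = E i := fun i => hidem _ (hEP i)
  have ho : ∀ i j, i ≠ j → E i * E j = 0 := fun i j h => horth _ (hEP i) _ (hEP j) fun e => h (hEinj e)
  haveI : Nonempty (Fin t) := ⟨⟨0, by omega⟩⟩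
  let i₀ : Fin t := Classical.arbitrary _
  have hfix : ∀ i, ∀ v ∈ rng (E i), E i *ᵥ v = v := fun i v hv => rng_fix (hi i) hv
  refine Or.inl ⟨t, Module.finrank F (rng (E i₀)), fun i => rng (E i),
    ⟨⟨mdec_of_idem hP ?_ hi ho ?_ fun i => ?_, fun i => ?_, fun i j hij u hu v hv => ?_⟩, fun i j => ?_⟩, fun h hh => ?_⟩
  · exact Nat.pos_of_ne_zero fun h => h0 _ (hEP i₀)
      (Matrix.toLin'.injective (by rw [map_zero]; exact LinearMap.range_eq_bot.mp (Submodule.finrank_eq_zero.mp h)))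
  · rw [show (fun i => E i) = fun i => ((en i : P) : Matrix ι ι F) from rfl, Equiv.sum_comp en (fun e : P => (e : Matrix ι ι F)),
      Finset.sum_coe_sort P (fun e => e), hsum]
  · obtain ⟨g, -, hg⟩ := htr _ (hEP i₀) _ (hEP i)
    rw [← hg, ← translate_rng, finrank_translate]
  · rw [← gram_eq hQ]
    intro w hw hw0
    have key : ∃ x ∈ rng (E i), gramForm G x w ≠ 0 := by
      obtain ⟨x, hx⟩ := (hG.isSymplectic.nondegenerate w hw0).1
      refine ⟨E i *ᵥ x, ⟨x, Matrix.toLin'_apply _ _⟩, ?_⟩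
      rwa [gramForm_adj hG, hadj _ (hEP i), hfix i w hw]
    refine ⟨key, ?_⟩
    obtain ⟨x, hx, hne⟩ := key
    exact ⟨x, hx, by rw [hG.isSymplectic.skew]; exact neg_ne_zero.mpr hne⟩
  · rw [← gram_eq hQ, ← hfix i u hu, gramForm_adj hG, hadj _ (hEP i), rng_kill (ho i j hij) hv]
    simp [gramForm]
  · obtain ⟨g, hg, he⟩ := htr _ (hEP i) _ (hEP j)
    exact isometric_of_translate hQ (hHΩ hg) (by rw [translate_rng, he])
  · let σ : Fin t → Fin t := fun i => en.symm ⟨_, hconj h hh _ (hEP i)⟩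
    have hσ : ∀ i, E (σ i) = (h : Matrix ι ι F) * E i * ((h⁻¹ : GL ι F) : Matrix ι ι F) := fun i => by
      simp [E, σ]
    have hinj : Function.Injective σ := fun a b hab => by
      have h2 := (hσ a).symm.trans ((congrArg E hab).trans (hσ b))
      have h3 := congrArg (fun M => ((h⁻¹ : GL ι F) : Matrix ι ι F) * M * (h : Matrix ι ι F)) h2
      simp [mul_assoc] at h3
      exact hEinj h3
    refine ⟨Equiv.ofBijective σ (Finite.injective_iff_bijective.mp hinj), fun i => ?_⟩
    show translate h (rng (E i)) = rng (E (σ i))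
    rw [translate_rng, hσ]

theorem omega_polar (hG : Alt G) (heven : ¬ Odd (Fintype.card F)) {ω : Matrix ι ι F} (hω : ω + adj G ω = 1)
    (u v : ι → F) : QuadraticMap.polar (fun w => B (ω *ᵥ w) w) u v = B u v := by
  have hb := hQ.polar_bilinear
  have e1 : B (ω *ᵥ v) u = B (adj G ω *ᵥ u) v := by
    have hg : ∀ x y, gramForm G x y = B x y := fun x y => by rw [gram_eq hQ]
    rw [B_comm (adj G ω *ᵥ u) v, ← hg, ← hg, gramForm_adj hG ω v u]
  show B (ω *ᵥ (u + v)) (u + v) - B (ω *ᵥ u) u - B (ω *ᵥ v) v = B u v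
  simp only [Matrix.mulVec_add, hb.add_left, hb.add_right, e1]
  calc _ = B (ω *ᵥ u) v + B (adj G ω *ᵥ u) v := by ring
    _ = B u v := by rw [← hb.add_left, ← Matrix.add_mulVec, hω, Matrix.one_mulVec]

theorem omega_fix (hHΩ : H ≤ omegaGL Q) {h : GL ι F} (hh : h ∈ H) {ω : Matrix ι ι F}
    (hfix : ∀ v, B ((((h⁻¹ : GL ι F) : Matrix ι ι F) * ω * (h : Matrix ι ι F)) *ᵥ v) v = B (ω *ᵥ v) v) (v : ι → F) :
    B (ω *ᵥ ((h : Matrix ι ι F) *ᵥ v)) ((h : Matrix ι ι F) *ᵥ v) = B (ω *ᵥ v) v := by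
  rw [← hfix v, ← B_map (Cfsg.Agent.Lib.Subspaces.OmegaGL.omega_isometry hQ (hHΩ hh))
    ((((h⁻¹ : GL ι F) : Matrix ι ι F) * ω * _) *ᵥ v) v]
  simp only [← Matrix.mulVec_mulVec, mulVec_inv_cancel]

/-- A centre which is not a field. -/
theorem idempotents [Nonempty ι] (heven : ¬ Odd (Fintype.card F)) (h2ι : 2 ≤ Fintype.card ι) (hG : Alt G)
    (hH : Irred H) (hHΩ : H ≤ omegaGL Q) (hNH : NormalizedBy H N) (hN : N ≤ Isom G)
    (hnf : ¬ ∀ z ∈ centre N, z ≠ 0 → ∃ y ∈ centre N, z * y = 1) : CentreOutcome Q H := by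
  have hHI : H ≤ Isom G := fun g hg => mem_Isom_gram hQ (hHΩ hg)
  classical
  push Not at hnf
  obtain ⟨z, hz, hz0, hzinv⟩ := hnf
  obtain ⟨k, hk, hkk⟩ := exists_idempotent_pow z
  set g := z ^ k with hg
  have hgc : g ∈ centre N := pow_mem hz _
  have hg0 : g ≠ 0 := fun h => hz0 (centre_pow_zero hH hNH hz h)
  have hg1 : g ≠ 1 := fun h => hzinv (z ^ (k - 1)) (pow_mem hz _)
    (by rw [← pow_succ', Nat.sub_add_cancel hk]; exact h)
  haveI : Finite (Matrix ι ι F) := inferInstanceAs (Finite (ι → ι → F))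
  haveI := Fintype.ofFinite (Matrix ι ι F)
  set P := (Finset.univ : Finset (Matrix ι ι F)).filter (fun e => IsPrimIdem N e) with hP
  have hmemP : ∀ e, e ∈ P ↔ IsPrimIdem N e := fun e => by simp [hP]
  have hidem : ∀ e ∈ P, e * e = e := fun e he => ((hmemP e).mp he).2.1
  have horth : ∀ e ∈ P, ∀ e' ∈ P, e ≠ e' → e * e' = 0 := fun e he e' he' =>
    prim_orth ((hmemP e).mp he) ((hmemP e').mp he')
  have h0 : ∀ e ∈ P, e ≠ 0 := fun e he => ((hmemP e).mp he).2.2.1
  have hsum : ∑ e ∈ P, e = 1 := by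
    by_contra hne
    set s := ∑ e ∈ P, e with hs
    have hsc : s ∈ centre N := sum_mem fun e he => ((hmemP e).mp he).1
    have hes : ∀ e ∈ P, e * s = e := fun e he => by
      rw [hs, Finset.mul_sum, Finset.sum_eq_single e (fun f hf hfe => horth e he f hf (Ne.symm hfe))
        (fun h => absurd he h), hidem e he]
    have hss : s * s = s := by
      nth_rw 1 [hs]
      rw [Finset.sum_mul]
      exact Finset.sum_congr rfl hes
    obtain ⟨e, he, hle⟩ := exists_prim_le (sub_mem (one_mem _) hsc)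
      (by simp [sub_mul, mul_sub, hss]) (sub_ne_zero.mpr (Ne.symm hne))
    rw [sub_mul, one_mul, centre_comm s hsc e he.1, hes e ((hmemP e).mpr he), sub_self] at hle
    exact he.2.2.1 hle.symm
  have hP2 : 2 ≤ P.card := by
    obtain ⟨e₁, he₁, hge₁⟩ := exists_prim_le hgc hkk hg0
    obtain ⟨e₂, he₂, hge₂⟩ := exists_prim_le (sub_mem (one_mem _) hgc)
      (by simp [sub_mul, mul_sub, hkk]) (sub_ne_zero.mpr (Ne.symm hg1))
    refine Finset.one_lt_card.mpr ⟨e₁, (hmemP _).mpr he₁, e₂, (hmemP _).mpr he₂, ?_⟩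
    rintro rfl
    rw [sub_mul, one_mul, hge₁, sub_self] at hge₂
    exact he₁.2.2.1 hge₂.symm
  let c : GL ι F → Matrix ι ι F → Matrix ι ι F := fun h e =>
    (h : Matrix ι ι F) * e * ((h⁻¹ : GL ι F) : Matrix ι ι F)
  have hcc : ∀ a b e, c a (c b e) = c (a * b) e := fun a b e => by simp only [c, Units.val_mul, mul_inv_rev, mul_assoc]
  have hc1 : ∀ e, c 1 e = e := fun e => by simp [c]
  have hcm : ∀ a e e', c a (e * e') = c a e * c a e' := fun a e e' => by simp [c, mul_assoc]
  have hc0 : ∀ a, c a 0 = 0 := fun a => by simp [c]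
  have hconj : ∀ h ∈ H, ∀ e ∈ P, c h e ∈ P := by
    intro h hh e he
    rw [hmemP] at he ⊢
    obtain ⟨h1, h2, h3, h4⟩ := he
    refine ⟨conj_mem_centre hNH hh h1, by rw [← hcm, h2], fun h0' => h3 ?_, fun u hu huu => ?_⟩
    · rw [← hc1 e, ← inv_mul_cancel h, ← hcc, h0', hc0]
    · have hu' : c h (c h⁻¹ u) = u := by rw [hcc, mul_inv_cancel, hc1]
      have h5 := h4 (c h⁻¹ u) (conj_mem_centre hNH (inv_mem hh) hu) (by rw [← hcm, huu])
      rcases h5 with h5 | h5
      · left; rw [← hu', ← hcm, h5, hc0]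
      · right; rw [← hu', ← hcm, h5]
  have hadjP : ∀ e ∈ P, adj G e ∈ P := by
    intro e he
    rw [hmemP] at he ⊢
    obtain ⟨h1, h2, h3, h4⟩ := he
    refine ⟨adj_mem_centre hG hN h1, by rw [← adj_mul hG, h2], fun h0' => h3 ?_, fun u hu huu => ?_⟩
    · rw [← adj_adj hG e, h0']; simp [adj]
    · have hu' := adj_mem_centre hG hN hu
      rcases h4 (adj G u) hu' (by rw [← adj_mul hG, huu]) with h5 | h5
      · left
        have h6 := congrArg (adj G) h5
        rw [adj_mul hG, adj_adj hG] at h6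
        rw [centre_comm u hu _ (adj_mem_centre hG hN h1), h6]
        simp [adj]
      · right
        have h6 := congrArg (adj G) h5
        rw [adj_mul hG, adj_adj hG] at h6
        rw [centre_comm u hu _ (adj_mem_centre hG hN h1), h6]
  have htr : ∀ e ∈ P, ∀ e' ∈ P, ∃ h ∈ H, c h e = e' := by
    intro e he e' he'
    by_contra! hno
    have htop : LinearMap.ker (Matrix.toLin' e') = ⊤ := by
      refine eq_bot_or_top_of_invariant_span hH (W := rng e) (fun h => h0 e he
        (Matrix.toLin'.injective (by rw [map_zero]; exact LinearMap.range_eq_bot.mp h))) fun h hh v hv => ?_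
      rw [translate_rng] at hv
      rw [LinearMap.mem_ker, Matrix.toLin'_apply]
      exact rng_kill (horth e' he' _ (hconj h hh e he) (Ne.symm (hno h hh))) hv
    exact h0 e' he' (Matrix.toLin'.injective (by rw [map_zero]; exact LinearMap.ker_eq_top.mp htop))
  have hadjc : ∀ h ∈ H, ∀ e, adj G (c h e) = c h (adj G e) := fun h hh e => adj_conj hG (hHI hh) e
  by_cases hfx : ∃ e ∈ P, adj G e = e
  · obtain ⟨e, he, hee⟩ := hfx
    refine selfadj_idem hQ hG hHΩ hP2 hidem horth hsum h0 (fun e' he' => ?_) hconj htr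
    obtain ⟨h, hh, rfl⟩ := htr e he e' he'
    rw [hadjc h hh, hee]
  push Not at hfx
  -- blocks
  let φ : Matrix ι ι F → Matrix ι ι F := fun e => e + adj G e
  have hφadj : ∀ e, adj G (φ e) = φ e := fun e => by simp only [φ, adj_add hG, adj_adj hG, add_comm]
  have hφmul : ∀ e ∈ P, e * φ e = e := fun e he => by
    simp only [φ, mul_add, hidem e he, horth e he _ (hadjP e he) (Ne.symm (hfx e he)), add_zero]
  have hfib : ∀ e ∈ P, ∀ g ∈ P, φ g = φ e → g = e ∨ g = adj G e := by
    intro e he g hg heq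
    by_contra! hne
    have h3 : g * φ g = 0 := by
      rw [heq]
      simp only [φ, mul_add, horth g hg e he hne.1, horth g hg _ (hadjP e he) hne.2, add_zero]
    exact h0 g hg (by rw [← hφmul g hg, h3])
  set Bl := P.image φ with hBl
  by_cases hB2 : 2 ≤ Bl.card
  · refine selfadj_idem hQ hG hHΩ hB2 (fun b hb => ?_) (fun b hb b' hb' hne => ?_) ?_ (fun b hb => ?_)
      (fun b hb => ?_) (fun h hh b hb => ?_) (fun b hb b' hb' => ?_)
    · obtain ⟨e, he, rfl⟩ := Finset.mem_image.mp hb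
      simp only [φ, mul_add, add_mul, hidem e he, hidem _ (hadjP e he),
        horth e he _ (hadjP e he) (Ne.symm (hfx e he)), horth _ (hadjP e he) e he (hfx e he), add_zero, zero_add]
    · obtain ⟨e, he, rfl⟩ := Finset.mem_image.mp hb
      obtain ⟨e', he', rfl⟩ := Finset.mem_image.mp hb'
      have h4 : ∀ u ∈ P, φ u = φ e → ∀ w ∈ P, φ w = φ e' → u * w = 0 := fun u hu hu' w hw hw' =>
        horth u hu w hw fun h => hne (by rw [← hu', ← hw', h])
      have hsw : ∀ e, φ (adj G e) = φ e := fun e => by simp only [φ, adj_adj hG, add_comm]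
      simp only [φ, mul_add, add_mul]
      rw [h4 e he rfl e' he' rfl, h4 _ (hadjP e he) (hsw e) e' he' rfl, h4 e he rfl _ (hadjP e' he') (hsw e'),
        h4 _ (hadjP e he) (hsw e) _ (hadjP e' he') (hsw e')]
      simp
    · refine Eq.trans ?_ ((Finset.sum_fiberwise_of_maps_to (s := P) (t := Bl) (g := φ)
        (fun e he => Finset.mem_image_of_mem φ he) (fun e => e)).trans hsum)
      refine Finset.sum_congr rfl fun b hb => ?_
      obtain ⟨e, he, rfl⟩ := Finset.mem_image.mp hb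
      have hset : P.filter (fun g => φ g = φ e) = {e, adj G e} := by
        ext g
        simp only [Finset.mem_filter, Finset.mem_insert, Finset.mem_singleton]
        constructor
        · exact fun hg => hfib e he g hg.1 hg.2
        · rintro (rfl | rfl)
          · exact ⟨he, rfl⟩
          · exact ⟨hadjP e he, by simp only [φ, adj_adj hG, add_comm]⟩
      rw [hset, Finset.sum_pair (Ne.symm (hfx e he))]
    · obtain ⟨e, he, rfl⟩ := Finset.mem_image.mp hb
      intro h
      exact h0 e he (by rw [← hφmul e he, h, mul_zero])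
    · obtain ⟨e, -, rfl⟩ := Finset.mem_image.mp hb
      exact hφadj e
    · obtain ⟨e, he, rfl⟩ := Finset.mem_image.mp hb
      refine Finset.mem_image.mpr ⟨c h e, hconj h hh e he, ?_⟩
      simp only [φ, hadjc h hh, c, mul_add, add_mul]
    · obtain ⟨e, he, rfl⟩ := Finset.mem_image.mp hb
      obtain ⟨e', he', rfl⟩ := Finset.mem_image.mp hb'
      obtain ⟨h, hh, rfl⟩ := htr e he e' he'
      exact ⟨h, hh, by simp only [φ, hadjc h hh, c, mul_add, add_mul]⟩
  -- one block: a pair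
  obtain ⟨e, he⟩ : P.Nonempty := Finset.card_pos.mp (by omega)
  have hall : ∀ g ∈ P, g = e ∨ g = adj G e := fun g hg => hfib e he g hg
    (Finset.card_le_one.mp (by omega : Bl.card ≤ 1) _ (Finset.mem_image_of_mem φ hg) _ (Finset.mem_image_of_mem φ he))
  set e' := adj G e with he'
  have hne : e ≠ e' := Ne.symm (hfx e he)
  have hPeq : P = {e, e'} := by
    ext g
    simp only [Finset.mem_insert, Finset.mem_singleton]
    exact ⟨hall g, by rintro (rfl | rfl); exacts [he, hadjP e he]⟩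
  have hone : e + e' = 1 := by rw [← hsum, hPeq, Finset.sum_pair hne]
  refine Or.inr (Or.inr (of_omega_even hQ heven (T := e) (δ := 0) (by rw [zero_smul, add_zero, hidem e he])
    (fun v => ?_) fun h hh => ?_))
  swap
  · rcases hall _ (hconj h hh e he) with h6 | h6
    · exact Or.inl h6
    · refine Or.inr (h6.trans ?_)
      rw [eq_sub_of_add_eq' hone]
      ext i j
      simp only [Matrix.add_apply, Matrix.sub_apply]
      linear_combination (-(e i j)) * two_eq_zero heven
  refine congrFun (eq_of_fixed hQ heven h2ι hHΩ hH (Q' := fun v => B (e *ᵥ v) v) (fun a v => ?_) (fun u v => ?_)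
    fun h hh v => ?_) v
  · simp only [Matrix.mulVec_smul, hQ.polar_bilinear.smul_left, hQ.polar_bilinear.smul_right]
    ring
  · exact omega_polar hQ hG heven (ω := e) hone u v
  · refine omega_fix hQ hHΩ hh (ω := e) (fun w => ?_) v
    have h5 := hconj h⁻¹ (inv_mem hh) e he
    simp only [c, inv_inv] at h5
    rcases hall _ h5 with h6 | h6
    · rw [h6]
    · have hgf : ∀ x y, gramForm G x y = B x y := fun x y => by rw [gram_eq hQ]
      rw [h6, he', ← hgf, ← hgf, hG.isSymplectic.skew, gramForm_adj hG e w w]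
      linear_combination (-gramForm G w (adj G e *ᵥ w)) * two_eq_zero heven

/-- The centre is scalar, or there is a structure. -/
theorem centre_cases [Nonempty ι] (heven : ¬ Odd (Fintype.card F)) (h2ι : 2 ≤ Fintype.card ι) (hH : Irred H)
    (hHΩ : H ≤ omegaGL Q) (hNH : NormalizedBy H N) (hN : N ≤ Isom G) : CentreScalar N ∨ CentreOutcome Q H := by
  have hG : Alt G := alt_gram hQ heven
  have hHI : H ≤ Isom G := fun g hg => mem_Isom_gram hQ (hHΩ hg)
  classical
  by_cases hf : ∀ z ∈ centre N, z ≠ 0 → ∃ y ∈ centre N, z * y = 1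
  swap
  · exact Or.inr (idempotents hQ heven h2ι hG hH hHΩ hNH hN hf)
  haveI : Finite (Matrix ι ι F) := inferInstanceAs (Finite (ι → ι → F))
  haveI : Nontrivial (Matrix ι ι F) := inferInstance
  let Z₀ : Subalgebra F (Matrix ι ι F) :=
    { carrier := {z | z ∈ centre N ∧ adj G z = z}
      mul_mem' := fun {a b} ha hb => ⟨mul_mem ha.1 hb.1,
        by rw [adj_mul hG, ha.2, hb.2, centre_comm b hb.1 a ha.1]⟩
      one_mem' := ⟨one_mem _, adj_one hG⟩
      add_mem' := fun {a b} ha hb => ⟨add_mem ha.1 hb.1, by rw [adj_add hG, ha.2, hb.2]⟩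
      zero_mem' := ⟨zero_mem _, by simp [adj]⟩
      algebraMap_mem' := fun c => ⟨Subalgebra.algebraMap_mem _ c,
        by rw [Algebra.algebraMap_eq_smul_one, adj_smul hG, adj_one hG]⟩ }
  have hmem : ∀ z, z ∈ Z₀ ↔ z ∈ centre N ∧ adj G z = z := fun _ => Iff.rfl
  have hcH : ∀ h ∈ H, ∀ z ∈ centre N, (h : Matrix ι ι F) * z * ((h⁻¹ : GL ι F) : Matrix ι ι F) ∈ centre N :=
    fun h hh z hz => conj_mem_centre hNH hh hz
  have hnorm : ∀ K : Subalgebra F (Matrix ι ι F),
      (∀ h ∈ H, ∀ z ∈ K, (h : Matrix ι ι F) * z * ((h⁻¹ : GL ι F) : Matrix ι ι F) ∈ K) →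
      H ≤ subalgebraNormalizer K := fun K hK h hh z => ⟨hK h hh z, fun hz => by
    have := hK h⁻¹ (inv_mem hh) _ hz
    simpa [mul_assoc] using this⟩
  by_cases hd : 1 < Module.finrank F Z₀
  · right
    obtain ⟨r, hr, hrd⟩ := Nat.exists_prime_and_dvd (n := Module.finrank F Z₀) (by omega)
    have hK : IsFieldSubalgebra (Module.finrank F Z₀) Z₀ := ⟨fun x hx y hy => centre_comm x hx.1 y hy.1,
      fun x hx hx0 => by
        obtain ⟨y, hy, hxy⟩ := hf x hx.1 hx0
        refine ⟨y, (hmem y).mpr ⟨hy, ?_⟩, hxy⟩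
        have h1 := congrArg (adj G) hxy
        rw [adj_mul hG, adj_one hG, hx.2] at h1
        calc adj G y = adj G y * (x * y) := by rw [hxy, mul_one]
          _ = y := by rw [← mul_assoc, h1, one_mul], rfl⟩
    obtain ⟨L, hLK, hL, hle⟩ := exists_subfield_of_dvd hK hrd hr.pos (by omega)
    have hself : IsSelfAdjointFor (gramForm G) L := fun k hk u v => by
      rw [gramForm_adj hG, ((hmem k).mp (hLK hk)).2]
    refine Or.inr (Or.inl ⟨r, L, hr, Cfsg.Agent.Lib.AschbacherOrth.field_dvd' hL, hL, gram_eq hQ ▸ hself, fun k hk v => ?_,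
      le_trans (hnorm _ fun h hh z hz =>
        (hmem _).mpr ⟨hcH h hh z hz.1, by rw [adj_conj hG (hHI hh), hz.2]⟩) hle⟩)
    have h2 : (2 : F) = 0 := two_eq_zero heven
    haveI : Finite L := Finite.of_injective (fun x : L => (x : Matrix ι ι F)) Subtype.val_injective
    have hinj : Function.Injective (fun c : L => c * c) := fun a b hab => by
      have hab' : (a : Matrix ι ι F) * a = b * b := congrArg Subtype.val hab
      by_contra hne
      have hd0 : (a : Matrix ι ι F) - b ≠ 0 := sub_ne_zero.mpr fun h => hne (Subtype.ext h)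
      obtain ⟨y, -, hy⟩ := hL.inv _ (sub_mem a.2 b.2) hd0
      have hsq : ((a : Matrix ι ι F) - b) * ((a : Matrix ι ι F) - b) = 0 := by
        have hc := hL.comm _ a.2 _ b.2
        have hzero : ∀ M : Matrix ι ι F, M + M = 0 := fun M => by rw [← two_smul F M, h2, zero_smul]
        simp only [sub_mul, mul_sub, hab', hc]
        rw [show ((b : Matrix ι ι F) * b - b * a - (b * a - b * b)) = (b * b + b * b) - (b * a + b * a) by abel,
          hzero, hzero, sub_zero]
      apply hd0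
      rw [← mul_one ((a : Matrix ι ι F) - b), ← hy, ← mul_assoc, hsq, zero_mul]
    obtain ⟨c, hc⟩ := (Finite.injective_iff_surjective.mp hinj) ⟨k, hk⟩
    have hc' : (c : Matrix ι ι F) * c = k := congrArg Subtype.val hc
    rw [← hc', ← Matrix.mulVec_mulVec, ← gram_eq hQ, hself c c.2, hG.isSymplectic.alternating]
  have hZ₀ : ∀ z ∈ Z₀, ∃ c : F, z = c • (1 : Matrix ι ι F) := by
    intro z hz
    have h1 : 1 ≤ Module.finrank F Z₀ := by
      rw [← Subalgebra.finrank_bot (F := F) (E := Matrix ι ι F)]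
      exact Submodule.finrank_mono (Subalgebra.toSubmodule.monotone (bot_le : (⊥ : Subalgebra F _) ≤ Z₀))
    have h2 := Subalgebra.eq_bot_of_finrank_one (show Module.finrank F Z₀ = 1 by omega)
    obtain ⟨c, hc⟩ := Algebra.mem_bot.mp (h2 ▸ hz)
    exact ⟨c, by rw [← hc, Algebra.algebraMap_eq_smul_one]⟩
  by_cases hall : ∀ z ∈ centre N, adj G z = z
  · exact Or.inl fun z hz => hZ₀ z ((hmem z).mpr ⟨hz, hall z hz⟩)
  push Not at hall
  obtain ⟨z₀, hz₀, hne⟩ := hall
  right
  have hnormZ := hnorm (centre N) hcH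
  -- the trace and the difference
  set δ := z₀ - adj G z₀ with hδ
  have hδ0 : δ ≠ 0 := sub_ne_zero.mpr (Ne.symm hne)
  have hδc : δ ∈ centre N := sub_mem hz₀ (adj_mem_centre hG hN hz₀)
  have adj_sub : ∀ a b, adj G (a - b) = adj G a - adj G b := fun a b => by
    simp [adj, Matrix.mul_sub, Matrix.sub_mul]
  obtain ⟨ε, hεc, hδε⟩ := hf δ hδc hδ0
  have hεadj : adj G ε = -ε := by
    have h1 := congrArg (adj G) hδε
    rw [adj_mul hG, adj_one hG, show adj G δ = -δ by rw [hδ, adj_sub, adj_adj hG, neg_sub]] at h1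
    calc adj G ε = adj G ε * (δ * ε) := by rw [hδε, mul_one]
      _ = -((adj G ε * (-δ)) * ε) := by simp [mul_assoc]
      _ = -ε := by rw [h1, one_mul]
  have hspan : ∀ x ∈ centre N, ∃ a b : F, x = a • (1 : Matrix ι ι F) + b • z₀ := by
    intro x hx
    have hxa := adj_mem_centre hG hN hx
    obtain ⟨b, hb⟩ := hZ₀ ((x - adj G x) * ε) ((hmem _).mpr ⟨mul_mem (sub_mem hx hxa) hεc, by
      rw [adj_mul hG, adj_sub, adj_adj hG, hεadj, neg_mul, ← mul_neg, neg_sub,
        centre_comm ε hεc _ (sub_mem hx hxa)]⟩)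
    have hxb : x - adj G x = b • δ := by
      calc x - adj G x = (x - adj G x) * (δ * ε) := by rw [hδε, mul_one]
        _ = ((x - adj G x) * ε) * δ := by rw [centre_comm δ hδc ε hεc, mul_assoc]
        _ = b • δ := by rw [hb, Matrix.smul_mul, one_mul]
    obtain ⟨a, ha⟩ := hZ₀ (x - b • z₀) ((hmem _).mpr ⟨sub_mem hx (Subalgebra.smul_mem _ hz₀ b), by
      rw [adj_sub, adj_smul hG]
      linear_combination (norm := module) (-1 : F) • hxb⟩)
    exact ⟨a, b, by rw [← ha, sub_add_cancel]⟩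
  -- characteristic two
  have h2 : (2 : F) = 0 := two_eq_zero heven
  have hneg : ∀ M : Matrix ι ι F, -M = M := fun M => by
    rw [← neg_one_smul F M, show (-1 : F) = 1 by linear_combination (-1 : F) * h2, one_smul]
  obtain ⟨c, hc⟩ := hZ₀ δ ((hmem _).mpr ⟨hδc, by rw [hδ, adj_sub, adj_adj hG, ← hneg (adj G z₀ - z₀), neg_sub]⟩)
  have hc0 : c ≠ 0 := fun h => hδ0 (by rw [hc, h, zero_smul])
  set ω := c⁻¹ • z₀ with hω
  have hωc : ω ∈ centre N := Subalgebra.smul_mem _ hz₀ _
  have hω1 : ω + adj G ω = 1 := by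
    rw [hω, adj_smul hG, ← smul_add, ← hneg (adj G z₀), ← sub_eq_add_neg, ← hδ, hc, smul_smul, inv_mul_cancel₀ hc0,
      one_smul]
  have hadjω : adj G ω = ω + 1 := by
    rw [eq_sub_of_add_eq' hω1, sub_eq_add_neg, hneg, add_comm]
  -- every conjugate differs from `ω` by a scalar
  have hdiff : ∀ h ∈ H, ∃ a : F, (h : Matrix ι ι F) * ω * ((h⁻¹ : GL ι F) : Matrix ι ι F) = a • 1 + ω := by
    intro h hh
    set ω' := (h : Matrix ι ι F) * ω * ((h⁻¹ : GL ι F) : Matrix ι ι F) with hω'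
    have hω'1 : ω' + adj G ω' = 1 := by
      rw [hω', adj_conj hG (hHI hh), ← add_mul, ← mul_add, hω1, mul_one, Units.mul_inv]
    obtain ⟨a, ha⟩ := hZ₀ (ω' - ω) ((hmem _).mpr ⟨sub_mem (hcH h hh ω hωc) hωc, by
      rw [adj_sub, eq_sub_of_add_eq' hω'1, eq_sub_of_add_eq' hω1, sub_sub_sub_cancel_left, ← hneg (ω - ω'), neg_sub]⟩)
    exact ⟨a, by rw [← ha, sub_add_cancel]⟩
  obtain ⟨d, hd⟩ := hZ₀ (ω * ω + ω) ((hmem _).mpr ⟨add_mem (mul_mem hωc hωc) hωc, by
    rw [adj_add hG, adj_mul hG, hadjω]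
    have hz : ∀ M : Matrix ι ι F, M + M = 0 := fun M => by rw [← two_smul F M, h2, zero_smul]
    calc (ω + 1) * (ω + 1) + (ω + 1) = ω * ω + ω + ((ω + ω) + (1 + 1)) := by noncomm_ring
      _ = ω * ω + ω := by rw [hz, hz, add_zero, add_zero]⟩)
  have hQω : ∀ v, B (ω *ᵥ v) v = Q v := fun v => by
    refine congrFun (eq_of_fixed hQ heven h2ι hHΩ hH (Q' := fun v => B (ω *ᵥ v) v) (fun a v => ?_)
      (omega_polar hQ hG heven hω1) fun h hh v => omega_fix hQ hHΩ hh (fun w => ?_) v) v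
    · simp only [Matrix.mulVec_smul, hQ.polar_bilinear.smul_left, hQ.polar_bilinear.smul_right]
      ring
    · obtain ⟨a, ha⟩ := hdiff h⁻¹ (inv_mem hh)
      rw [inv_inv] at ha
      rw [ha, Matrix.add_mulVec, Matrix.smul_mulVec, Matrix.one_mulVec, hQ.polar_bilinear.add_left,
        hQ.polar_bilinear.smul_left, B_alt hQ heven, mul_zero, zero_add]
  refine Or.inr (Or.inr (of_omega_even hQ heven (T := ω) (δ := d) ?_ hQω fun h hh => ?_))
  · rw [← hd, add_left_comm, show ω + ω = 0 by rw [← two_smul F ω, h2, zero_smul], add_zero]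
  obtain ⟨a, ha⟩ := hdiff h hh
  have hsq : (h : Matrix ι ι F) * (ω * ω + ω) * ((h⁻¹ : GL ι F) : Matrix ι ι F) = ω * ω + ω := by
    rw [hd, Matrix.mul_smul, mul_one, Matrix.smul_mul, Units.mul_inv]
  have hexp : (a • 1 + ω) * (a • 1 + ω) + (a • 1 + ω) = ω * ω + ω + ((a * a + a) • 1 + (2 * a) • ω) := by
    simp only [add_mul, mul_add, Matrix.smul_mul, Matrix.mul_smul, one_mul, mul_one]
    module
  have h0 : (a * a + a) • (1 : Matrix ι ι F) = 0 := by
    have e : (h : Matrix ι ι F) * (ω * ω + ω) * ((h⁻¹ : GL ι F) : Matrix ι ι F) =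
        (a • 1 + ω) * (a • 1 + ω) + (a • 1 + ω) := by
      rw [← ha]
      simp [mul_add, add_mul, mul_assoc]
    rw [hsq, hexp, h2, zero_mul, zero_smul, add_zero] at e
    exact add_eq_left.mp e.symm
  rcases mul_eq_zero.mp (show a * (a + 1) = 0 by
    linear_combination (smul_eq_zero.mp h0).resolve_right one_ne_zero) with ha0 | ha1
  · exact Or.inl (by rw [ha, ha0, zero_smul, zero_add])
  · refine Or.inr ?_
    rw [ha, show a = 1 by linear_combination ha1 - h2, one_smul, add_comm]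

end Cfsg.Agent.Lib.AschbacherEvenDim
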