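import Cfsg.Agent.Lib.AschbacherEvenDim.OddTools
import Cfsg.Agent.Lib.AschbacherSp.Main
import Cfsg.Agent.Lib.AschbacherOrth.OddDim

/-!
Characteristic two: the polar form is alternating, quadratic elements, rational structures.
-/

set_option autoImplicit false
set_option linter.unusedSectionVars false
set_option linter.style.haveILetI false

namespace Cfsg.Agent.Lib.AschbacherEvenDim

open Cfsg.Geo Module QuadraticMap Cfsg.Agent.Lib.Subspaces.OrthForm
open Cfsg.Agent.Lib.PrimeDim.Basic Cfsg.Agent.Lib.Aschbacher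
open Cfsg.Agent.Lib.AschbacherOrth (gram_eq sym_gram)
open Cfsg.Agent.Lib.AschbacherSp (Alt Isom mem_isom two_eq_zero gramForm_ext)
open scoped Matrix MatrixGroups

variable {ι : Type} [Fintype ι] [DecidableEq ι] {F : Type*} [Field F] [Fintype F] {Q : (ι → F) → F}
  (hQ : IsNondegenerateQuadraticForm Q)
include hQ

local notation "B" => QuadraticMap.polar Q
local notation "G₀" => gramMatrix (QuadraticMap.polar Q)

theorem B_alt (heven : ¬ Odd (Fintype.card F)) (v : ι → F) : B v v = 0 := by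
  rw [B_self hQ, two_eq_zero heven, zero_mul]

theorem alt_gram (heven : ¬ Odd (Fintype.card F)) : Alt G₀ := by
  refine ⟨?_, fun i => B_alt hQ heven _, (sym_gram hQ).det_ne⟩
  rw [(sym_gram hQ).symm]
  ext i j
  rw [Matrix.neg_apply]
  linear_combination G₀ i j * two_eq_zero heven

theorem mem_Isom_gram {g : GL ι F} (hg : g ∈ omegaGL Q) : g ∈ Isom G₀ := by
  rw [mem_isom]
  refine gramForm_ext fun u v => ?_
  rw [← gramForm_apply, gram_eq hQ]
  exact B_map (Cfsg.Agent.Lib.Subspaces.OmegaGL.omega_isometry hQ hg) u v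

/-- An element with `T² = T + δ` whose form is `Q`, preserved up to adding one. -/
theorem of_omega_even [Nonempty ι] (heven : ¬ Odd (Fintype.card F)) {H : Subgroup (GL ι F)} {T : Matrix ι ι F}
    {δ : F} (hT : T * T = T + δ • 1) (hTQ : ∀ v, B (T *ᵥ v) v = Q v)
    (hconj : ∀ h ∈ H, (h : Matrix ι ι F) * T * ((h⁻¹ : GL ι F) : Matrix ι ι F) = T ∨
      (h : Matrix ι ι F) * T * ((h⁻¹ : GL ι F) : Matrix ι ι F) = T + 1) : PairOrField Q H := by
  have hb := hQ.polar_bilinear
  have h2 := two_eq_zero heven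
  refine of_quadratic hQ (T := T) (p := 1) (r := δ) (by rw [one_smul]; exact hT) (fun u v => ?_)
    (fun v => by rw [one_mul]; exact hTQ v) ?_ (Or.inl one_ne_zero) (fun h hh => ?_)
  · have h1 := hTQ (u + v)
    rw [Matrix.mulVec_add, hb.add_left, hb.add_right, hb.add_right, hTQ, hTQ, Q_add (Q := Q),
      B_comm (T *ᵥ v) u] at h1
    linear_combination h1
  · rw [show (4 : F) = 2 * 2 by norm_num, h2]
    simp
  · rcases hconj h hh with e | e
    · exact Or.inl e
    · refine Or.inr (e.trans ?_)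
      rw [one_smul]
      ext i j
      simp only [Matrix.add_apply, Matrix.sub_apply]
      linear_combination T i j * h2

/-- A quadratic form with the polar form of `Q` fixed by an irreducible subgroup of `Ω` is `Q`. -/
theorem eq_of_fixed (heven : ¬ Odd (Fintype.card F)) (h2ι : 2 ≤ Fintype.card ι) {H : Subgroup (GL ι F)}
    (hH : H ≤ omegaGL Q) (hirr : Irred H) {Q' : (ι → F) → F} (hs : ∀ (c : F) v, Q' (c • v) = c ^ 2 * Q' v)
    (hp : ∀ u v, QuadraticMap.polar Q' u v = B u v)
    (hfix : ∀ h ∈ H, ∀ v, Q' ((h : Matrix ι ι F) *ᵥ v) = Q' v) : Q' = Q := by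
  refine Cfsg.Agent.Lib.AschbacherSp.quad_unique hirr h2ι heven hs hQ.smul hp (fun s hs' v => ?_) (fun s hs' v => ?_)
  all_goals obtain ⟨x, hx, rfl⟩ := mem_matrixSet.mp hs'
  · exact hfix x hx v
  · exact Cfsg.Agent.Lib.Subspaces.OmegaGL.omega_isometry hQ (hH hx) v

/-- A rational structure of the polar form carrying an irreducible group gives one of the quadratic form. -/
theorem quad_rational_even {N : Subgroup (GL ι F)} (hN : N ≤ omegaGL Q) (hirr : Irred N) (hne : N ≠ ⊥)
    {F₁ : Subfield F} {P : GL ι F}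
    (hNP : ∀ x ∈ N, ∀ i j, (((P⁻¹ : GL ι F) : Matrix ι ι F) * (x : Matrix ι ι F) * (P : Matrix ι ι F)) i j ∈ F₁)
    {ζ : F} (hP : IsFormRationalStructure (gramForm G₀) F₁ ζ P) :
    IsQuadFormRationalStructure (fun v => ζ * Q v) F₁ P := by
  classical
  have hB : ∀ u v : ι → F, (∀ i, u i ∈ F₁) → (∀ i, v i ∈ F₁) →
      ζ * B ((P : Matrix ι ι F) *ᵥ u) ((P : Matrix ι ι F) *ᵥ v) ∈ F₁ := fun u v hu hv => by
    have := hP u v hu hv
    rwa [gram_eq hQ] at this
  let c : (ι → F₁) → (ι → F) := fun u i => (u i : F)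
  let S₀ : Submodule F₁ (ι → F₁) :=
    { carrier := {u | ζ * Q ((P : Matrix ι ι F) *ᵥ c u) ∈ F₁}
      add_mem' := fun {a b} ha hb => by
        show ζ * Q ((P : Matrix ι ι F) *ᵥ c (a + b)) ∈ F₁
        rw [show c (a + b) = c a + c b from rfl, Matrix.mulVec_add, Q_add (Q := Q), mul_add, mul_add]
        exact add_mem (add_mem ha hb) (hB _ _ (fun i => (a i).2) fun i => (b i).2)
      zero_mem' := by
        show ζ * Q ((P : Matrix ι ι F) *ᵥ c 0) ∈ F₁
        rw [show c 0 = 0 from rfl, Matrix.mulVec_zero, Q_zero hQ, mul_zero]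
        exact zero_mem _
      smul_mem' := fun a u hu => by
        show ζ * Q ((P : Matrix ι ι F) *ᵥ c (a • u)) ∈ F₁
        rw [show c (a • u) = (a : F) • c u from rfl, Matrix.mulVec_smul, hQ.smul,
          show ζ * ((a : F) ^ 2 * Q ((P : Matrix ι ι F) *ᵥ c u)) = (a : F) ^ 2 * (ζ * Q ((P : Matrix ι ι F) *ᵥ c u))
            by ring]
        exact mul_mem (pow_mem a.2 2) hu }
  let act : GL ι F → (ι → F) → (ι → F) := fun x u =>
    (((P⁻¹ : GL ι F) : Matrix ι ι F) * (x : Matrix ι ι F) * (P : Matrix ι ι F)) *ᵥ u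
  have hPact : ∀ (x : GL ι F) u, (P : Matrix ι ι F) *ᵥ act x u = (x : Matrix ι ι F) *ᵥ ((P : Matrix ι ι F) *ᵥ u) := by
    intro x u
    simp [act, Matrix.mulVec_mulVec, ← mul_assoc]
  have hrat : ∀ x ∈ N, ∀ u : ι → F₁, ∃ u' : ι → F₁, c u' = act x (c u) := fun x hx u =>
    ⟨fun i => ⟨act x (c u) i, sum_mem fun j _ => mul_mem (hNP x hx i j) (u j).2⟩, rfl⟩
  set W : Submodule F (ι → F) := Submodule.span F ((fun u => (P : Matrix ι ι F) *ᵥ c u) '' (S₀ : Set (ι → F₁)))
    with hWdef
  have hWinv : Invariant N W := by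
    intro x hx w hw
    induction hw using Submodule.span_induction with
    | mem y hy =>
      obtain ⟨u, hu, rfl⟩ := hy
      obtain ⟨u', hu'⟩ := hrat x hx u
      refine Submodule.subset_span ⟨u', ?_, by simp only [hu', hPact]⟩
      show ζ * Q ((P : Matrix ι ι F) *ᵥ c u') ∈ F₁
      rw [hu', hPact, Cfsg.Agent.Lib.Subspaces.OmegaGL.omega_isometry hQ (hN hx)]
      exact hu
    | zero => rw [Matrix.mulVec_zero]; exact zero_mem _
    | add a b _ _ ha hb => rw [Matrix.mulVec_add]; exact add_mem ha hb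
    | smul k a _ ha => rw [Matrix.mulVec_smul]; exact Submodule.smul_mem _ k ha
  have hmove : ∀ x ∈ N, ∀ u : ι → F₁,
      (x : Matrix ι ι F) *ᵥ ((P : Matrix ι ι F) *ᵥ c u) - (P : Matrix ι ι F) *ᵥ c u ∈ W := by
    intro x hx u
    obtain ⟨u', hu'⟩ := hrat x hx u
    refine Submodule.subset_span ⟨u' - u, ?_, ?_⟩
    · show ζ * Q ((P : Matrix ι ι F) *ᵥ c (u' - u)) ∈ F₁
      have h1 : ((P : Matrix ι ι F) *ᵥ c u') = (P : Matrix ι ι F) *ᵥ c (u' - u) + (P : Matrix ι ι F) *ᵥ c u := by
        rw [← Matrix.mulVec_add]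
        congr 1
        funext i
        simp [c]
      have h2 := congrArg (fun v => ζ * Q v) h1
      simp only [Q_add (Q := Q), mul_add] at h2
      rw [hu', hPact, Cfsg.Agent.Lib.Subspaces.OmegaGL.omega_isometry hQ (hN hx)] at h2
      rw [show ζ * Q ((P : Matrix ι ι F) *ᵥ c (u' - u)) =
        -(ζ * B ((P : Matrix ι ι F) *ᵥ c (u' - u)) ((P : Matrix ι ι F) *ᵥ c u)) by linear_combination -h2]
      exact neg_mem (hB _ _ (fun i => ((u' - u) i).2) fun i => (u i).2)
    · show (P : Matrix ι ι F) *ᵥ c (u' - u) = _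
      rw [show c (u' - u) = c u' - c u by funext i; simp [c], Matrix.mulVec_sub, hu', hPact]
  have hWtop : W = ⊤ := by
    refine (hirr W hWinv).resolve_left fun hbot => hne ?_
    rw [eq_bot_iff]
    intro x hx
    rw [Subgroup.mem_bot]
    have hone : (x : Matrix ι ι F) * (P : Matrix ι ι F) = (P : Matrix ι ι F) := by
      refine Matrix.ext_of_mulVec_single fun j => ?_
      have hcs : c (Pi.single j 1) = Pi.single j 1 := by
        funext i
        rcases eq_or_ne i j with rfl | h <;> simp [c, *]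
      have h1 := hmove x hx (Pi.single j 1)
      rw [hbot, Submodule.mem_bot, sub_eq_zero, hcs] at h1
      rw [← Matrix.mulVec_mulVec, h1]
    refine Units.ext ?_
    have := congrArg (fun M => M * ((P⁻¹ : GL ι F) : Matrix ι ι F)) hone
    simpa [mul_assoc] using this
  intro u hu
  let u₁ : ι → F₁ := fun i => ⟨u i, hu i⟩
  have hS : S₀ = ⊤ := by
    by_contra hS
    obtain ⟨φ, hφ0, hφ⟩ := Submodule.exists_le_ker_of_lt_top S₀ (lt_top_iff_ne_top.mpr hS)
    let a : ι → F₁ := fun i => φ (Pi.single i 1)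
    have hφa : ∀ v : ι → F₁, φ v = ∑ i, v i * a i := fun v => by
      conv_lhs => rw [pi_eq_sum_univ' v]
      simp [a, map_sum]
    let K : Submodule F (ι → F) :=
      { carrier := {z | ∑ i, (((P⁻¹ : GL ι F) : Matrix ι ι F) *ᵥ z) i * (a i : F) = 0}
        add_mem' := fun {x y} hx hy => by
          simp only [Set.mem_setOf_eq, Matrix.mulVec_add, Pi.add_apply, add_mul, Finset.sum_add_distrib] at *
          rw [hx, hy, add_zero]
        zero_mem' := by simp
        smul_mem' := fun k x hx => by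
          simp only [Set.mem_setOf_eq, Matrix.mulVec_smul, Pi.smul_apply, smul_eq_mul, mul_assoc,
            ← Finset.mul_sum] at *
          rw [hx, mul_zero] }
    have hWK : W ≤ K := by
      refine Submodule.span_le.mpr ?_
      rintro _ ⟨v, hv, rfl⟩
      show ∑ i, (((P⁻¹ : GL ι F) : Matrix ι ι F) *ᵥ ((P : Matrix ι ι F) *ᵥ c v)) i * (a i : F) = 0
      rw [Matrix.mulVec_mulVec, Units.inv_mul, Matrix.one_mulVec]
      have h0 := congrArg Subtype.val ((hφa v).symm.trans (LinearMap.mem_ker.mp (hφ hv)))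
      simpa [c] using h0
    rw [hWtop] at hWK
    apply hφ0
    refine LinearMap.ext fun v => ?_
    have ha : ∀ i, a i = 0 := fun i => by
      have h1 := hWK (Submodule.mem_top : (P : Matrix ι ι F) *ᵥ Pi.single i 1 ∈ ⊤)
      change ∑ j, (((P⁻¹ : GL ι F) : Matrix ι ι F) *ᵥ ((P : Matrix ι ι F) *ᵥ Pi.single i 1)) j * (a j : F) = 0 at h1
      rw [Matrix.mulVec_mulVec, Units.inv_mul, Matrix.one_mulVec] at h1
      exact Subtype.ext (by simpa [Pi.single_apply] using h1)
    simp [hφa, ha]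
  exact (hS ▸ Submodule.mem_top : u₁ ∈ S₀)

end Cfsg.Agent.Lib.AschbacherEvenDim
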