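import Cfsg.Agent.Lib.AschbacherEvenDim.Criteria
import Cfsg.Agent.Lib.Forms.FamilyParity

/-!
An element generating a quadratic algebra of similitudes: a pair of singular halves, or a field.
-/

set_option autoImplicit false
set_option linter.unusedSectionVars false

namespace Cfsg.Agent.Lib.AschbacherEvenDim

open Cfsg.Geo Module QuadraticMap Cfsg.Agent.Lib.Subspaces.OrthForm
open Cfsg.Agent.Lib.PrimeDim.Basic Cfsg.Agent.Lib.Aschbacher
open scoped Matrix MatrixGroups

variable {ι : Type} [Fintype ι] [DecidableEq ι] {F : Type*} [Field F] [Fintype F]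

/-- A pair of singular halves, or a quadratic field of similitudes, normalised by `H`. -/
def PairOrField (Q : (ι → F) → F) (H : Subgroup (GL ι F)) : Prop :=
  (∃ (m : ℕ) (D : Fin 2 → Submodule F (ι → F)), Fintype.card ι = 2 * m ∧ IsMDecomposition m D ∧
    (∀ i, IsTotallySingularQuad Q (D i)) ∧ H ≤ decompositionStabilizer D) ∨
  (∃ K : Subalgebra F (Matrix ι ι F), IsFieldSubalgebra 2 K ∧ IsAdjointClosedFor (QuadraticMap.polar Q) K ∧
    ¬ IsSelfAdjointFor (QuadraticMap.polar Q) K ∧
    (∀ k ∈ K, ∃ c : F, ∀ v : ι → F, Q (k *ᵥ v) = c * Q v) ∧ H ≤ subalgebraNormalizer K)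

variable {Q : (ι → F) → F} (hQ : IsNondegenerateQuadraticForm Q)
include hQ

local notation "B" => QuadraticMap.polar Q

/-- An element with `T² = pT + r` and adjoint `p - T`, preserved up to that involution. -/
theorem of_quadratic [Nonempty ι] {H : Subgroup (GL ι F)} {T : Matrix ι ι F} {p r : F}
    (hT : T * T = p • T + r • 1) (hadj : ∀ u v, B (T *ᵥ u) v + B u (T *ᵥ v) = p * B u v)
    (hTQ : ∀ v, B (T *ᵥ v) v = p * Q v) (hsep : p * p + 4 * r ≠ 0) (hp : p ≠ 0 ∨ (2 : F) ≠ 0)
    (hconj : ∀ h ∈ H, (h : Matrix ι ι F) * T * ((h⁻¹ : GL ι F) : Matrix ι ι F) = T ∨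
      (h : Matrix ι ι F) * T * ((h⁻¹ : GL ι F) : Matrix ι ι F) = p • 1 - T) :
    PairOrField Q H := by
  classical
  have hb := hQ.polar_bilinear
  have hTv : ∀ v, T *ᵥ (T *ᵥ v) = p • (T *ᵥ v) + r • v := fun v => by
    rw [Matrix.mulVec_mulVec, hT, Matrix.add_mulVec, Matrix.smul_mulVec, Matrix.smul_mulVec, Matrix.one_mulVec]
  have hQT : ∀ v, Q (T *ᵥ v) = -r * Q v := fun v => by
    have h1 := hTQ (T *ᵥ v)
    rw [hTv, hb.add_left, hb.smul_left, hb.smul_left, B_self hQ, B_comm v (T *ᵥ v), hTQ] at h1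
    have h2 := hadj v (T *ᵥ v)
    rw [hTv, hb.add_right, hb.smul_right, hb.smul_right, B_comm v (T *ᵥ v), hTQ, B_self hQ, B_self hQ] at h2
    rcases hp with h | h
    · exact mul_left_cancel₀ h (by linear_combination h1)
    · exact mul_left_cancel₀ h (by linear_combination h2)
  by_cases hroot : ∃ y : F, y * y = p * y + r
  · left
    obtain ⟨y, hy⟩ := hroot
    set y' := p - y with hy'
    have hy'y : y' * y' = p * y' + r := by rw [hy']; linear_combination hy
    have hne : y - y' ≠ 0 := fun h => hsep (by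
      have : 2 * y = p := by rw [hy'] at h; linear_combination h
      rw [← this] at hy ⊢
      linear_combination (-4 : F) * hy)
    let E : F → Submodule F (ι → F) := fun z => LinearMap.ker (Matrix.toLin' (T - z • 1))
    have hmem : ∀ z v, v ∈ E z ↔ T *ᵥ v = z • v := fun z v => by
      simp only [E, LinearMap.mem_ker, Matrix.toLin'_apply, Matrix.sub_mulVec, Matrix.smul_mulVec, Matrix.one_mulVec,
        sub_eq_zero]
    have hTS : ∀ z, 2 * z - p ≠ 0 → IsTotallySingularQuad Q (E z) := fun z hz v hv => by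
      have h1 := hTQ v
      rw [(hmem z v).mp hv, hb.smul_left, B_self hQ] at h1
      exact (mul_eq_zero.mp (show (2 * z - p) * Q v = 0 by linear_combination h1)).resolve_left hz
    have h0 : IsTotallySingularQuad Q (E y) := hTS y (by rwa [show 2 * y - p = y - y' by rw [hy']; ring])
    have h1 : IsTotallySingularQuad Q (E y') := hTS y' (by
      rw [show 2 * y' - p = -(y - y') by rw [hy']; ring]; exact neg_ne_zero.mpr hne)
    have hc : IsCompl (E y) (E y') := by
      refine ⟨Submodule.disjoint_def.mpr fun v hv hv' => ?_, codisjoint_iff.mpr (eq_top_iff.mpr fun v _ => ?_)⟩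
      · have h2 : (y - y') • v = 0 := by rw [sub_smul, ← (hmem y v).mp hv, ← (hmem y' v).mp hv', sub_self]
        exact (smul_eq_zero.mp h2).resolve_left hne
      · have hv : v = (y - y')⁻¹ • (T *ᵥ v - y' • v) + (-(y - y')⁻¹) • (T *ᵥ v - y • v) := by
          rw [show (y - y')⁻¹ • (T *ᵥ v - y' • v) + (-(y - y')⁻¹) • (T *ᵥ v - y • v) =
            ((y - y')⁻¹ * (y - y')) • v by module, inv_mul_cancel₀ hne, one_smul]
        have e1 : T *ᵥ v - y' • v ∈ E y := by
          rw [hmem, Matrix.mulVec_sub, hTv, Matrix.mulVec_smul, hy']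
          match_scalars
          · ring
          · rw [mul_one, mul_one]; linear_combination -hy
        have e2 : T *ᵥ v - y • v ∈ E y' := by
          rw [hmem, Matrix.mulVec_sub, hTv, Matrix.mulVec_smul, hy']
          match_scalars
          · ring
          · rw [mul_one, mul_one]; linear_combination -hy
        rw [hv]
        exact Submodule.add_mem_sup (Submodule.smul_mem _ _ e1) (Submodule.smul_mem _ _ e2)
    set m := finrank F (E y) with hm
    have hsum := Submodule.finrank_add_eq_of_isCompl hc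
    rw [Module.finrank_fintype_fun_eq_card] at hsum
    have l0 := two_dim_le hQ h0
    have l1 := two_dim_le hQ h1
    have hm1 : finrank F (E y') = m := by omega
    have hmpos : 0 < m := by
      have : 0 < Fintype.card ι := Fintype.card_pos
      omega
    refine ⟨m, ![E y, E y'], by omega, Cfsg.Agent.Lib.AschbacherOrth.mdec_pair hmpos rfl hm1 hc,
      fun i => by fin_cases i <;> [exact h0; exact h1], fun h hh => ?_⟩
    have himg : ∀ z z', (∀ v, T *ᵥ v = z • v → T *ᵥ ((h : Matrix ι ι F) *ᵥ v) = z' • ((h : Matrix ι ι F) *ᵥ v)) →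
        finrank F (E z) = finrank F (E z') → translate h (E z) = E z' := fun z z' hmap hd => by
      refine Submodule.eq_of_le_of_finrank_le ?_ (by rw [finrank_translate, hd])
      rintro _ ⟨v, hv, rfl⟩
      rw [Matrix.toLin'_apply, hmem]
      exact hmap v ((hmem z v).mp hv)
    have hcomm : ∀ (T' : Matrix ι ι F), (h : Matrix ι ι F) * T * ((h⁻¹ : GL ι F) : Matrix ι ι F) = T' →
        ∀ v, (h : Matrix ι ι F) *ᵥ (T *ᵥ v) = T' *ᵥ ((h : Matrix ι ι F) *ᵥ v) := fun T' e v => by
      rw [← e, ← Matrix.mulVec_mulVec, ← Matrix.mulVec_mulVec, inv_mulVec_cancel]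
    rcases hconj h hh with e | e
    · have hk : ∀ (z : F) (v : ι → F), T *ᵥ v = z • v → T *ᵥ ((h : Matrix ι ι F) *ᵥ v) = z • ((h : Matrix ι ι F) *ᵥ v) :=
        fun z v hv => by rw [← hcomm T e v, hv, Matrix.mulVec_smul]
      refine ⟨1, fun i => ?_⟩
      fin_cases i
      · exact himg y y (hk y) rfl
      · exact himg y' y' (hk y') rfl
    · have hk : ∀ (z : F) (v : ι → F), T *ᵥ v = z • v → T *ᵥ ((h : Matrix ι ι F) *ᵥ v) = (p - z) • ((h : Matrix ι ι F) *ᵥ v) := by
        intro z v hv
        have h2 := hcomm _ e v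
        rw [hv, Matrix.mulVec_smul, Matrix.sub_mulVec, Matrix.smul_mulVec, Matrix.one_mulVec] at h2
        linear_combination (norm := module) h2
      refine ⟨Equiv.swap 0 1, fun i => ?_⟩
      fin_cases i
      · exact himg y y' (hk y) hm1.symm
      · exact himg y' y (fun v hv => by rw [hk y' v hv, hy', sub_sub_cancel]) hm1
  right
  push Not at hroot
  let K : Subalgebra F (Matrix ι ι F) :=
    { carrier := {M | ∃ a b : F, M = a • 1 + b • T}
      mul_mem' := by
        rintro _ _ ⟨a, b, rfl⟩ ⟨c, d, rfl⟩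
        refine ⟨a * c + b * d * r, a * d + b * c + b * d * p, ?_⟩
        simp only [add_mul, mul_add, Matrix.smul_mul, Matrix.mul_smul, one_mul, mul_one, hT, smul_add, smul_smul]
        module
      one_mem' := ⟨1, 0, by simp⟩
      add_mem' := by
        rintro _ _ ⟨a, b, rfl⟩ ⟨c, d, rfl⟩
        exact ⟨a + c, b + d, by module⟩
      zero_mem' := ⟨0, 0, by simp⟩
      algebraMap_mem' := fun c => ⟨c, 0, by simp [Algebra.algebraMap_eq_smul_one]⟩ }
  have hK : ∀ M, M ∈ K ↔ ∃ a b : F, M = a • 1 + b • T := fun _ => Iff.rfl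
  have hTK : T ∈ K := (hK T).mpr ⟨0, 1, by simp⟩
  have hns : ∀ s : F, T ≠ s • 1 := by
    intro s hs
    refine hroot s ?_
    obtain ⟨i⟩ := ‹Nonempty ι›
    have h1 := congrFun (congrFun hT i) i
    rw [hs] at h1
    simpa using h1
  have hN : ∀ a b : F, a * a + a * b * p - b * b * r = 0 → a = 0 ∧ b = 0 := fun a b h => by
    by_cases hb0 : b = 0
    · subst hb0; simpa using h
    · exact absurd (by field_simp; linear_combination h) (hroot (-a / b))
  refine ⟨K, ⟨?_, ?_, ?_⟩, ?_, fun hself => ?_, ?_, fun h hh M => ?_⟩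
  · intro x hx y hy
    obtain ⟨a, b, rfl⟩ := (hK x).mp hx
    obtain ⟨c, d, rfl⟩ := (hK y).mp hy
    simp only [add_mul, mul_add, Matrix.smul_mul, Matrix.mul_smul, one_mul, mul_one, smul_smul]
    module
  · intro x hx hx0
    obtain ⟨a, b, rfl⟩ := (hK x).mp hx
    set n := a * a + a * b * p - b * b * r with hn
    have hn0 : n ≠ 0 := fun h => hx0 (by obtain ⟨rfl, rfl⟩ := hN a b h; simp)
    refine ⟨n⁻¹ • ((a + b * p) • 1 - b • T), Subalgebra.smul_mem _ ((hK _).mpr ⟨a + b * p, -b, by module⟩) _, ?_⟩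
    rw [Matrix.mul_smul, show (a • 1 + b • T) * ((a + b * p) • 1 - b • T) = n • (1 : Matrix ι ι F) by
      simp only [add_mul, mul_sub, Matrix.smul_mul, Matrix.mul_smul, one_mul, mul_one, hT, smul_add, smul_smul, hn]
      module, smul_smul, inv_mul_cancel₀ hn0, one_smul]
  · have hli : LinearIndependent F ![(⟨1, one_mem K⟩ : K), ⟨T, hTK⟩] := by
      rw [LinearIndependent.pair_iff]
      intro a b hab
      have h' : a • (1 : Matrix ι ι F) + b • T = 0 := congrArg Subtype.val hab
      have hb0 : b = 0 := by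
        by_contra hb0
        refine hns (-a / b) ?_
        have := congrArg (fun M => b⁻¹ • M) h'
        simp only [smul_add, smul_smul, inv_mul_cancel₀ hb0, one_smul, smul_zero] at this
        rw [eq_neg_of_add_eq_zero_right this, ← neg_smul, neg_div, div_eq_inv_mul]
      refine ⟨?_, hb0⟩
      rw [hb0, zero_smul, add_zero] at h'
      exact (smul_eq_zero.mp h').resolve_right one_ne_zero
    have htop : Submodule.span F (Set.range ![(⟨1, one_mem K⟩ : K), ⟨T, hTK⟩]) = ⊤ := by
      rw [eq_top_iff]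
      rintro ⟨x, hx⟩ -
      obtain ⟨a, b, rfl⟩ := (hK x).mp hx
      rw [Submodule.mem_span_range_iff_exists_fun]
      exact ⟨![a, b], Subtype.ext (by simp [Fin.sum_univ_two])⟩
    rw [← finrank_top F K, ← htop, finrank_span_eq_card hli, Fintype.card_fin]
  · intro k hk
    obtain ⟨a, b, rfl⟩ := (hK k).mp hk
    refine ⟨(a + b * p) • 1 - b • T, (hK _).mpr ⟨a + b * p, -b, by module⟩, fun u v => ?_⟩
    simp only [Matrix.add_mulVec, Matrix.sub_mulVec, Matrix.smul_mulVec, Matrix.one_mulVec, hb.add_left,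
      hb.smul_left, sub_right hQ, hb.smul_right]
    linear_combination b * hadj u v
  · refine hsep ?_
    have h2 : ∀ u v, B ((T + T - p • 1) *ᵥ u) v = 0 := fun u v => by
      have e := hself T hTK u v
      rw [Matrix.sub_mulVec, Matrix.add_mulVec, Matrix.smul_mulVec, Matrix.one_mulVec,
        Cfsg.Agent.Lib.Subspaces.FormVec.form_sub_left (bil hQ), hb.add_left, hb.smul_left]
      linear_combination e + hadj u v
    have h3 : T + T - p • 1 = 0 := by
      refine Matrix.ext_of_mulVec_single fun j => ?_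
      rw [Matrix.zero_mulVec]
      by_contra h0
      obtain ⟨x, hx⟩ := (hQ.nondegenerate _ h0).2
      exact hx (h2 _ x)
    have h4 : (T + T - p • 1) * (T + T - p • 1) = (p * p + 4 * r) • (1 : Matrix ι ι F) := by
      simp only [add_mul, mul_sub, sub_mul, mul_add, Matrix.smul_mul, Matrix.mul_smul, one_mul, mul_one, hT, smul_add,
        smul_smul]
      module
    rw [h3, mul_zero, eq_comm, smul_eq_zero] at h4
    exact h4.resolve_right one_ne_zero
  · intro k hk
    obtain ⟨a, b, rfl⟩ := (hK k).mp hk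
    refine ⟨a * a + a * b * p - b * b * r, fun v => ?_⟩
    rw [Matrix.add_mulVec, Matrix.smul_mulVec, Matrix.smul_mulVec, Matrix.one_mulVec, Q_add (Q := Q), hQ.smul,
      hQ.smul, hb.smul_left, hb.smul_right, B_comm v (T *ᵥ v), hTQ, hQT]
    ring
  · have key : ∀ g ∈ H, ∀ N ∈ K, (g : Matrix ι ι F) * N * ((g⁻¹ : GL ι F) : Matrix ι ι F) ∈ K := by
      intro g hg N hN'
      obtain ⟨a, b, rfl⟩ := (hK N).mp hN'
      simp only [mul_add, add_mul, Matrix.mul_smul, Matrix.smul_mul, mul_one, Units.mul_inv]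
      rcases hconj g hg with e | e <;> rw [e]
      · exact (hK _).mpr ⟨a, b, rfl⟩
      · exact (hK _).mpr ⟨a + b * p, -b, by module⟩
    refine ⟨fun hM => key h hh M hM, fun hM => ?_⟩
    simpa [mul_assoc] using key h⁻¹ (inv_mem hh) _ hM

/-- In `Ω` of odd Witt index halves are not interchanged, so a pair of halves gives a fixed half. -/
theorem pair_reducible {m : ℕ} (hn : Fintype.card ι = 2 * m) (hm : Odd m) {D : Fin 2 → Submodule F (ι → F)}
    (hD : IsMDecomposition m D) (hts : ∀ i, IsTotallySingularQuad Q (D i)) {H : Subgroup (GL ι F)}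
    (hHΩ : H ≤ omegaGL Q) (hH : H ≤ decompositionStabilizer D) : ¬ Irred H := by
  intro hirr
  have hinf : D 0 ⊓ D 1 = ⊥ := (hD.indep.pairwiseDisjoint (show (0 : Fin 2) ≠ 1 by decide)).eq_bot
  have hmax : Cfsg.Agent.Lib.Forms.MaxSingular.IsMax (Cfsg.Agent.Lib.Subspaces.OmegaGL.qf hQ) m (D 0) :=
    ⟨hD.finrank_eq 0, fun w hw => hts 0 w hw⟩
  have hinv : Invariant H (D 0) := by
    intro h hh v hv
    obtain ⟨σ, hσ⟩ := hH hh
    have h0 : (D 0).map (Matrix.toLin' (h : Matrix ι ι F)) = D (σ 0) := hσ 0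
    have hfix : σ 0 = 0 := by
      by_contra hne
      have h1 : σ 0 = 1 := by omega
      refine Cfsg.Agent.Lib.Forms.FamilyParity.img_ne hQ hn hmax (W := D 1) ?_ (hHΩ hh) (h1 ▸ h0)
      rw [hinf, finrank_bot, Nat.sub_zero]
      exact hm
    rw [← hfix, ← h0, ← Matrix.toLin'_apply]
    exact Submodule.mem_map_of_mem hv
  have hpos := hD.pos
  rcases hirr (D 0) hinv with h | h
  · have := hD.finrank_eq 0
    rw [h, finrank_bot] at this
    omega
  · have := hD.finrank_eq 0
    rw [h, finrank_top, Module.finrank_fintype_fun_eq_card] at this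
    omega

end Cfsg.Agent.Lib.AschbacherEvenDim
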