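import Cfsg.Agent.Lib.AschbacherEvenDim.Proper
import Cfsg.Agent.Lib.AschbacherEvenDim.Omega
import Cfsg.Agent.Lib.AschbacherOrth.OddMax
import Cfsg.Agent.Lib.AschbacherSp.Cases

/-!
Maximal subgroups of `Ω` with an invariant subspace, in even dimension.
-/

set_option autoImplicit false
set_option linter.unusedSectionVars false

namespace Cfsg.Agent.Lib.AschbacherEvenDim

open Cfsg.Geo Module QuadraticMap Cfsg.Agent.Lib.Subspaces.OrthForm Cfsg.Agent.Lib.Subspaces.OrthNondeg
open Cfsg.Agent.Lib.PrimeDim.Basic Cfsg.Agent.Lib.Aschbacher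
open Cfsg.Agent.Lib.AschbacherSp (eq_inf)
open Cfsg.Agent.Lib.Subspaces.OmegaGL (omega_isometry)
open scoped Matrix MatrixGroups

variable {ι : Type} [Fintype ι] [DecidableEq ι] {F : Type*} [Field F] [Fintype F] {Q : (ι → F) → F}
  (hQ : IsNondegenerateQuadraticForm Q)
include hQ

local notation "B" => QuadraticMap.polar Q

theorem inf_perpQ_eq_bot {W : Submodule F (ι → F)} (hW : IsNondegenerateOn B W) : W ⊓ perpQ hQ W = ⊥ := by
  rw [eq_bot_iff]
  rintro y ⟨hy, hy'⟩
  by_contra h0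
  obtain ⟨-, z, hz, hyz⟩ := hW y hy h0
  exact hyz (hy' z hz)

theorem omega_B {g : GL ι F} (hg : g ∈ omegaGL Q) (u v : ι → F) :
    B ((g : Matrix ι ι F) *ᵥ u) ((g : Matrix ι ι F) *ᵥ v) = B u v :=
  B_map (omega_isometry hQ hg) u v

theorem invariant_perpQ {H : Subgroup (GL ι F)} (hH : H ≤ omegaGL Q) {W : Submodule F (ι → F)}
    (hW : Invariant H W) : Invariant H (perpQ hQ W) := by
  intro h hh v hv w hw
  rw [show w = (h : Matrix ι ι F) *ᵥ (((h⁻¹ : GL ι F) : Matrix ι ι F) *ᵥ w) by rw [mulVec_inv_cancel],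
    omega_B hQ (hH hh)]
  exact hv _ (hW h⁻¹ (inv_mem hh) w hw)

/-- The two halves of a non-degenerate subspace of half the dimension form a decomposition. -/
theorem pair_decomp {m : ℕ} (hn : Fintype.card ι = 2 * m) (hm : 0 < m) {W : Submodule F (ι → F)}
    (hW : IsNondegenerateOn B W) (hd : finrank F W = m) :
    IsNondegenerateMDecomposition B m ![W, perpQ hQ W] ∧
      subspaceStabilizer W ⊓ omegaGL Q ≤ decompositionStabilizer ![W, perpQ hQ W] := by
  have hdim := finrank_add_perpQ (hQ := hQ) hW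
  have hc : IsCompl W (perpQ hQ W) := by
    refine ⟨disjoint_iff.mpr (inf_perpQ_eq_bot hQ hW), codisjoint_iff.mpr (Submodule.eq_top_of_finrank_eq ?_)⟩
    have h3 := Submodule.finrank_sup_add_finrank_inf_eq W (perpQ hQ W)
    rw [inf_perpQ_eq_bot hQ hW, finrank_bot] at h3
    rw [Module.finrank_fintype_fun_eq_card]
    omega
  refine ⟨⟨Cfsg.Agent.Lib.AschbacherOrth.mdec_pair hm hd (by omega) hc, fun i => ?_, fun i j hij => ?_⟩, fun g hg => ⟨1, fun i => ?_⟩⟩
  · fin_cases i <;> [simpa using hW; simpa using perpQ_nondeg hW]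
  · fin_cases i <;> fin_cases j <;>
      first
        | exact absurd rfl hij
        | exact fun u hu v hv => (B_comm u v).trans (hv u hu)
        | exact fun u hu v hv => hu v hv
  · have hle : subspaceStabilizer W ⊓ omegaGL Q ≤ omegaGL Q := inf_le_right
    have hWi : Invariant (subspaceStabilizer W ⊓ omegaGL Q) W := fun x hx w hw => (hx.1 w).mp hw
    have hinv : Invariant (subspaceStabilizer W ⊓ omegaGL Q) (![W, perpQ hQ W] i) := by
      fin_cases i <;> [exact hWi; exact invariant_perpQ hQ hle hWi]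
    show translate g _ = _
    refine le_antisymm ?_ fun v hv => ?_
    · rintro _ ⟨v, hv, rfl⟩; exact hinv g hg v hv
    · exact mem_translate.mpr (hinv g⁻¹ (inv_mem hg) v hv)

theorem nondeg_line {v : ι → F} (h2 : (2 : F) ≠ 0) (hv : Q v ≠ 0) : IsNondegenerateOn B (Submodule.span F {v}) := by
  intro w hw hw0
  obtain ⟨a, rfl⟩ := Submodule.mem_span_singleton.mp hw
  have ha : a ≠ 0 := fun h => hw0 (by rw [h, zero_smul])
  have hne : B v v ≠ 0 := by rw [B_self hQ]; exact mul_ne_zero h2 hv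
  refine ⟨⟨v, Submodule.mem_span_singleton_self v, ?_⟩, ⟨v, Submodule.mem_span_singleton_self v, ?_⟩⟩
  · rw [hQ.polar_bilinear.smul_right]; exact mul_ne_zero ha hne
  · rw [hQ.polar_bilinear.smul_left]; exact mul_ne_zero ha hne

theorem even_dim_of_char_two (h2 : (2 : F) = 0) {W : Submodule F (ι → F)} (hW : IsNondegenerateOn B W) :
    Even (finrank F W) := by
  rcases Cfsg.Agent.Lib.Forms.classify (resQ hQ W) (resQ_nondeg hQ hW) with ⟨k, hk, -⟩ | ⟨k, c, -, h, -, -⟩ |
    ⟨k, a, b, -, hk, -⟩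
  · exact ⟨k, by omega⟩
  · exact absurd h2 h
  · exact ⟨k + 1, by omega⟩

omit hQ [DecidableEq ι] in
theorem two_cases (F : Type*) [Field F] [Fintype F] :
    (Odd (Fintype.card F) ∧ (2 : F) ≠ 0) ∨ (¬ Odd (Fintype.card F) ∧ (2 : F) = 0) := by
  by_cases h : Odd (Fintype.card F)
  · exact Or.inl ⟨h, Cfsg.Agent.Lib.AschbacherSp.two_ne_zero' h⟩
  · exact Or.inr ⟨h, Cfsg.Agent.Lib.AschbacherSp.two_eq_zero h⟩

theorem ne_top_ts [Nonempty ι] {W : Submodule F (ι → F)} (h : IsTotallySingularQuad Q W) : W ≠ ⊤ := by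
  rintro rfl
  have := two_dim_le hQ h
  rw [finrank_top, Module.finrank_fintype_fun_eq_card] at this
  have : 0 < Fintype.card ι := Fintype.card_pos
  omega

/-- A maximal subgroup of `Ω` with an invariant totally singular subspace. -/
theorem singular_case {m : ℕ} (hn : Fintype.card ι = 2 * m) (h7 : 7 ≤ Fintype.card ι) {H : Subgroup (GL ι F)}
    (hH : IsMaximalIn (omegaGL Q) H) {W : Submodule F (ι → F)} (hW0 : W ≠ ⊥) (hW : IsTotallySingularQuad Q W)
    (hinv : Invariant H W) :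
    ∃ U : Submodule F (ι → F), U ≠ ⊥ ∧ IsTotallySingularQuad Q U ∧
      (IsPlusTypeOn Q ⊤ → finrank F U + 1 ≠ m) ∧ H = subspaceStabilizer U ⊓ omegaGL Q := by
  haveI : Nonempty ι := Fintype.card_pos_iff.mp (by omega)
  by_cases hx : IsPlusTypeOn Q ⊤ ∧ finrank F W + 1 = m
  swap
  · exact ⟨W, hW0, hW, fun h h' => hx ⟨h, h'⟩,
      eq_inf hH (invariant_le_stab hinv) (not_le_stab hQ h7 hW0 (ne_top_ts hQ hW))⟩
  obtain ⟨⟨X, -, hX, hXd⟩, hWd⟩ := hx
  rw [finrank_top, Module.finrank_fintype_fun_eq_card] at hXd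
  obtain ⟨U, hU, hWU, -⟩ := Cfsg.Agent.Lib.Forms.MaxSingular.exists_through
    (Cfsg.Agent.Lib.Subspaces.OmegaGL.qf_nondeg hQ) (m := m) (by rw [Module.finrank_fintype_fun_eq_card, hn])
    (X := X) ⟨by omega, fun w hw => hX w hw⟩ (Y := W) (fun w hw => hW w hw)
  have hUs : IsTotallySingularQuad Q U := fun w hw => hU.2 w hw
  have hU0 : U ≠ ⊥ := fun h => hW0 (le_bot_iff.mp (h ▸ hWU))
  refine ⟨U, hU0, hUs, fun _ => by rw [hU.1]; omega, eq_inf hH ?_ (not_le_stab hQ h7 hU0 (ne_top_ts hQ hUs))⟩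
  refine invariant_le_stab fun h hh v hv => ?_
  set U' := U.map (Matrix.toLin' (h : Matrix ι ι F)) with hU'
  have hd' : finrank F U' = m := (Cfsg.Agent.Lib.Forms.FamilyParity.finrank_img h U).trans hU.1
  have hWU' : W ≤ U' := fun w hw => ⟨((h⁻¹ : GL ι F) : Matrix ι ι F) *ᵥ w, hWU (hinv h⁻¹ (inv_mem hh) w hw),
    by rw [Matrix.toLin'_apply, mulVec_inv_cancel]⟩
  have heq : U' = U := by
    by_contra hne
    refine Cfsg.Agent.Lib.Forms.FamilyParity.img_ne hQ hn hU (W := U') ?_ (hH.1.le hh) rfl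
    have h1 := Submodule.finrank_mono (le_inf hWU hWU')
    have h2 : finrank F ↥(U ⊓ U') < m := by
      by_contra hge
      refine hne ?_
      have e1 : U ⊓ U' = U := Submodule.eq_of_le_of_finrank_le inf_le_left (by rw [hU.1]; omega)
      exact (Submodule.eq_of_le_of_finrank_le (e1.symm.le.trans inf_le_right) (by rw [hd', hU.1])).symm
    rw [show m - finrank F ↥(U ⊓ U') = 1 by omega]
    exact odd_one
  rw [← heq, ← Matrix.toLin'_apply]
  exact Submodule.mem_map_of_mem hv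

/-- The outcomes for a maximal subgroup with an invariant subspace. -/
def ReducibleOutcome (m : ℕ) (H : Subgroup (GL ι F)) : Prop :=
  (∃ W : Submodule F (ι → F), W ≠ ⊥ ∧ IsTotallySingularQuad Q W ∧
    (IsPlusTypeOn Q ⊤ → finrank F W + 1 ≠ m) ∧ H = subspaceStabilizer W ⊓ omegaGL Q) ∨
  (Odd (Fintype.card F) ∧ ∃ W : Submodule F (ι → F), W ≠ ⊥ ∧ W ≠ ⊤ ∧ Odd (finrank F W) ∧
    2 * finrank F W ≠ Fintype.card ι ∧ IsNondegenerateOn B W ∧ H = subspaceStabilizer W ⊓ omegaGL Q) ∨
  (∃ W : Submodule F (ι → F), finrank F W = 2 ∧ IsNondegenerateOn B W ∧ ¬ IsPlusTypeOn Q W ∧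
    H = subspaceStabilizer W ⊓ omegaGL Q) ∨
  (4 ≤ Fintype.card F ∧ ∃ W : Submodule F (ι → F), finrank F W = 2 ∧ IsNondegenerateOn B W ∧ IsPlusTypeOn Q W ∧
    H = subspaceStabilizer W ⊓ omegaGL Q) ∨
  (∃ W : Submodule F (ι → F), (∃ j, 2 ≤ j ∧ j + j = finrank F W ∧ 2 * j ≤ m) ∧ IsNondegenerateOn B W ∧
    H = subspaceStabilizer W ⊓ omegaGL Q) ∨
  (¬ Odd (Fintype.card F) ∧ ∃ v : ι → F, Q v ≠ 0 ∧ H = subspaceStabilizer (Submodule.span F {v}) ⊓ omegaGL Q) ∨
  (Odd (Fintype.card F) ∧ Odd m ∧ ∃ W : Submodule F (ι → F), finrank F W = m ∧ IsNondegenerateOn B W ∧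
    IsNondegenerateMDecomposition B m ![W, perpQ hQ W] ∧ H ≤ decompositionStabilizer ![W, perpQ hQ W])

theorem reducible_cases {m : ℕ} (hn : Fintype.card ι = 2 * m) (h7 : 7 ≤ Fintype.card ι) {H : Subgroup (GL ι F)}
    (hH : IsMaximalIn (omegaGL Q) H) (hirr : ¬ Irred H) : ReducibleOutcome hQ m H := by
  haveI : Nonempty ι := Fintype.card_pos_iff.mp (by omega)
  have hb := hQ.polar_bilinear
  simp only [Irred, not_forall, not_or] at hirr
  obtain ⟨W₀, hW₀, h00, h01⟩ := hirr
  have hWp := invariant_perpQ hQ hH.1.le hW₀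
  have hline : ∀ {v : ι → F}, Q v ≠ 0 → Submodule.span F {v} ≠ ⊥ ∧ Submodule.span F {v} ≠ ⊤ ∧
      finrank F (Submodule.span F {v}) = 1 := fun {v} hv => by
    have hv0 : v ≠ 0 := fun h => hv (by rw [h, Q_zero hQ])
    have h1 : finrank F (Submodule.span F {v}) = 1 := finrank_span_singleton hv0
    refine ⟨by simpa using hv0, fun h => ?_, h1⟩
    rw [h, finrank_top, Module.finrank_fintype_fun_eq_card] at h1
    omega
  by_cases hR : W₀ ⊓ perpQ hQ W₀ = ⊥
  swap
  · set R := W₀ ⊓ perpQ hQ W₀ with hRdef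
    have hRinv : Invariant H R := fun h hh v hv => ⟨hW₀ h hh v hv.1, hWp h hh v hv.2⟩
    have hRB : ∀ u ∈ R, ∀ v ∈ R, B u v = 0 := fun u hu v hv => hu.2 v hv.1
    by_cases hts : IsTotallySingularQuad Q R
    · exact Or.inl (singular_case hQ hn h7 hH hR hts hRinv)
    rcases two_cases F with ⟨-, h2⟩ | ⟨hev, h2⟩
    · refine absurd (fun w hw => ?_) hts
      have := hRB w hw w hw
      rw [B_self hQ] at this
      exact (mul_eq_zero.mp this).resolve_left h2
    let R₀ : Submodule F (ι → F) :=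
      { carrier := {v | v ∈ R ∧ Q v = 0}
        add_mem' := fun {a b} ha hb' => ⟨R.add_mem ha.1 hb'.1, by
          rw [Q_add (Q := Q), ha.2, hb'.2, hRB a ha.1 b hb'.1]; ring⟩
        zero_mem' := ⟨R.zero_mem, Q_zero hQ⟩
        smul_mem' := fun c v hv => ⟨R.smul_mem c hv.1, by rw [hQ.smul, hv.2, mul_zero]⟩ }
    have hR₀inv : Invariant H R₀ := fun h hh v hv =>
      ⟨hRinv h hh v hv.1, (omega_isometry hQ (hH.1.le hh) v).trans hv.2⟩
    by_cases hR₀ : R₀ = ⊥
    swap
    · exact Or.inl (singular_case hQ hn h7 hH hR₀ (fun w hw => hw.2) hR₀inv)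
    obtain ⟨v, hv, hQv⟩ : ∃ v ∈ R, Q v ≠ 0 := by
      by_contra! h
      exact hts h
    have hspan : R = Submodule.span F {v} := by
      refine le_antisymm (fun x hx => ?_) ((Submodule.span_singleton_le_iff_mem _ _).mpr hv)
      have hc : ringChar F = 2 := by
        have : CharP F 2 := CharTwo.of_one_ne_zero_of_two_eq_zero one_ne_zero h2
        exact ringChar.eq F 2
      obtain ⟨a, ha⟩ := FiniteField.isSquare_of_char_two hc (Q x / Q v)
      have h3 : x + a • v ∈ R₀ := ⟨R.add_mem hx (R.smul_mem a hv), by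
        rw [Q_add_smul hQ, hRB x hx v hv, mul_zero, add_zero, pow_two, ← ha, div_mul_cancel₀ _ hQv]
        linear_combination Q x * h2⟩
      rw [hR₀, Submodule.mem_bot] at h3
      rw [eq_neg_of_add_eq_zero_left h3]
      exact Submodule.neg_mem _ (Submodule.smul_mem _ _ (Submodule.mem_span_singleton_self v))
    refine Or.inr (Or.inr (Or.inr (Or.inr (Or.inr (Or.inl ⟨hev, v, hQv, ?_⟩)))))
    rw [hspan] at hRinv
    exact eq_inf hH (invariant_le_stab hRinv) (not_le_stab hQ h7 (hline hQv).1 (hline hQv).2.1)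
  -- a non-degenerate invariant subspace of dimension at most half
  have hnd : IsNondegenerateOn B W₀ := by
    intro w hw hw0
    have key : ∃ x ∈ W₀, B w x ≠ 0 := by
      by_contra! h
      exact hw0 ((Submodule.mem_bot F).mp (hR ▸ ⟨hw, fun x hx => h x hx⟩))
    obtain ⟨x, hx, hne⟩ := key
    exact ⟨⟨x, hx, by rwa [B_comm]⟩, ⟨x, hx, hne⟩⟩
  have hdim := finrank_add_perpQ (hQ := hQ) hnd
  have hpos : 0 < finrank F W₀ := Nat.pos_of_ne_zero fun h => h00 (Submodule.finrank_eq_zero.mp h)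
  have hlt : finrank F W₀ < Fintype.card ι := by
    rw [← Module.finrank_fintype_fun_eq_card (η := ι) F]
    exact Submodule.finrank_lt h01
  obtain ⟨W, hWinv, hW, hd0, hdm⟩ : ∃ W : Submodule F (ι → F), Invariant H W ∧ IsNondegenerateOn B W ∧
      0 < finrank F W ∧ finrank F W ≤ m := by
    by_cases h : finrank F W₀ ≤ m
    · exact ⟨W₀, hW₀, hnd, hpos, h⟩
    · exact ⟨_, hWp, perpQ_nondeg hnd, by omega, by omega⟩
  have hW0 : W ≠ ⊥ := fun h => by rw [h, finrank_bot] at hd0; omega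
  have hW1 : W ≠ ⊤ := fun h => by
    rw [h, finrank_top, Module.finrank_fintype_fun_eq_card] at hdm; omega
  have heq := eq_inf hH (invariant_le_stab hWinv) (not_le_stab hQ h7 hW0 hW1)
  rcases Nat.even_or_odd (finrank F W) with ⟨j, hj⟩ | hod
  swap
  · have hqo : Odd (Fintype.card F) := by
      rcases two_cases F with ⟨h, -⟩ | ⟨-, h2⟩
      · exact h
      · exact absurd (even_dim_of_char_two hQ h2 hW) (Nat.not_even_iff_odd.mpr hod)
    by_cases h2m : 2 * finrank F W = Fintype.card ι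
    · have hdW : finrank F W = m := by omega
      obtain ⟨hD, hle⟩ := pair_decomp hQ hn (by omega) hW hdW
      exact Or.inr (Or.inr (Or.inr (Or.inr (Or.inr (Or.inr ⟨hqo, hdW ▸ hod, W, hdW, hW, hD,
        le_trans (le_inf (invariant_le_stab hWinv) hH.1.le) hle⟩)))))
    · exact Or.inr (Or.inl ⟨hqo, W, hW0, hW1, hod, h2m, hW, heq⟩)
  by_cases hj1 : j = 1
  swap
  · exact Or.inr (Or.inr (Or.inr (Or.inr (Or.inl ⟨W, ⟨j, by omega, hj.symm, by omega⟩, hW, heq⟩))))
  subst hj1
  by_cases hp : IsPlusTypeOn Q W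
  swap
  · exact Or.inr (Or.inr (Or.inl ⟨W, hj, hW, hp, heq⟩))
  by_cases hq : 4 ≤ Fintype.card F
  · exact Or.inr (Or.inr (Or.inr (Or.inl ⟨hq, W, hj, hW, hp, heq⟩)))
  rcases two_cases F with ⟨hodd, h2⟩ | ⟨hev, h2⟩
  · have h3 : Fintype.card F = 3 := by
      have := Fintype.one_lt_card (α := F)
      obtain ⟨r, hr⟩ := hodd
      omega
    obtain ⟨v, hv, hle⟩ := Cfsg.Agent.Lib.AschbacherOrth.plane_line hQ hodd h3 hj hW hp
    obtain ⟨l0, l1, l2⟩ := hline hv
    refine Or.inr (Or.inl ⟨hodd, _, l0, l1, by rw [l2]; exact odd_one, by rw [l2]; omega, nondeg_line hQ h2 hv, ?_⟩)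
    refine eq_inf hH ?_ (not_le_stab hQ h7 l0 l1)
    exact le_trans (le_inf (invariant_le_stab hWinv) (hH.1.le.trans
      (Cfsg.Agent.Lib.AschbacherOrth.omegaGL_le_isometryGroup Q))) hle
  -- over two elements the hyperbolic plane has one non-singular vector
  have hq2 : Fintype.card F = 2 := by
    have := Fintype.one_lt_card (α := F)
    have : ¬ Fintype.card F = 3 := fun h => hev (by rw [h]; decide)
    omega
  obtain ⟨v, hv, hQv, hinv⟩ : ∃ v ∈ W, Q v ≠ 0 ∧ ∀ x ∈ W, Q x ≠ 0 → x = v := by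
    obtain ⟨U, hUW, hU, hUd⟩ := hp
    obtain ⟨e, he, he0⟩ := Submodule.exists_mem_ne_zero_of_ne_bot (p := U) fun h => by
      rw [h, finrank_bot] at hUd; omega
    obtain ⟨-, f, hf, hef⟩ := hW e (hUW he) he0
    have hF : ∀ a : F, a = 0 ∨ a = 1 := fun a => by
      by_contra h
      push Not at h
      have : Fintype.card F ≥ 3 := by
        classical
        calc Fintype.card F ≥ ({0, 1, a} : Finset F).card := Finset.card_le_univ _
          _ = 3 := by
            rw [Finset.card_insert_of_notMem (by simp [Ne.symm h.1]), Finset.card_insert_of_notMem (by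
              simp [Ne.symm h.2]), Finset.card_singleton]
      omega
    have heQ := hU e he
    have hee : B e e = 0 := by rw [B_self hQ, heQ, mul_zero]
    have hef1 : B e f = 1 := (hF _).resolve_left hef
    have hall : ∀ x ∈ W, ∃ a b : F, x = a • e + b • f := by
      have hli : LinearIndependent F ![e, f] := LinearIndependent.pair_iff.mpr fun a b hab => by
        have h1 := congrArg (B e) hab
        rw [hb.add_right, hb.smul_right, hb.smul_right, hee, hef1, zero_right hQ, mul_zero, zero_add, mul_one] at h1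
        refine ⟨?_, h1⟩
        rw [h1, zero_smul, add_zero] at hab
        exact (smul_eq_zero.mp hab).resolve_right he0
      have hsp : Submodule.span F (Set.range ![e, f]) = W := by
        refine Submodule.eq_of_le_of_finrank_le (Submodule.span_le.mpr ?_) (by
          rw [hj, finrank_span_eq_card hli, Fintype.card_fin])
        rintro _ ⟨k, rfl⟩
        fin_cases k <;> [exact hUW he; exact hf]
      intro x hx
      rw [← hsp, Submodule.mem_span_range_iff_exists_fun] at hx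
      obtain ⟨c, hc⟩ := hx
      exact ⟨c 0, c 1, by rw [← hc, Fin.sum_univ_two]; simp⟩
    rcases hF (Q f) with hfQ | hfQ
    · refine ⟨e + f, W.add_mem (hUW he) hf, by rw [Q_add (Q := Q), heQ, hfQ, hef1]; simp, fun x hx hQx => ?_⟩
      obtain ⟨a, b, rfl⟩ := hall x hx
      rcases hF a with rfl | rfl <;> rcases hF b with rfl | rfl <;>
        simp_all [Q_add (Q := Q), hQ.smul, Q_zero hQ]
    · refine ⟨f, hf, by rw [hfQ]; exact one_ne_zero, fun x hx hQx => ?_⟩
      obtain ⟨a, b, rfl⟩ := hall x hx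
      rcases hF a with rfl | rfl <;> rcases hF b with rfl | rfl <;>
        simp_all [Q_add (Q := Q), hQ.smul, Q_zero hQ]
      exact hQx (by linear_combination h2)
  refine Or.inr (Or.inr (Or.inr (Or.inr (Or.inr (Or.inl ⟨hev, v, hQv, ?_⟩)))))
  refine eq_inf hH (invariant_le_stab fun h hh x hx => ?_) (not_le_stab hQ h7 (hline hQv).1 (hline hQv).2.1)
  obtain ⟨c, rfl⟩ := Submodule.mem_span_singleton.mp hx
  rw [Matrix.mulVec_smul, hinv _ (hWinv h hh v hv) (by rw [omega_isometry hQ (hH.1.le hh)]; exact hQv)]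
  exact Submodule.smul_mem _ _ (Submodule.mem_span_singleton_self v)

end Cfsg.Agent.Lib.AschbacherEvenDim
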