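import Cfsg.Agent.Lib.AschbacherEvenDim.Planes
import Cfsg.Agent.Lib.AschbacherEvenDim.EvenTools
import Cfsg.Agent.Lib.AschbacherEvenDim.Blocks
import Cfsg.Agent.Lib.AschbacherEvenDim.Reducible
import Cfsg.Agent.Lib.Aschbacher.Small

/-!
Decompositions over fields with two and four elements.
-/

set_option autoImplicit false
set_option linter.unusedSectionVars false
set_option linter.style.haveILetI false

namespace Cfsg.Agent.Lib.AschbacherEvenDim

open Cfsg.Geo Module QuadraticMap Cfsg.Agent.Lib.Subspaces.OrthForm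
open Cfsg.Agent.Lib.PrimeDim.Basic Cfsg.Agent.Lib.Aschbacher
open Cfsg.Agent.Lib.AschbacherOrth (gram_eq)
open Cfsg.Agent.Lib.Subspaces.OmegaGL (omega_isometry)
open Cfsg.Agent.Lib.Aschbacher (eq_zero_or_one)
open scoped Matrix MatrixGroups

variable {ι : Type} [Fintype ι] [DecidableEq ι] {F : Type*} [Field F] [Fintype F] {Q : (ι → F) → F}
  (hQ : IsNondegenerateQuadraticForm Q)
include hQ

local notation "B" => QuadraticMap.polar Q

omit hQ in
theorem mem_image_of_stab {H : Subgroup (GL ι F)} {t : ℕ} {D : Fin t → Submodule F (ι → F)}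
    {h : GL ι F} {σ : Equiv.Perm (Fin t)} (hσ : ∀ i, translate h (D i) = D (σ i)) {i : Fin t} {v : ι → F}
    (hv : v ∈ D i) : (h : Matrix ι ι F) *ᵥ v ∈ D (σ i) := by
  rw [← hσ i, ← Matrix.toLin'_apply]
  exact Submodule.mem_map_of_mem hv

/-- Plus planes over two elements: a reducible group. -/
theorem planes_two_reducible (hq : Fintype.card F = 2) {t : ℕ} {D : Fin t → Submodule F (ι → F)}
    (hD : IsNondegenerateMDecomposition B 2 D) (hplus : ∀ i, IsPlusTypeOn Q (D i)) {H : Subgroup (GL ι F)}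
    (hH : H ≤ omegaGL Q) (hle : H ≤ decompositionStabilizer D) : ¬ Irred H := by
  choose e f he hf _ _ _ hab hall using fun i => plane_pair hQ (hD.decomp.finrank_eq i) (hD.nondegenerate i) (hplus i)
  refine planes_reducible hQ hD.decomp (u := fun i => e i + f i)
    (fun i => ⟨(D i).add_mem (he i) (hf i), ?_⟩) (fun i x hx hQx => ⟨1, ?_⟩) hH hle
  · have := hab i 1 1
    rwa [one_smul, one_smul, mul_one] at this
  · obtain ⟨a, b, rfl⟩ := hall i x hx
    rw [hab] at hQx
    rcases eq_zero_or_one hq a with rfl | rfl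
    · simp at hQx
    rcases eq_zero_or_one hq b with rfl | rfl
    · simp at hQx
    rw [one_smul]
    simp

/-- Orthogonal pairs with inner product one are independent. -/
theorem pairs_indep (heven : ¬ Odd (Fintype.card F)) {N : ℕ} {x y : Fin N → ι → F}
    (hxy : ∀ p q, B (x p) (y q) = if p = q then 1 else 0) (hxx : ∀ p q, p ≠ q → B (x p) (x q) = 0)
    (hyy : ∀ p q, p ≠ q → B (y p) (y q) = 0) : LinearIndependent F (Sum.elim x y) := by
  classical
  have hb := hQ.polar_bilinear
  have hxx' : ∀ p q, B (x p) (x q) = 0 := fun p q => by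
    rcases eq_or_ne p q with rfl | h
    · exact B_alt hQ heven _
    · exact hxx p q h
  have hyy' : ∀ p q, B (y p) (y q) = 0 := fun p q => by
    rcases eq_or_ne p q with rfl | h
    · exact B_alt hQ heven _
    · exact hyy p q h
  rw [Fintype.linearIndependent_iff]
  intro a ha
  let L : (ι → F) → (ι → F) →ₗ[F] F := fun v =>
    { toFun := B v, map_add' := fun x y => hb.add_right _ x y, map_smul' := fun c x => hb.smul_right c _ x }
  have hL : ∀ v w, L v w = B v w := fun _ _ => rfl
  rintro (p | p)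
  · have h := congrArg (L (y p)) ha
    rw [map_sum, map_zero, Fintype.sum_sum_type] at h
    simp only [hb.smul_right, Sum.elim_inl, Sum.elim_inr, hL, hyy', B_comm (y p) (x _), hxy, smul_eq_mul, mul_zero,
      Finset.sum_const_zero, add_zero, mul_ite, mul_one, Finset.sum_ite_eq', Finset.mem_univ, if_true] at h
    exact h
  · have h := congrArg (L (x p)) ha
    rw [map_sum, map_zero, Fintype.sum_sum_type] at h
    simp only [hb.smul_right, Sum.elim_inl, Sum.elim_inr, hL, hxx', hxy, smul_eq_mul, mul_zero,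
      Finset.sum_const_zero, zero_add, mul_ite, mul_one, Finset.sum_ite_eq, Finset.mem_univ, if_true] at h
    exact h

/-- Plus planes over four elements carry a structure over two. -/
theorem planes_four_subfield (hq : Fintype.card F = 4) {t : ℕ} {D : Fin t → Submodule F (ι → F)}
    (hD : IsNondegenerateMDecomposition B 2 D) (hplus : ∀ i, IsPlusTypeOn Q (D i)) {H : Subgroup (GL ι F)}
    (hH : H ≤ omegaGL Q) (hle : H ≤ decompositionStabilizer D) :
    ∃ (F₀ : Subfield F) (r : ℕ) (P : GL ι F) (ζ : F), r.Prime ∧ Fintype.card F = Nat.card F₀ ^ r ∧ ζ ≠ 0 ∧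
      IsQuadFormRationalStructure (fun v => ζ * Q v) F₀ P ∧ H ≤ subfieldSubgroup F₀ P := by
  classical
  have heven : ¬ Odd (Fintype.card F) := by rw [hq]; decide
  have h2 : (2 : F) = 0 := Cfsg.Agent.Lib.AschbacherSp.two_eq_zero heven
  have hb := hQ.polar_bilinear
  let F₀ : Subfield F :=
    { carrier := {z | z = 0 ∨ z = 1}
      mul_mem' := by rintro a b (rfl | rfl) (rfl | rfl) <;> simp
      one_mem' := Or.inr rfl
      add_mem' := by
        rintro a b (rfl | rfl) (rfl | rfl)
        · exact Or.inl (add_zero 0)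
        · exact Or.inr (zero_add 1)
        · exact Or.inr (add_zero 1)
        · exact Or.inl (show (1 : F) + 1 = 0 by linear_combination h2)
      zero_mem' := Or.inl rfl
      neg_mem' := by
        rintro a (rfl | rfl)
        · exact Or.inl neg_zero
        · exact Or.inr (show (-1 : F) = 1 by linear_combination -h2)
      inv_mem' := by rintro a (rfl | rfl) <;> simp }
  have hF₀ : ∀ z, z ∈ F₀ ↔ z = 0 ∨ z = 1 := fun _ => Iff.rfl
  have hcard : Nat.card F₀ = 2 := by
    show Nat.card ({0, 1} : Set F) = 2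
    rw [Nat.card_coe_set_eq, Set.ncard_pair zero_ne_one]
  obtain ⟨ω, hω0, hω1⟩ : ∃ ω : F, ω ≠ 0 ∧ ω ≠ 1 := by
    by_contra! h
    have hall : ∀ z : F, z ∈ F₀ := fun z => (hF₀ z).mpr (or_iff_not_imp_left.mpr (h z))
    rw [Nat.card_congr (Equiv.subtypeUnivEquiv hall), Nat.card_eq_fintype_card, hq] at hcard
    omega
  have hω : ω * ω = ω + 1 := by
    have h1 : ω ^ 3 = 1 := by
      have := FiniteField.pow_card_sub_one_eq_one ω hω0
      rwa [hq] at this
    have h3 : (ω - 1) * (ω * ω + ω + 1) = 0 := by linear_combination h1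
    have h4 := (mul_eq_zero.mp h3).resolve_left (sub_ne_zero.mpr hω1)
    linear_combination h4 - (ω + 1) * h2
  choose e f he hf _ _ hef hab hall using fun i => plane_pair hQ (hD.decomp.finrank_eq i) (hD.nondegenerate i) (hplus i)
  let x : Fin t → ι → F := fun i => (1 : F) • e i + (1 : F) • f i
  let y : Fin t → ι → F := fun i => ω • e i + (ω + 1) • f i
  have hx : ∀ i, x i ∈ D i := fun i => add_mem ((D i).smul_mem _ (he i)) ((D i).smul_mem _ (hf i))
  have hy : ∀ i, y i ∈ D i := fun i => add_mem ((D i).smul_mem _ (he i)) ((D i).smul_mem _ (hf i))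
  have hxQ : ∀ i, Q (x i) = 1 := fun i => by simp only [x, hab, mul_one]
  have hyQ : ∀ i, Q (y i) = 1 := fun i => by
    simp only [y, hab]
    linear_combination hω + ω * h2
  have horth : ∀ {i j}, i ≠ j → ∀ {u v}, u ∈ D i → v ∈ D j → B u v = 0 := fun {i j} hij {u v} hu hv =>
    hD.orthogonal _ _ hij u hu v hv
  have hxy : ∀ p q, B (x p) (y q) = if p = q then 1 else 0 := fun p q => by
    rcases eq_or_ne p q with rfl | h
    · rw [if_pos rfl]
      simp only [x, y, hb.add_left, hb.add_right, hb.smul_left, hb.smul_right, B_alt hQ heven,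
        B_comm (f p) (e p), hef]
      linear_combination ω * h2
    · rw [if_neg h]; exact horth h (hx p) (hy q)
  have hli := pairs_indep hQ heven hxy (fun p q h => horth h (hx p) (hx q)) fun p q h => horth h (hy p) (hy q)
  have hcardι : Fintype.card (Fin t ⊕ Fin t) = Fintype.card ι := by
    have := Cfsg.Agent.Lib.Subspaces.Decomposition.card_eq hD.decomp
    rw [Fintype.card_sum, Fintype.card_fin]
    omega
  let g : Fin t ⊕ Fin t ≃ ι := Fintype.equivOfCardEq hcardι
  let M : Matrix ι ι F := Matrix.of fun p i => Sum.elim x y (g.symm i) p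
  have hMs : ∀ i, M *ᵥ Pi.single i 1 = Sum.elim x y (g.symm i) := fun i => by
    funext p; simp [M, Matrix.mulVec_single_one]
  have hMu : IsUnit M := by
    rw [← Matrix.linearIndependent_cols_iff_isUnit]
    exact hli.comp _ g.symm.injective
  obtain ⟨P, hP⟩ := hMu
  have hlin : ∀ u : ι → F, (P : Matrix ι ι F) *ᵥ u = ∑ i, u i • Sum.elim x y (g.symm i) := fun u => by
    rw [hP]
    conv_lhs => rw [pi_eq_sum_univ' u]
    rw [Matrix.mulVec_sum]
    exact Finset.sum_congr rfl fun i _ => by rw [Matrix.mulVec_smul, hMs]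
  have hBmem : ∀ a b, B (Sum.elim x y a) (Sum.elim x y b) ∈ F₀ := by
    have hxx : ∀ p q, B (x p) (x q) = 0 := fun p q => by
      rcases eq_or_ne p q with rfl | h
      · exact B_alt hQ heven _
      · exact horth h (hx p) (hx q)
    have hyy : ∀ p q, B (y p) (y q) = 0 := fun p q => by
      rcases eq_or_ne p q with rfl | h
      · exact B_alt hQ heven _
      · exact horth h (hy p) (hy q)
    rintro (p | p) (q | q) <;> simp only [Sum.elim_inl, Sum.elim_inr]
    · rw [hxx]; exact F₀.zero_mem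
    · rw [hxy]; split <;> first | exact F₀.one_mem | exact F₀.zero_mem
    · rw [B_comm, hxy]; split <;> first | exact F₀.one_mem | exact F₀.zero_mem
    · rw [hyy]; exact F₀.zero_mem
  refine ⟨F₀, 2, P, 1, Nat.prime_two, by rw [hcard, hq]; norm_num, one_ne_zero, fun u hu => ?_, fun h hh => ?_⟩
  · show 1 * Q _ ∈ F₀
    rw [one_mul, hlin]
    have key : ∀ s : Finset ι, Q (∑ i ∈ s, u i • Sum.elim x y (g.symm i)) ∈ F₀ ∧
        ∀ j, B (∑ i ∈ s, u i • Sum.elim x y (g.symm i)) (Sum.elim x y (g.symm j)) ∈ F₀ := by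
      intro s
      induction s using Finset.induction with
      | empty =>
        refine ⟨by rw [Finset.sum_empty, Q_zero hQ]; exact F₀.zero_mem, fun j => ?_⟩
        rw [Finset.sum_empty, B_comm, zero_right hQ]
        exact F₀.zero_mem
      | insert a s ha ih =>
        rw [Finset.sum_insert ha]
        refine ⟨?_, fun j => ?_⟩
        · rw [Q_add (Q := Q), hQ.smul, hb.smul_left, B_comm (Sum.elim x y (g.symm a))]
          refine add_mem (add_mem (mul_mem (pow_mem (hu a) 2) ?_) ih.1) (mul_mem (hu a) (ih.2 a))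
          rcases g.symm a with p | p <;> simp only [Sum.elim_inl, Sum.elim_inr, hxQ, hyQ] <;> exact F₀.one_mem
        · rw [hb.add_left, hb.smul_left]
          exact add_mem (mul_mem (hu a) (hBmem _ _)) (ih.2 j)
    exact (key Finset.univ).1
  obtain ⟨σ, hσ⟩ := hle hh
  have hmap : ∀ a : Fin t ⊕ Fin t, ∃ c d : F, c ∈ F₀ ∧ d ∈ F₀ ∧ (h : Matrix ι ι F) *ᵥ Sum.elim x y a =
      c • x (σ (a.elim id id)) + d • y (σ (a.elim id id)) := by
    intro a
    set i := a.elim id id with hi
    have hmem : Sum.elim x y a ∈ D i := by rcases a with p | p <;> [exact hx p; exact hy p]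
    obtain ⟨α, β, hαβ⟩ := hall (σ i) _ (mem_image_of_stab (H := H) hσ hmem)
    have hQ1 : α * β = 1 := by
      rw [← hab (σ i), ← hαβ, omega_isometry hQ (hH hh)]
      rcases a with p | p <;> [exact hxQ p; exact hyQ p]
    -- coordinates in the new basis
    refine ⟨(ω + 1) * α + ω * β, α + β, ?_, ?_, ?_⟩
    rotate_left 2
    · rw [hαβ]
      simp only [x, y]
      match_scalars
      · linear_combination -(ω * α + ω * β) * h2
      · linear_combination -((ω + 1) * α + ω * β) * h2
    all_goals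
      have hα0 : α ≠ 0 := fun h0 => by simp [h0] at hQ1
      have h1 : α ^ 3 = 1 := by
        have := FiniteField.pow_card_sub_one_eq_one α hα0
        rwa [hq] at this
      have hβ : β = α * α := mul_left_cancel₀ hα0 (by linear_combination hQ1 - h1)
      have hidem : ∀ z : F, z * z = z → z ∈ F₀ := fun z hz => (hF₀ z).mpr (by
        rcases mul_eq_zero.mp (show z * (z - 1) = 0 by linear_combination hz) with h | h
        · exact Or.inl h
        · exact Or.inr (sub_eq_zero.mp h))
      refine hidem _ ?_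
      rw [hβ]
    · linear_combination (α ^ 2 + α ^ 4) * hω + ((ω + 1) * α) * h1 +
        (α ^ 2 * (ω + 1) + ω * (ω + 1) * α ^ 3) * h2
    · linear_combination α * h1 + α ^ 3 * h2
  choose c d hc hd hcd using hmap
  let M' : Matrix ι ι F := fun i k =>
    (if i = g (Sum.inl (σ ((g.symm k).elim id id))) then c (g.symm k) else 0) +
      (if i = g (Sum.inr (σ ((g.symm k).elim id id))) then d (g.symm k) else 0)
  have hhM : (h : Matrix ι ι F) * (P : Matrix ι ι F) = (P : Matrix ι ι F) * M' := by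
    refine Matrix.ext_of_mulVec_single fun k => ?_
    rw [← Matrix.mulVec_mulVec, ← Matrix.mulVec_mulVec, hP, hMs, hcd,
      show M' *ᵥ Pi.single k 1 = c (g.symm k) • (Pi.single (g (Sum.inl (σ ((g.symm k).elim id id)))) 1 : ι → F) +
          d (g.symm k) • (Pi.single (g (Sum.inr (σ ((g.symm k).elim id id)))) 1 : ι → F) by
        funext i; simp [M', Matrix.mulVec, dotProduct, Pi.single_apply],
      Matrix.mulVec_add, Matrix.mulVec_smul, Matrix.mulVec_smul, hMs, hMs, g.symm_apply_apply, g.symm_apply_apply]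
    rfl
  refine ⟨P⁻¹ * h * P, Subgroup.mem_sup_left (Cfsg.Agent.Lib.PrimeDim.Fields.scalar_entry_mem fun i k => ?_), by
    simp [mul_assoc]⟩
  rw [show ((P⁻¹ * h * P : GL ι F) : Matrix ι ι F) = M' by
    rw [Units.val_mul, Units.val_mul, mul_assoc, hhM, ← mul_assoc, Units.inv_mul, one_mul]]
  refine add_mem ?_ ?_ <;> split <;> first | exact hc _ | exact hd _ | exact F₀.zero_mem

/-- A hyperbolic four-space has two orthogonal minus planes over two elements. -/
theorem two_pairs (h2 : (2 : F) = 0) {W : Submodule F (ι → F)} (hd : finrank F W = 4)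
    (hW : IsNondegenerateOn B W) (hp : IsPlusTypeOn Q W) :
    ∃ x y : Fin 2 → ι → F, (∀ s, x s ∈ W ∧ y s ∈ W ∧ Q (x s) = 1 ∧ Q (y s) = 1) ∧
      (∀ s u, B (x s) (y u) = if s = u then 1 else 0) ∧ (∀ s u, s ≠ u → B (x s) (x u) = 0) ∧
      (∀ s u, s ≠ u → B (y s) (y u) = 0) := by
  classical
  have hb := hQ.polar_bilinear
  obtain ⟨U, hUW, hU, hUd⟩ := hp
  let b := Module.finBasisOfFinrankEq F U (show finrank F U = 2 by omega)
  let u : Fin 2 → ι → F := fun i => (b i : ι → F)
  have huU : ∀ i, u i ∈ U := fun i => (b i).2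
  let L : W →ₗ[F] Fin 2 → F :=
    { toFun := fun w i => B (u i) (w : ι → F)
      map_add' := fun p q => funext fun i => hb.add_right _ _ _
      map_smul' := fun c p => funext fun i => hb.smul_right _ _ _ }
  have hsur : LinearMap.range L = ⊤ := by
    by_contra hne
    obtain ⟨φ, hφ0, hφ⟩ := Submodule.exists_le_ker_of_lt_top _ (lt_top_iff_ne_top.mpr hne)
    let a : Fin 2 → F := fun i => φ (Pi.single i 1)
    have hv : a 0 • b 0 + a 1 • b 1 ≠ (0 : U) := fun h => by
      have h0 := b.linearIndependent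
      rw [Fintype.linearIndependent_iff] at h0
      have h1 := h0 a (by rw [Fin.sum_univ_two]; exact h)
      refine hφ0 (LinearMap.ext fun z => ?_)
      rw [pi_eq_sum_univ' z, map_sum]
      simp only [map_smul, show ∀ i, φ (Pi.single i 1) = a i from fun _ => rfl, h1]
      simp
    obtain ⟨-, w, hw, hne'⟩ := hW _ (hUW (a 0 • b 0 + a 1 • b 1 : U).2) (fun h => hv (Subtype.ext h))
    apply hne'
    have h1 := LinearMap.mem_ker.mp (hφ ⟨⟨w, hw⟩, rfl⟩)
    rw [pi_eq_sum_univ' (L ⟨w, hw⟩), map_sum, Fin.sum_univ_two, map_smul, map_smul] at h1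
    show B (a 0 • u 0 + a 1 • u 1) w = 0
    rw [hb.add_left, hb.smul_left, hb.smul_left]
    simpa [L, a, mul_comm] using h1
  obtain ⟨g₀, hg₀⟩ := LinearMap.range_eq_top.mp hsur (Pi.single 0 1)
  obtain ⟨g₁, hg₁⟩ := LinearMap.range_eq_top.mp hsur (Pi.single 1 1)
  set p := (g₀ : ι → F) with hpdef
  set r := (g₁ : ι → F) with hrdef
  have hu0p : B (u 0) p = 1 := by simpa [L] using congrFun hg₀ 0
  have hu1p : B (u 1) p = 0 := by simpa [L] using congrFun hg₀ 1
  have hu0r : B (u 0) r = 0 := by simpa [L] using congrFun hg₁ 0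
  have hu1r : B (u 1) r = 1 := by simpa [L] using congrFun hg₁ 1
  have huu : ∀ i j, B (u i) (u j) = 0 := fun i j => ts_polar hU (huU i) (huU j)
  have hQu : ∀ i, Q (u i) = 0 := fun i => hU _ (huU i)
  obtain ⟨f₀, hf₀⟩ : ∃ z, z = p + Q p • u 0 + B p r • u 1 := ⟨_, rfl⟩
  obtain ⟨f₁, hf₁⟩ : ∃ z, z = r + Q r • u 1 := ⟨_, rfl⟩
  have hf₀W : f₀ ∈ W := hf₀ ▸ add_mem (add_mem g₀.2 (W.smul_mem _ (hUW (huU 0)))) (W.smul_mem _ (hUW (huU 1)))
  have hf₁W : f₁ ∈ W := hf₁ ▸ add_mem g₁.2 (W.smul_mem _ (hUW (huU 1)))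
  have a00 : B (u 0) f₀ = 1 := by rw [hf₀]; simp [hb.add_right, hb.smul_right, huu, hu0p]
  have a10 : B (u 1) f₀ = 0 := by rw [hf₀]; simp [hb.add_right, hb.smul_right, huu, hu1p]
  have a01 : B (u 0) f₁ = 0 := by rw [hf₁]; simp [hb.add_right, hb.smul_right, huu, hu0r]
  have a11 : B (u 1) f₁ = 1 := by rw [hf₁]; simp [hb.add_right, hb.smul_right, huu, hu1r]
  have q0 : Q f₀ = 0 := by
    rw [hf₀, Q_add (Q := Q), Q_add (Q := Q), hQ.smul, hQ.smul, hQu, hQu, hb.add_left, hb.smul_right, hb.smul_right,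
      hb.smul_left, hb.smul_right, B_comm p (u 0), B_comm p (u 1), hu0p, hu1p, huu]
    linear_combination Q p * h2
  have q1 : Q f₁ = 0 := by
    rw [hf₁, Q_add (Q := Q), hQ.smul, hQu, hb.smul_right, B_comm r (u 1), hu1r]
    linear_combination Q r * h2
  have q01 : B f₀ f₁ = 0 := by
    rw [hf₀, hf₁]
    simp only [hb.add_left, hb.add_right, hb.smul_left, hb.smul_right, B_comm p (u 1), huu, hu1p, hu0r, hu1r]
    linear_combination B p r * h2
  have hff : B f₀ f₀ = 0 ∧ B f₁ f₁ = 0 := ⟨by rw [B_self hQ, q0, mul_zero], by rw [B_self hQ, q1, mul_zero]⟩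
  refine ⟨![u 0 + f₀, u 1 + f₁], ![u 0 + u 1 + f₁, u 0 + u 1 + f₀],
    fun s => ?_, fun s v => ?_, fun s v hsv => ?_, fun s v hsv => ?_⟩
  · fin_cases s <;>
      simp [Q_add (Q := Q), hb.add_left, huu, hQu, q0, q1, a00, a11, a01, a10, add_mem, hUW (huU _), hf₀W, hf₁W]
  all_goals
    fin_cases s <;> fin_cases v <;> (try exact absurd rfl hsv) <;>
      simp [hb.add_left, hb.add_right, huu, a00, a01, a10, a11, q01, hff, B_comm f₀ (u 0), B_comm f₀ (u 1),
        B_comm f₁ (u 0), B_comm f₁ (u 1), B_comm f₁ f₀] <;> linear_combination h2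

/-- Over two elements plus four-spaces split into minus planes permuted by their stabiliser. -/
theorem refine_four_two (hq : Fintype.card F = 2) {t : ℕ} {D : Fin t → Submodule F (ι → F)}
    (hD : IsNondegenerateMDecomposition B 4 D) (hplus : ∀ i, IsPlusTypeOn Q (D i)) {H : Subgroup (GL ι F)}
    (hH : H ≤ omegaGL Q) (hle : H ≤ decompositionStabilizer D) :
    ∃ E : Fin (t * 2) → Submodule F (ι → F), IsOrthogonalMDecomposition Q 2 E ∧ (∀ p, ¬ IsPlusTypeOn Q (E p)) ∧
      H ≤ decompositionStabilizer E := by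
  classical
  have heven : ¬ Odd (Fintype.card F) := by rw [hq]; decide
  have h2 : (2 : F) = 0 := Cfsg.Agent.Lib.AschbacherSp.two_eq_zero heven
  have hb := hQ.polar_bilinear
  choose x₀ y₀ hmem hxy₀ hxx₀ hyy₀ using fun i =>
    two_pairs hQ h2 (hD.decomp.finrank_eq i) (hD.nondegenerate i) (hplus i)
  let co : Fin t × Fin 2 ≃ Fin (t * 2) := finProdFinEquiv
  let x : Fin (t * 2) → ι → F := fun p => x₀ (co.symm p).1 (co.symm p).2
  let y : Fin (t * 2) → ι → F := fun p => y₀ (co.symm p).1 (co.symm p).2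
  have hxD : ∀ p, x p ∈ D (co.symm p).1 := fun p => (hmem _ _).1
  have hyD : ∀ p, y p ∈ D (co.symm p).1 := fun p => (hmem _ _).2.1
  have hsame : ∀ {p q}, p ≠ q → (co.symm p).1 = (co.symm q).1 → (co.symm p).2 ≠ (co.symm q).2 := fun hpq h1 h2' =>
    hpq (co.symm.injective (Prod.ext h1 h2'))
  have hxy : ∀ p q, B (x p) (y q) = if p = q then 1 else 0 := fun p q => by
    rcases eq_or_ne p q with rfl | h
    · rw [if_pos rfl]; simp [x, y, hxy₀]
    rw [if_neg h]
    by_cases h1 : (co.symm p).1 = (co.symm q).1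
    · simp only [x, y, ← h1, hxy₀, if_neg (hsame h h1)]
    · exact hD.orthogonal _ _ h1 _ (hxD p) _ (hyD q)
  have hxx : ∀ p q, p ≠ q → B (x p) (x q) = 0 := fun p q h => by
    by_cases h1 : (co.symm p).1 = (co.symm q).1
    · simp only [x, ← h1]; exact hxx₀ _ _ _ (hsame h h1)
    · exact hD.orthogonal _ _ h1 _ (hxD p) _ (hxD q)
  have hyy : ∀ p q, p ≠ q → B (y p) (y q) = 0 := fun p q h => by
    by_cases h1 : (co.symm p).1 = (co.symm q).1
    · simp only [y, ← h1]; exact hyy₀ _ _ _ (hsame h h1)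
    · exact hD.orthogonal _ _ h1 _ (hyD p) _ (hyD q)
  have hli := pairs_indep hQ heven hxy hxx hyy
  have hxQ : ∀ p, Q (x p) = 1 := fun p => (hmem _ _).2.2.1
  have hyQ : ∀ p, Q (y p) = 1 := fun p => (hmem _ _).2.2.2
  let E : Fin (t * 2) → Submodule F (ι → F) := fun p => Submodule.span F {x p, y p}
  have hxE : ∀ p, x p ∈ E p := fun p => Submodule.subset_span (by simp)
  have hyE : ∀ p, y p ∈ E p := fun p => Submodule.subset_span (by simp)
  have hall : ∀ p, ∀ v ∈ E p, ∃ a b : F, v = a • x p + b • y p := fun p v hv => by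
    obtain ⟨a, b, h⟩ := Submodule.mem_span_pair.mp hv
    exact ⟨a, b, h.symm⟩
  have hval : ∀ p, ∀ v ∈ E p, v ≠ 0 → Q v = 1 := fun p v hv hv0 => by
    obtain ⟨a, b, rfl⟩ := hall p v hv
    rcases eq_zero_or_one hq a with rfl | rfl <;> rcases eq_zero_or_one hq b with rfl | rfl
    · simp at hv0
    · simp [hyQ]
    · simp [hxQ]
    · rw [one_smul, one_smul, Q_add (Q := Q), hxQ, hyQ, hxy, if_pos rfl]
      linear_combination h2
  have horth : ∀ p q, p ≠ q → AreOrthogonalFor B (E p) (E q) := fun p q h u hu v hv => by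
    obtain ⟨a, b, rfl⟩ := hall p u hu
    obtain ⟨c, d, rfl⟩ := hall q v hv
    simp [hb.add_left, hb.add_right, hb.smul_left, hb.smul_right, hxx p q h, hyy p q h, hxy, h,
      B_comm (y p) (x q), Ne.symm h]
  have hnd : ∀ p, IsNondegenerateOn B (E p) := fun p w hw hw0 => by
    have key : ∃ z ∈ E p, B w z ≠ 0 := by
      obtain ⟨a, b, rfl⟩ := hall p w hw
      by_cases ha : a = 0
      · refine ⟨x p, hxE p, ?_⟩
        have hb0 : b ≠ 0 := fun h => hw0 (by rw [ha, h, zero_smul, zero_smul, add_zero])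
        simpa [hb.add_left, hb.smul_left, ha, B_comm (y p) (x p), hxy] using hb0
      · exact ⟨y p, hyE p, by simpa [hb.add_left, hb.smul_left, B_alt hQ heven, hxy] using ha⟩
    obtain ⟨z, hz, hne⟩ := key
    exact ⟨⟨z, hz, by rwa [B_comm]⟩, ⟨z, hz, hne⟩⟩
  have hdim : ∀ p, finrank F (E p) = 2 := fun p => by
    have h1 : LinearIndependent F ![x p, y p] := by
      have := hli.comp ![Sum.inl p, Sum.inr p] (fun a b => by fin_cases a <;> fin_cases b <;> simp)
      refine (linearIndependent_equiv' (Equiv.refl _) ?_).mp this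
      funext a; fin_cases a <;> rfl
    have h2' := finrank_span_eq_card h1
    rwa [Matrix.range_cons, Matrix.range_cons, Matrix.range_empty, Set.union_empty, Fintype.card_fin,
      Set.singleton_union] at h2'
  have hminus : ∀ p, ¬ IsPlusTypeOn Q (E p) := fun p => by
    rintro ⟨U, hUE, hU, hUd⟩
    obtain ⟨v, hv, hv0⟩ := Submodule.exists_mem_ne_zero_of_ne_bot (p := U) fun h => by
      rw [h, finrank_bot, hdim] at hUd; omega
    exact zero_ne_one ((hU v hv).symm.trans (hval p v (hUE hv) hv0))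
  have hind : iSupIndep E := by
    have hg := gram_eq hQ
    exact indep_of_orth' (G := gramMatrix B) (fun p => hg.symm ▸ hnd p) fun p q h => hg.symm ▸ horth p q h
  have htop : ⨆ p, E p = ⊤ := by
    refine Submodule.eq_top_of_finrank_eq (le_antisymm (Submodule.finrank_le _) ?_)
    rw [Module.finrank_fintype_fun_eq_card, ← Cfsg.Agent.Lib.AschbacherSp.decomposition_card hD.decomp]
    have hsub : Submodule.span F (Set.range (Sum.elim x y)) ≤ ⨆ p, E p := by
      refine Submodule.span_le.mpr ?_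
      rintro _ ⟨p | p, rfl⟩
      · exact Submodule.mem_iSup_of_mem p (hxE p)
      · exact Submodule.mem_iSup_of_mem p (hyE p)
    refine le_trans (le_of_eq ?_) (Submodule.finrank_mono hsub)
    rw [finrank_span_eq_card hli, Fintype.card_sum, Fintype.card_fin]
    omega
  have ht2 : 2 ≤ t * 2 := by have := hD.decomp.two_le; omega
  refine ⟨E, ⟨⟨⟨ht2, two_pos, hdim, hind, htop⟩, hnd, horth⟩, fun p q =>
    isometric_of_type hQ (hnd p) (hnd q) (k := 1) (hdim p) (hdim q) (iff_of_false (hminus p) (hminus q))⟩, hminus,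
    fun h hh => ?_⟩
  -- a member plane is recognised by its non-singular vectors
  have hsplit : ∀ i, ∀ z ∈ D i, Q z = 1 → ∃ s, z ∈ E (co (i, s)) := by
    intro i z hz hQz
    have hle2 : E (co (i, 0)) ⊔ E (co (i, 1)) ≤ D i := by
      refine sup_le ?_ ?_ <;> refine Submodule.span_le.mpr ?_ <;> intro v hv <;>
        simp only [x, y, Equiv.symm_apply_apply, Set.mem_insert_iff, Set.mem_singleton_iff] at hv <;>
        rcases hv with rfl | rfl <;> first | exact (hmem _ _).1 | exact (hmem _ _).2.1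
    have hne : co (i, 0) ≠ co (i, 1) := fun h => by simpa using co.injective h
    have heq : E (co (i, 0)) ⊔ E (co (i, 1)) = D i := by
      refine Submodule.eq_of_le_of_finrank_le hle2 ?_
      have h3 := Submodule.finrank_sup_add_finrank_inf_eq (E (co (i, 0))) (E (co (i, 1)))
      rw [(hind.pairwiseDisjoint hne).eq_bot, finrank_bot, hdim, hdim] at h3
      rw [hD.decomp.finrank_eq]
      omega
    rw [← heq] at hz
    obtain ⟨a, ha, b, hb', rfl⟩ := Submodule.mem_sup.mp hz
    by_cases ha0 : a = 0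
    · exact ⟨1, by rw [ha0, zero_add]; exact hb'⟩
    by_cases hb0 : b = 0
    · exact ⟨0, by rw [hb0, add_zero]; exact ha⟩
    rw [Q_add (Q := Q), hval _ a ha ha0, hval _ b hb' hb0, horth _ _ hne a ha b hb'] at hQz
    exact absurd (show (1 : F) = 0 by linear_combination hQz) one_ne_zero
  obtain ⟨σ, hσ⟩ := hle hh
  have himg : ∀ p, ∃ q, translate h (E p) = E q := by
    intro p
    obtain ⟨s, hs⟩ := hsplit _ _ (mem_image_of_stab (H := H) hσ (hxD p))
      ((omega_isometry hQ (hH hh) _).trans (hxQ p))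
    obtain ⟨s', hs'⟩ := hsplit _ _ (mem_image_of_stab (H := H) hσ (hyD p))
      ((omega_isometry hQ (hH hh) _).trans (hyQ p))
    have hss : s = s' := by
      by_contra hne
      have h1 := horth _ _ (fun h => hne (congrArg Prod.snd (co.injective h))) _ hs _ hs'
      rw [omega_B hQ (hH hh), hxy, if_pos rfl] at h1
      exact one_ne_zero h1
    subst hss
    refine ⟨co (σ (co.symm p).1, s), Submodule.eq_of_le_of_finrank_le ?_ (by rw [finrank_translate, hdim, hdim])⟩
    rintro _ ⟨v, hv, rfl⟩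
    obtain ⟨a, b, rfl⟩ := hall p v hv
    rw [Matrix.toLin'_apply, Matrix.mulVec_add, Matrix.mulVec_smul, Matrix.mulVec_smul]
    exact add_mem (Submodule.smul_mem _ _ hs) (Submodule.smul_mem _ _ hs')
  choose τ hτ using himg
  have hinjE : Function.Injective E := fun p q hpq => by
    by_contra hne
    have h1 := (hind.pairwiseDisjoint hne).eq_bot
    rw [hpq, inf_idem] at h1
    have := hdim q
    rw [h1, finrank_bot] at this
    omega
  have hinj : Function.Injective τ := fun p q hpq => by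
    refine hinjE (Submodule.map_injective_of_injective ?_ ((hτ p).trans (hpq ▸ (hτ q).symm)))
    intro a b hab
    simpa [inv_mulVec_cancel] using congrArg (fun w => ((h⁻¹ : GL ι F) : Matrix ι ι F) *ᵥ w) hab
  exact ⟨Equiv.ofBijective τ (Finite.injective_iff_bijective.mp hinj), hτ⟩

end Cfsg.Agent.Lib.AschbacherEvenDim
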