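import Cfsg.Agent.Lib.AschbacherEvenDim.OddMain

/-!
`Ω₈⁻(q)`, `q` odd, the irreducible subgroups.
-/

set_option autoImplicit false
set_option linter.unusedSectionVars false

namespace Cfsg.Agent.Lib.AschbacherEvenDim

open Cfsg.Geo Module QuadraticMap
open Cfsg.Agent.Lib.PrimeDim.Basic Cfsg.Agent.Lib.Aschbacher
open Cfsg.Agent.Lib.AschbacherSp (eq_inf subfield_ne_top)
open scoped Matrix MatrixGroups

variable {ι : Type} [Fintype ι] [DecidableEq ι] {F : Type*} [Field F] [Fintype F] {Q : (ι → F) → F}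

/-- The members outside the first class, for minus type in dimension eight. -/
def MinusEightMember (Q : (ι → F) → F) (H : Subgroup (GL ι F)) : Prop :=
  (∃ K : Subalgebra F (Matrix ι ι F), IsFieldSubalgebra 2 K ∧ H = subalgebraNormalizer K ⊓ omegaGL Q) ∨
  (∃ (F₀ : Subfield F) (r : ℕ) (P : GL ι F) (ζ : F), r.Prime ∧ Odd r ∧ Fintype.card F = Nat.card F₀ ^ r ∧ ζ ≠ 0 ∧
    IsQuadFormRationalStructure (fun v => ζ * Q v) F₀ P ∧ H = subfieldSubgroup F₀ P ⊓ omegaGL Q) ∨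
  InOrthogonalResidualClass H

theorem minus_eight_odd (hQ : IsNondegenerateQuadraticForm Q) (hodd : Odd (Fintype.card F))
    (hn : Fintype.card ι = 8) (hminus : ¬ IsPlusTypeOn Q ⊤) {H : Subgroup (GL ι F)}
    (hH : IsMaximalIn (omegaGL Q) H) (hirr : Irred H) : MinusEightMember Q H := by
  haveI : Nonempty ι := Fintype.card_pos_iff.mp (by omega)
  have hn' : Fintype.card ι = 2 * 4 := hn
  have h4 : Even 4 := by decide
  rcases odd_irred hQ hodd hn' (Or.inl rfl) hH.1.le hirr with ⟨t, k, D, ht, hk, htk, hD, hle⟩ | ⟨D, hD, hts, -⟩ |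
    ⟨r, K, hr, hdvd, hK, -, hle⟩ | h | ⟨l, e, P, f₁, f₂, hl, -, hs1, hs2, hf, -⟩ | ⟨e, P, f₁, f₂, h12, -⟩ |
    ⟨F₀, r, P, ζ, hr, hq, hζ, hP, hle⟩ | ⟨-, h⟩ | h
  · refine absurd ?_ hminus
    rw [hn] at htk
    rcases Nat.even_or_odd k with ⟨j, hj⟩ | hodd'
    · obtain rfl : k = 2 * j := by omega
      have hj2 : j ≤ 2 := by nlinarith
      refine (decomposition_type hQ hD ⟨0, by omega⟩).1 ?_
      interval_cases j <;> first | omega | exact ⟨t / 2, by omega⟩
    · refine (odd_members_type hQ hodd hn' hodd' hD).mpr ⟨1, by norm_num⟩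
  · exact absurd (plus_of_ts (hts 0) (by rw [hD.finrank_eq]; omega)) hminus
  · rw [hn] at hdvd
    obtain rfl : r = 2 := (Nat.prime_dvd_prime_iff_eq hr Nat.prime_two).mp
      (hr.dvd_of_dvd_pow (show r ∣ 2 ^ 3 by simpa using hdvd))
    exact Or.inl ⟨K, hK, eq_inf hH hle (not_le_field hQ (by omega) hK le_rfl)⟩
  · exact absurd (pairOrField_plus hQ hn' h4 h) hminus
  · refine absurd ?_ hminus
    obtain rfl : l = 4 := by omega
    obtain ⟨c, hc, hg⟩ := tensor_gram hQ hf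
    rw [plus_iff_gramIn hQ hodd hn' e P, hg, Matrix.det_smul, Matrix.det_kronecker]
    obtain ⟨d, hd⟩ : ∃ d, (gramMatrix f₂).det = d := ⟨_, rfl⟩
    rw [hd]
    exact ⟨c ^ 4 * (gramMatrix f₁).det ^ 2 * d, by simp; ring⟩
  · omega
  · exact Or.inr (Or.inl ⟨F₀, r, P, ζ, hr, odd_index hQ hn' hminus hr hq hζ hP, hq, hζ, hP,
      eq_inf hH hle (not_le_subfield hQ (by omega) (subfield_ne_top hr hq) P)⟩)
  · exact absurd (pairOrField_plus hQ hn' h4 h) hminus
  · exact Or.inr (Or.inr h)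

end Cfsg.Agent.Lib.AschbacherEvenDim
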