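import Cfsg.Agent.Lib.AschbacherEvenDim.EvenMain
import Cfsg.Agent.Lib.AschbacherEvenDim.OddEight

/-!
`Ω₈⁻(q)`, `q` even, the irreducible subgroups.
-/

set_option autoImplicit false
set_option linter.unusedSectionVars false

namespace Cfsg.Agent.Lib.AschbacherEvenDim

open Cfsg.Geo Module QuadraticMap
open Cfsg.Agent.Lib.PrimeDim.Basic Cfsg.Agent.Lib.Aschbacher
open Cfsg.Agent.Lib.AschbacherSp (eq_inf subfield_ne_top)
open scoped Matrix MatrixGroups

variable {ι : Type} [Fintype ι] [DecidableEq ι] {F : Type*} [Field F] [Fintype F] {Q : (ι → F) → F}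

theorem minus_eight_even (hQ : IsNondegenerateQuadraticForm Q) (heven : ¬ Odd (Fintype.card F))
    (hn : Fintype.card ι = 8) (hminus : ¬ IsPlusTypeOn Q ⊤) {H : Subgroup (GL ι F)}
    (hH : IsMaximalIn (omegaGL Q) H) (hirr : Irred H) : MinusEightMember Q H := by
  haveI : Nonempty ι := Fintype.card_pos_iff.mp (by omega)
  have hn' : Fintype.card ι = 2 * 4 := hn
  rcases even_irred hQ heven hn' (Or.inl rfl) hH.1.le hirr with ⟨t, k, D, ⟨j, hj⟩, hD, -⟩ |
    ⟨r, K, hr, hdvd, hK, -, -, hle⟩ | h | ⟨l, -, -, hdata⟩ | ⟨F₀, r, P, ζ, hr, hq, hζ, hP, hle⟩ | ⟨-, h⟩ | h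
  · refine absurd ?_ hminus
    obtain rfl : k = 2 * j := by omega
    have htk := Cfsg.Agent.Lib.Subspaces.Decomposition.card_eq hD.decomp.decomp
    rw [hn] at htk
    have ht := hD.decomp.decomp.two_le
    have hpos := hD.decomp.decomp.pos
    refine (decomposition_type hQ hD ⟨0, by omega⟩).1 ?_
    have hj2 : j ≤ 2 := by nlinarith
    interval_cases j <;> first | omega | exact ⟨t / 2, by omega⟩
  · rw [hn] at hdvd
    obtain rfl : r = 2 := (Nat.prime_dvd_prime_iff_eq hr Nat.prime_two).mp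
      (hr.dvd_of_dvd_pow (show r ∣ 2 ^ 3 by simpa using hdvd))
    exact Or.inl ⟨K, hK, eq_inf hH hle (not_le_field hQ (by omega) hK le_rfl)⟩
  · exact absurd (pairOrField_plus hQ hn' (by decide) h) hminus
  · obtain ⟨e, P, f₁, f₂, -, -, -, hpure, -⟩ := hdata
    exact absurd (plus_of_pure hQ hpure) hminus
  · exact Or.inr (Or.inl ⟨F₀, r, P, ζ, hr, odd_index hQ hn' hminus hr hq hζ hP, hq, hζ, hP,
      eq_inf hH hle (not_le_subfield hQ (by omega) (subfield_ne_top hr hq) P)⟩)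
  · exact absurd h hminus
  · exact Or.inr (Or.inr h)

end Cfsg.Agent.Lib.AschbacherEvenDim
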