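import Cfsg.Agent.Lib.AschbacherEvenDim.Type
import Cfsg.Agent.Lib.Subspaces.OrthDecompMax

/-!
The type of an orthogonal sum.
-/

set_option autoImplicit false
set_option linter.unusedSectionVars false

namespace Cfsg.Agent.Lib.AschbacherEvenDim

open Cfsg.Geo Module QuadraticMap Cfsg.Agent.Lib.Forms Cfsg.Agent.Lib.Subspaces.OrthForm
open Cfsg.Agent.Lib.Subspaces.OmegaGL Cfsg.Agent.Lib.Subspaces.OrthNondeg

variable {ι : Type} [Fintype ι] [DecidableEq ι] {F : Type*} [Field F] [Finite F] {Q : (ι → F) → F}
  (hQ : IsNondegenerateQuadraticForm Q)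
include hQ

local notation "B" => QuadraticMap.polar Q

theorem finrank_perpQ (X : Submodule F (ι → F)) :
    finrank F (perpQ hQ X) + finrank F X = Fintype.card ι := by
  have he : perpQ hQ X = MaxSingular.perp (qf hQ) X := by
    ext v
    rw [MaxSingular.mem_perp]
    constructor <;> intro h w hw
    · rw [QuadraticMap.polar_comm]; exact h w hw
    · show B v w = 0
      rw [QuadraticMap.polar_comm]; exact h w hw
  rw [he, MaxSingular.perp, LinearMap.BilinForm.finrank_orthogonal (qf_nondeg hQ).polarBilin,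
    Module.finrank_fintype_fun_eq_card]
  have := X.finrank_le
  rw [Module.finrank_fintype_fun_eq_card] at this
  omega

omit [Finite F] in
theorem le_perp_self {U : Submodule F (ι → F)} (hU : IsTotallySingularQuad Q U) : U ≤ perpQ hQ U :=
  fun _ hu _ hw => ts_polar hU hu hw

/-- With a plus summand the type is that of the other summand. -/
theorem plus_iff_of_plus {W : Submodule F (ι → F)} (hW : IsNondegenerateOn B W) (hp : IsPlusTypeOn Q W) :
    IsPlusTypeOn Q ⊤ ↔ IsPlusTypeOn Q (perpQ hQ W) := by
  classical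
  obtain ⟨U, hUW, hU, hUd⟩ := hp
  have hdim := finrank_add_perpQ (hQ := hQ) hW
  set W' := perpQ hQ W with hW'
  -- a largest totally singular subspace of the complement
  have : Finite (Submodule F (ι → F)) := Finite.of_injective _ SetLike.coe_injective
  obtain ⟨L, ⟨hLW, hL⟩, hLmax⟩ := Set.exists_max_image
    {L : Submodule F (ι → F) | L ≤ W' ∧ IsTotallySingularQuad Q L} (fun L => finrank F L) (Set.toFinite _)
    ⟨⊥, bot_le, fun w hw => by rw [(Submodule.mem_bot F).mp hw, Q_zero hQ]⟩
  have horth : ∀ u ∈ U, ∀ w ∈ L, B u w = 0 := fun u hu w hw => by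
    rw [B_comm]; exact hLW hw u (hUW hu)
  have hX := ts_sup hQ hU hL horth
  have hWW : W ⊓ W' = ⊥ := by
    rw [eq_bot_iff]
    rintro y ⟨hy, hy'⟩
    by_contra h0
    obtain ⟨-, z, hz, hyz⟩ := hW y hy h0
    exact hyz (hy' z hz)
  have hUL : finrank F ↥(U ⊔ L) = finrank F U + finrank F L := by
    have h1 := Submodule.finrank_sup_add_finrank_inf_eq U L
    rw [show U ⊓ L = ⊥ from le_bot_iff.mp ((inf_le_inf hUW hLW).trans hWW.le), finrank_bot] at h1
    omega
  constructor
  · intro hV
    by_contra hn
    have hlt : 2 * finrank F L < finrank F W' := by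
      have h2 := two_dim_le hQ hX
      rcases Nat.lt_or_ge (2 * finrank F L) (finrank F W') with h | h
      · exact h
      · exact absurd ⟨L, hLW, hL, by omega⟩ hn
    refine not_plus_of_maximal hQ hX (fun z hz hzX => ?_) (by omega) hV
    obtain ⟨w, hw, hzw⟩ := exists_split (hQ := hQ) hW z
    set w' := z - w
    have hz' : z = w + w' := (add_sub_cancel w z).symm
    have hww' : B w w' = 0 := by rw [B_comm]; exact hzw w hw
    -- the part in the plus summand
    have hwU : w ∈ perpQ hQ (U ⊔ W') := by
      intro x hx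
      obtain ⟨a, ha, b, hb, rfl⟩ := Submodule.mem_sup.mp hx
      have h1 := hzX a (Submodule.mem_sup_left ha)
      rw [hz', hQ.polar_bilinear.add_left, hzw a (hUW ha), add_zero] at h1
      rw [hQ.polar_bilinear.add_right, h1, B_comm w b, hb w hw, add_zero]
    have hwU' : w ∈ U := by
      have hle : U ≤ perpQ hQ (U ⊔ W') := by
        intro u hu x hx
        obtain ⟨a, ha, b, hb, rfl⟩ := Submodule.mem_sup.mp hx
        rw [hQ.polar_bilinear.add_right, ts_polar hU hu ha, B_comm u b, hb u (hUW hu), add_zero]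
      have h1 := finrank_perpQ hQ (U ⊔ W')
      have h2 := Submodule.finrank_sup_add_finrank_inf_eq U W'
      rw [show U ⊓ W' = ⊥ from le_bot_iff.mp ((inf_le_inf_right W' hUW).trans hWW.le), finrank_bot] at h2
      rw [Submodule.eq_of_le_of_finrank_le hle (by omega)]
      exact hwU
    have hQw' : Q w' = 0 := by
      have h1 : Q z = Q w + Q w' + B w w' := by rw [hz', Q_add (Q := Q)]
      rw [hz, hU w hwU', hww'] at h1
      linear_combination -h1
    have hw'L : ∀ x ∈ L, B w' x = 0 := fun x hx => by
      have h1 := hzX x (Submodule.mem_sup_right hx)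
      rw [hz', hQ.polar_bilinear.add_left, horth w hwU' x hx, zero_add] at h1
      exact h1
    have hmem : w' ∈ L := by
      by_contra hn'
      have hsing : IsTotallySingularQuad Q (L ⊔ Submodule.span F {w'}) := ts_sup hQ hL
        (fun x hx => by
          obtain ⟨c, rfl⟩ := Submodule.mem_span_singleton.mp hx
          rw [hQ.smul, hQw', mul_zero]) fun u hu x hx => by
        obtain ⟨c, rfl⟩ := Submodule.mem_span_singleton.mp hx
        rw [hQ.polar_bilinear.smul_right, B_comm, hw'L u hu, mul_zero]
      have h1 := hLmax (L ⊔ Submodule.span F {w'}) ⟨sup_le hLW ((Submodule.span_singleton_le_iff_mem _ _).mpr hzw), hsing⟩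
      have h2 : L < L ⊔ Submodule.span F {w'} := left_lt_sup.mpr fun h =>
        hn' (h (Submodule.mem_span_singleton_self w'))
      have := Submodule.finrank_lt_finrank_of_lt h2
      omega
    rw [hz']
    exact Submodule.add_mem_sup hwU' hmem
  · rintro ⟨M, hMW, hM, hMd⟩
    refine plus_of_ts (ts_sup hQ hU hM fun u hu w hw => by rw [B_comm]; exact hMW hw u (hUW hu)) ?_
    have h1 := Submodule.finrank_sup_add_finrank_inf_eq U M
    rw [show U ⊓ M = ⊥ from le_bot_iff.mp ((inf_le_inf hUW hMW).trans hWW.le), finrank_bot] at h1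
    omega

variable {t j : ℕ} {D : Fin t → Submodule F (ι → F)}

/-- An even number of members carries a totally singular subspace of half the dimension. -/
theorem exists_ts_even (hD : IsOrthogonalMDecomposition Q (2 * j) D) (s : Finset (Fin t)) (hs : Even s.card) :
    ∃ U : Submodule F (ι → F), U ≤ (⨆ i ∈ s, D i) ∧ IsTotallySingularQuad Q U ∧ finrank F U = s.card * j := by
  classical
  have hd := hD.decomp.decomp
  have hall : ∀ c, ∀ s : Finset (Fin t), s.card = c → Even c →
      ∃ U : Submodule F (ι → F), U ≤ (⨆ i ∈ s, D i) ∧ IsTotallySingularQuad Q U ∧ finrank F U = s.card * j := by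
    intro c
    induction c using Nat.strong_induction_on with
    | _ c ih =>
      intro s hsc hev
      rcases Nat.eq_zero_or_pos c with hc | hc
      · exact ⟨⊥, bot_le, fun w hw => by rw [(Submodule.mem_bot F).mp hw, Q_zero hQ], by rw [finrank_bot, hsc, hc, zero_mul]⟩
      have hc2 : 2 ≤ c := by obtain ⟨r, hr⟩ := hev; omega
      obtain ⟨a, ha⟩ := Finset.card_pos.mp (hsc ▸ hc)
      obtain ⟨b, hb⟩ := Finset.card_pos.mp (show 0 < (s.erase a).card by rw [Finset.card_erase_of_mem ha]; omega)
      set s' := (s.erase a).erase b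
      have hs' : s'.card + 2 = c := by
        rw [Finset.card_erase_of_mem hb, Finset.card_erase_of_mem ha]; omega
      obtain ⟨r, hr⟩ := hev
      obtain ⟨U, hU, hUs, hUd⟩ := ih s'.card (by omega) s' rfl ⟨r - 1, by omega⟩
      obtain ⟨e, he⟩ := hD.isometric a b
      have hiff : IsPlusTypeOn Q (D a) ↔ IsPlusTypeOn Q (D b) :=
        ⟨fun h => Cfsg.Agent.Lib.Subspaces.OrthDecompMax.plus_transfer hD h b,
          fun h => Cfsg.Agent.Lib.Subspaces.OrthDecompMax.plus_transfer hD h a⟩
      have hab : a ≠ b := (Finset.ne_of_mem_erase hb).symm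
      obtain ⟨X, hX, hXs, hXd⟩ := exists_graph hQ (hD.decomp.nondegenerate a) (hD.decomp.nondegenerate b)
        (hd.finrank_eq a) (hd.finrank_eq b) (hD.decomp.orthogonal a b hab) hiff
      have hbs : b ∈ s := Finset.mem_of_mem_erase hb
      have hrest : ∀ {i}, i ∈ s' → i ∈ s ∧ i ≠ a ∧ i ≠ b := fun {i} hi =>
        ⟨Finset.mem_of_mem_erase (Finset.mem_of_mem_erase hi),
          Finset.ne_of_mem_erase (Finset.mem_of_mem_erase hi), Finset.ne_of_mem_erase hi⟩
      refine ⟨U ⊔ X, sup_le (hU.trans (iSup₂_le fun i hi => le_iSup₂ (f := fun i (_ : i ∈ s) => D i) i (hrest hi).1))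
        (hX.trans (sup_le (le_iSup₂ (f := fun i (_ : i ∈ s) => D i) a ha)
          (le_iSup₂ (f := fun i (_ : i ∈ s) => D i) b hbs))), ?_, ?_⟩
      · refine ts_sup hQ hUs hXs fun u hu x hx => ?_
        have hle : (⨆ i ∈ s', D i) ≤ perpQ hQ (D a ⊔ D b) := iSup₂_le fun i hi w hw y hy => by
          obtain ⟨p, hp, q, hq, rfl⟩ := Submodule.mem_sup.mp hy
          rw [hQ.polar_bilinear.add_right, hD.decomp.orthogonal i a (hrest hi).2.1 w hw p hp,
            hD.decomp.orthogonal i b (hrest hi).2.2 w hw q hq, add_zero]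
        exact hle (hU hu) x (hX hx)
      · have hdisj : Disjoint (⨆ i ∈ s', D i) (D a ⊔ D b) := by
          have h := hd.indep.disjoint_biSup_biSup' (s := (s' : Set (Fin t))) (t := ({a, b} : Set (Fin t))) (hs := Finset.finite_toSet _) (hst := by
            rw [Set.disjoint_left]
            intro i hi hi'
            simp only [Set.mem_insert_iff, Set.mem_singleton_iff] at hi'
            rcases hi' with h | h
            · exact (hrest hi).2.1 h
            · exact (hrest hi).2.2 h)
          rw [iSup_pair] at h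
          simpa using h
        have h1 := Submodule.finrank_sup_add_finrank_inf_eq U X
        rw [(hdisj.mono hU hX).eq_bot, finrank_bot, hUd, hXd] at h1
        rw [hsc, ← hs']
        rw [add_zero] at h1
        rw [h1]
        ring
  exact hall s.card s rfl hs

/-- The type of an orthogonal sum of isometric members of even dimension. -/
theorem decomposition_type (hD : IsOrthogonalMDecomposition Q (2 * j) D) (i : Fin t) :
    (Even t → IsPlusTypeOn Q ⊤) ∧ (Odd t → (IsPlusTypeOn Q ⊤ ↔ IsPlusTypeOn Q (D i))) := by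
  classical
  have hcard := Cfsg.Agent.Lib.Subspaces.Decomposition.card_eq hD.decomp.decomp
  refine ⟨fun ht => ?_, fun ht => ?_⟩
  · obtain ⟨U, -, hU, hd⟩ := exists_ts_even hQ hD Finset.univ (by rwa [Finset.card_univ, Fintype.card_fin])
    rw [Finset.card_univ, Fintype.card_fin] at hd
    exact plus_of_ts hU (by rw [hd, hcard]; ring)
  obtain ⟨U, hUle, hU, hd⟩ := exists_ts_even hQ hD (Finset.univ.erase i) (by
    rw [Finset.card_erase_of_mem (Finset.mem_univ i), Finset.card_univ, Fintype.card_fin]
    obtain ⟨r, hr⟩ := ht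
    exact ⟨r, by omega⟩)
  rw [Finset.card_erase_of_mem (Finset.mem_univ i), Finset.card_univ, Fintype.card_fin] at hd
  have hW := hD.decomp.nondegenerate i
  have hUW : U ≤ perpQ hQ (D i) := hUle.trans (iSup₂_le fun a ha x hx y hy =>
    hD.decomp.orthogonal a i (Finset.ne_of_mem_erase ha) x hx y hy)
  have hdim := finrank_add_perpQ (hQ := hQ) hW
  rw [hD.decomp.decomp.finrank_eq i] at hdim
  have h := plus_iff_of_plus hQ (perpQ_nondeg (hQ := hQ) hW) ⟨U, hUW, hU, by
    obtain ⟨r, hr⟩ := ht
    rw [hd, hr, show 2 * r + 1 - 1 = 2 * r by omega]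
    rw [hr] at hcard
    nlinarith⟩
  rwa [perpQ_perpQ] at h

end Cfsg.Agent.Lib.AschbacherEvenDim
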