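import Cfsg.Agent.Lib.AschbacherEvenDim.EvenTools
import Cfsg.Agent.Lib.AschbacherEvenDim.Sums

/-!
Characteristic two: self-adjoint field subalgebras in dimension twice a multiple of the degree, and half.
-/

set_option autoImplicit false
set_option linter.unusedSectionVars false
set_option linter.style.haveILetI false

namespace Cfsg.Agent.Lib.AschbacherEvenDim

open Cfsg.Geo Module QuadraticMap Cfsg.Agent.Lib.Subspaces.OrthForm Cfsg.Agent.Lib.Subspaces.OrthNondeg
open Cfsg.Agent.Lib.PrimeDim.Basic Cfsg.Agent.Lib.Aschbacher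
open Cfsg.Agent.Lib.Subspaces.OmegaGL (omega_isometry)
open scoped Matrix MatrixGroups

variable {ι : Type} [Fintype ι] [DecidableEq ι] {F : Type*} [Field F] [Fintype F] {Q : (ι → F) → F}
  (hQ : IsNondegenerateQuadraticForm Q)
include hQ

local notation "B" => QuadraticMap.polar Q

/-- A self-adjoint alternating field of degree `r` has `2r` dividing the dimension. -/
theorem two_mul_degree_dvd [Nonempty ι] {r : ℕ} {K : Subalgebra F (Matrix ι ι F)} (hK : IsFieldSubalgebra r K)
    (hs : IsSelfAdjointFor B K) (h0 : ∀ k ∈ K, ∀ v, B (k *ᵥ v) v = 0) : 2 * r ∣ Fintype.card ι := by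
  classical
  have hb := hQ.polar_bilinear
  have : Finite (Submodule F (ι → F)) := Finite.of_injective _ SetLike.coe_injective
  obtain ⟨L, ⟨hL, hLK⟩, hLmax⟩ := Set.exists_max_image
    {L : Submodule F (ι → F) | L ≤ perpQ hQ L ∧ ∀ k ∈ K, ∀ v ∈ L, k *ᵥ v ∈ L}
    (fun L => finrank F L) (Set.toFinite _)
    ⟨⊥, bot_le, fun k _ v hv => by rw [(Submodule.mem_bot F).mp hv, Matrix.mulVec_zero]; exact zero_mem _⟩
  have heq : perpQ hQ L = L := by
    refine le_antisymm (fun z hz => ?_) hL
    let f : Matrix ι ι F →ₗ[F] (ι → F) :=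
      { toFun := fun M => M *ᵥ z
        map_add' := fun a b => Matrix.add_mulVec a b z
        map_smul' := fun c a => Matrix.smul_mulVec c a z }
    set X := (Subalgebra.toSubmodule K).map f with hXdef
    have hinv : ∀ k ∈ K, ∀ v ∈ L ⊔ X, k *ᵥ v ∈ L ⊔ X := by
      intro k hk v hv
      obtain ⟨a, ha, b, hb', rfl⟩ := Submodule.mem_sup.mp hv
      obtain ⟨k', hk', rfl⟩ := hb'
      rw [Matrix.mulVec_add]
      refine Submodule.add_mem_sup (hLK k hk a ha) ⟨k * k', K.mul_mem hk hk', ?_⟩
      show (k * k') *ᵥ z = k *ᵥ (k' *ᵥ z)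
      rw [Matrix.mulVec_mulVec]
    have hle : L ⊔ X ≤ perpQ hQ (L ⊔ X) := by
      intro x hx y hy
      obtain ⟨a, ha, b, hb', rfl⟩ := Submodule.mem_sup.mp hx
      obtain ⟨a', ha', b', hb'', rfl⟩ := Submodule.mem_sup.mp hy
      obtain ⟨k, hk, rfl⟩ := hb'
      obtain ⟨k', hk', rfl⟩ := hb''
      show B (a + k *ᵥ z) (a' + k' *ᵥ z) = 0
      rw [hb.add_left, hb.add_right, hb.add_right, hL ha a' ha', hs k hk z a', B_comm a (k' *ᵥ z),
        hs k' hk' z a, hz _ (hLK k hk a' ha'), hz _ (hLK k' hk' a ha), hs k hk z (k' *ᵥ z),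
        Matrix.mulVec_mulVec, B_comm, h0 _ (K.mul_mem hk hk') z]
      ring
    have h1 : finrank F ↥(L ⊔ X) ≤ finrank F L := hLmax (L ⊔ X) ⟨hle, hinv⟩
    rw [Submodule.eq_of_le_of_finrank_le le_sup_left h1]
    exact Submodule.mem_sup_right ⟨1, one_mem K, Matrix.one_mulVec z⟩
  have hdim := finrank_perpQ hQ L
  rw [heq] at hdim
  letI : Field K := IsField.toField (R := K)
    { exists_pair_ne := ⟨0, 1, fun he => zero_ne_one (congrArg Subtype.val he)⟩
      mul_comm := fun x y => Subtype.ext (hK.comm x x.2 y y.2)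
      mul_inv_cancel := fun {x} hx => by
        obtain ⟨y, hy, hxy⟩ := hK.inv x x.2 (fun he => hx (Subtype.ext he))
        exact ⟨⟨y, hy⟩, Subtype.ext hxy⟩ }
  letI : Module K L :=
    { smul := fun k v => ⟨(k : Matrix ι ι F) *ᵥ v.1, hLK k k.2 v.1 v.2⟩
      one_smul := fun v => Subtype.ext (Matrix.one_mulVec _)
      mul_smul := fun a b v => Subtype.ext (Matrix.mulVec_mulVec _ _ _).symm
      smul_zero := fun a => Subtype.ext (Matrix.mulVec_zero _)
      smul_add := fun a v w => Subtype.ext (Matrix.mulVec_add _ _ _)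
      add_smul := fun a b v => Subtype.ext (Matrix.add_mulVec _ _ _)
      zero_smul := fun v => Subtype.ext (Matrix.zero_mulVec _) }
  haveI : Finite K := Finite.of_injective (fun x : K => (x : Matrix ι ι F)) Subtype.val_injective
  haveI : Module.Finite K L := Module.Finite.of_finite
  have hK' : Nat.card K = Fintype.card F ^ r := by
    rw [Module.natCard_eq_pow_finrank (K := F) (V := K), hK.finrank_eq, Nat.card_eq_fintype_card]
  have h := Module.natCard_eq_pow_finrank (K := K) (V := L)
  rw [hK', ← pow_mul, Module.natCard_eq_pow_finrank (K := F) (V := L), Nat.card_eq_fintype_card] at h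
  exact ⟨finrank K L, by rw [← hdim, Nat.pow_right_injective (Fintype.one_lt_card (α := F)) h]; ring⟩

set_option maxHeartbeats 1000000 in
/-- A self-adjoint alternating field of odd degree, half the dimension: a quadratic element. -/
theorem of_field_half_even [Nonempty ι] (heven : ¬ Odd (Fintype.card F)) {r : ℕ} (hr : Odd r)
    (hn : Fintype.card ι = 2 * r) {K : Subalgebra F (Matrix ι ι F)} (hK : IsFieldSubalgebra r K)
    (hs : IsSelfAdjointFor B K) (h0 : ∀ k ∈ K, ∀ v, B (k *ᵥ v) v = 0) {H : Subgroup (GL ι F)}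
    (hH : H ≤ omegaGL Q) (hle : H ≤ subalgebraNormalizer K) : PairOrField Q H := by
  classical
  have hb := hQ.polar_bilinear
  have h2 : (2 : F) = 0 := Cfsg.Agent.Lib.AschbacherSp.two_eq_zero heven
  letI : Field K := IsField.toField (R := K)
    { exists_pair_ne := ⟨0, 1, fun he => zero_ne_one (congrArg Subtype.val he)⟩
      mul_comm := fun x y => Subtype.ext (hK.comm x x.2 y y.2)
      mul_inv_cancel := fun {x} hx => by
        obtain ⟨y, hy, hxy⟩ := hK.inv x x.2 (fun he => hx (Subtype.ext he))
        exact ⟨⟨y, hy⟩, Subtype.ext hxy⟩ }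
  haveI : Finite (Matrix ι ι F) := inferInstanceAs (Finite (ι → ι → F))
  haveI : Finite K := Finite.of_injective (fun x : K => (x : Matrix ι ι F)) Subtype.val_injective
  have h2K : (2 : K) = 0 := by
    have e := congrArg (algebraMap F K) h2
    rwa [map_zero, map_ofNat] at e
  let act : K → (ι → F) → (ι → F) := fun k v => (k : Matrix ι ι F) *ᵥ v
  have act_mul : ∀ k l v, act (k * l) v = act k (act l v) := fun k l v =>
    (Matrix.mulVec_mulVec _ _ _).symm
  have act_add : ∀ k l v, act (k + l) v = act k v + act l v := fun k l v => Matrix.add_mulVec _ _ _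
  have act_smul : ∀ (c : F) (k : K) v, act (c • k) v = c • act k v := fun c k v => Matrix.smul_mulVec _ _ _
  have hadj : ∀ (k : K) u v, B (act k u) v = B u (act k v) := fun k u v => hs k k.2 u v
  have hz : ∀ (k l : K) v, B (act k v) (act l v) = 0 := fun k l v => by
    rw [hadj, ← act_mul, B_comm]; exact h0 _ (k * l).2 v
  -- a basis over the field
  obtain ⟨v, hv0⟩ := exists_ne (0 : ι → F)
  let φv : K →ₗ[F] (ι → F) :=
    { toFun := fun k => act k v, map_add' := fun k l => act_add k l v, map_smul' := fun c k => act_smul c k v }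
  have hrv : finrank F (LinearMap.range φv) ≤ r := le_trans (LinearMap.finrank_range_le φv) hK.finrank_eq.le
  obtain ⟨w, hw⟩ : ∃ w, w ∉ LinearMap.range φv := by
    by_contra! hall
    rw [show LinearMap.range φv = ⊤ from eq_top_iff.mpr fun x _ => hall x, finrank_top,
      Module.finrank_fintype_fun_eq_card] at hrv
    have := hr.pos
    omega
  let Φ : K × K →ₗ[F] (ι → F) :=
    { toFun := fun p => act p.1 v + act p.2 w
      map_add' := fun p q => by simp only [Prod.fst_add, Prod.snd_add, act_add]; abel
      map_smul' := fun c p => by simp only [Prod.smul_fst, Prod.smul_snd, act_smul, RingHom.id_apply, smul_add] }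
  have hinj : Function.Injective Φ := by
    rw [injective_iff_map_eq_zero]
    rintro ⟨k, l⟩ h
    change act k v + act l w = 0 at h
    have hl : l = 0 := by
      by_contra hl
      apply hw
      refine ⟨-(l⁻¹ * k), ?_⟩
      show act (-(l⁻¹ * k)) v = w
      have h1 : act (-(l⁻¹ * k)) v = -act l⁻¹ (act k v) := by
        rw [← act_mul]; exact Matrix.neg_mulVec _ _
      have h2' : act l⁻¹ (act k v) + w = 0 := by
        have e := congrArg (act l⁻¹) h
        simp only [act, Matrix.mulVec_add, Matrix.mulVec_zero] at e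
        rw [show (l⁻¹ : K).1 *ᵥ (l.1 *ᵥ w) = w by
          rw [Matrix.mulVec_mulVec, show (l⁻¹ : K).1 * l.1 = ((l⁻¹ * l : K) : Matrix ι ι F) from rfl,
            inv_mul_cancel₀ hl]; exact Matrix.one_mulVec w] at e
        exact e
      rw [h1, eq_neg_of_add_eq_zero_right h2']
    subst hl
    have hk : k = 0 := by
      by_contra hk
      apply hv0
      have e : act k⁻¹ (act k v + act 0 w) = v := by
        simp only [act, ZeroMemClass.coe_zero, Matrix.zero_mulVec, add_zero, Matrix.mulVec_mulVec]
        rw [show (k⁻¹ : K).1 * k.1 = ((k⁻¹ * k : K) : Matrix ι ι F) from rfl, inv_mul_cancel₀ hk]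
        exact Matrix.one_mulVec v
      rw [← e, h]
      exact Matrix.mulVec_zero _
    rw [hk]
    rfl
  let E : (K × K) ≃ₗ[F] (ι → F) := LinearEquiv.ofBijective Φ ⟨hinj,
    (LinearMap.injective_iff_surjective_of_finrank_eq_finrank (by
      rw [Module.finrank_prod, Module.finrank_fintype_fun_eq_card, show finrank F K = r from hK.finrank_eq]
      omega)).mp hinj⟩
  have hE : ∀ p, E p = act p.1 v + act p.2 w := fun _ => rfl
  let π : K →ₗ[F] F :=
    { toFun := fun k => B (act k v) w
      map_add' := fun k l => by rw [act_add, hb.add_left]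
      map_smul' := fun c k => by rw [act_smul, hb.smul_left, RingHom.id_apply, smul_eq_mul] }
  have hBE : ∀ p q, B (E p) (E q) = π (p.1 * q.2 + p.2 * q.1) := fun p q => by
    have hπm : ∀ k l : K, π (k * l) = B (act k v) (act l w) := fun k l => by
      show B (act (k * l) v) w = _
      rw [mul_comm, act_mul, hadj]
    rw [hE, hE, hb.add_left, hb.add_right, hb.add_right, hz, hz, map_add, mul_comm p.2 q.1, hπm, hπm,
      B_comm (act p.2 w) (act q.1 v)]
    ring
  -- every functional is a multiple of `π`
  let ρ : K →ₗ[F] (K →ₗ[F] F) :=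
    { toFun := fun a => π.comp (LinearMap.mulLeft F a)
      map_add' := fun a b => LinearMap.ext fun x => by simp [add_mul]
      map_smul' := fun c a => LinearMap.ext fun x => by simp }
  have hρ : Function.Surjective ρ := by
    refine (LinearMap.injective_iff_surjective_of_finrank_eq_finrank ?_).mp ?_
    · rw [Module.finrank_linearMap, Module.finrank_self, mul_one]
    · rw [injective_iff_map_eq_zero]
      intro a ha
      by_contra ha0
      have hπ : ∀ k, π k = 0 := fun k => by
        have := congrArg (fun f : K →ₗ[F] F => f (a⁻¹ * k)) ha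
        simpa [ρ, mul_inv_cancel_left₀ ha0] using this
      obtain ⟨⟨k, l⟩, hkl⟩ := E.surjective w
      obtain ⟨-, x, hx⟩ := hQ.nondegenerate (E (1, 0)) (fun h => by
        have := (LinearEquiv.map_eq_zero_iff E).mp h
        simp at this)
      obtain ⟨q, rfl⟩ := E.surjective x
      exact hx (by rw [hBE]; simp [hπ])
  -- square roots
  have hsqinj : Function.Injective (fun k : K => k * k) := fun a b hab => by
    refine sub_eq_zero.mp (mul_self_eq_zero.mp ?_)
    simp only at hab
    linear_combination hab + (b * b - a * b) * h2K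
  have hsq := Finite.injective_iff_surjective.mp hsqinj
  choose rt hrt using hsq
  have hrt' : ∀ k : K, rt k * rt k = k := hrt
  have hQE : ∀ u : ι → F, ∃ a : K, ∀ k, Q (act k u) = π (a * (k * k)) := by
    intro u
    have hQa : ∀ k l : K, Q (act (k + l) u) = Q (act k u) + Q (act l u) := fun k l => by
      rw [act_add, Q_add (Q := Q), hz, add_zero]
    let f : K →ₗ[F] F :=
      { toFun := fun k => Q (act (rt k) u)
        map_add' := fun k l => by
          rw [show rt (k + l) = rt k + rt l from hsqinj (by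
            simp only [hrt']
            linear_combination -(hrt' k) - hrt' l - (rt k * rt l) * h2K), hQa]
        map_smul' := fun c k => by
          have hc2 : ringChar F = 2 := by
            haveI : CharP F 2 := CharTwo.of_one_ne_zero_of_two_eq_zero one_ne_zero h2
            exact ringChar.eq F 2
          obtain ⟨s, hs'⟩ := FiniteField.isSquare_of_char_two hc2 c
          rw [show rt (c • k) = s • rt k from hsqinj (by
            simp only [hrt', smul_mul_assoc, mul_smul_comm, smul_smul, ← hs']), act_smul, hQ.smul, hs',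
            RingHom.id_apply, smul_eq_mul, pow_two] }
    obtain ⟨a, ha⟩ := hρ f
    refine ⟨a, fun k => ?_⟩
    have h1 : rt (k * k) = k := hsqinj (by simp only [hrt'])
    have := congrArg (fun g : K →ₗ[F] F => g (k * k)) ha
    simp only [ρ, f, LinearMap.coe_mk, AddHom.coe_mk, LinearMap.comp_apply, LinearMap.mulLeft_apply, h1] at this
    exact this.symm
  obtain ⟨a, ha⟩ := hQE v
  obtain ⟨b, hb'⟩ := hQE w
  have hQE' : ∀ p, Q (E p) = π (a * (p.1 * p.1) + b * (p.2 * p.2) + p.1 * p.2) := fun p => by
    rw [hE, Q_add (Q := Q), ha, hb', map_add, map_add]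
    congr 1
    show _ = B (act (p.1 * p.2) v) w
    rw [mul_comm, act_mul, hadj p.2]
  -- the constant
  obtain ⟨δ₀, hδ₀⟩ : ∃ δ : F, ∀ t : F, t * t + t ≠ δ := by
    by_contra! h
    have hsur : Function.Surjective (fun t : F => t * t + t) := h
    exact zero_ne_one ((Finite.injective_iff_surjective.mpr hsur)
      (show (0 : F) * 0 + 0 = 1 * 1 + 1 by linear_combination -h2))
  obtain ⟨t, δ, ht⟩ : ∃ (t : K) (δ : F), t * t + t + a * b = algebraMap F K δ := by
    let ψ : K →+ K :=
      { toFun := fun t => t * t + t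
        map_zero' := by simp
        map_add' := fun x y => by linear_combination (x * y) * h2K }
    by_contra! hno
    have hd : ∀ t, t * t + t ≠ algebraMap F K δ₀ := by
      intro t ht
      -- a root in an extension of odd degree is rational
      let L : Subalgebra F K :=
        { carrier := {z | ∃ x y : F, z = algebraMap F K x + algebraMap F K y * t}
          mul_mem' := by
            rintro _ _ ⟨x, y, rfl⟩ ⟨x', y', rfl⟩
            refine ⟨x * x' + y * y' * δ₀, x * y' + x' * y + y * y', ?_⟩
            simp only [map_add, map_mul]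
            linear_combination (algebraMap F K y * algebraMap F K y') * ht -
              (algebraMap F K y * algebraMap F K y' * t) * h2K
          one_mem' := ⟨1, 0, by simp⟩
          add_mem' := by
            rintro _ _ ⟨x, y, rfl⟩ ⟨x', y', rfl⟩
            exact ⟨x + x', y + y', by simp only [map_add]; ring⟩
          zero_mem' := ⟨0, 0, by simp⟩
          algebraMap_mem' := fun c => ⟨c, 0, by simp⟩ }
      haveI : NoZeroDivisors L := ⟨fun {x y} h => by
        rcases mul_eq_zero.mp (congrArg Subtype.val h) with h' | h'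
        · exact Or.inl (Subtype.ext h')
        · exact Or.inr (Subtype.ext h')⟩
      haveI : IsDomain L := NoZeroDivisors.to_isDomain _
      letI : Field L := (Finite.isDomain_to_isField L).toField
      haveI : Module.Finite F L := Module.Finite.of_finite
      haveI : Module.Finite L K := Module.Finite.of_finite
      have hmul := Module.finrank_mul_finrank F L K
      rw [show finrank F K = r from hK.finrank_eq] at hmul
      have htL : t ∈ L := ⟨0, 1, by simp⟩
      have hle2 : finrank F L ≤ 2 := by
        let g : Fin 2 → L := ![1, ⟨t, htL⟩]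
        have htop : Submodule.span F (Set.range g) = ⊤ := by
          rw [eq_top_iff]
          rintro ⟨z, x, y, rfl⟩ -
          rw [Submodule.mem_span_range_iff_exists_fun]
          exact ⟨![x, y], Subtype.ext (by simp [g, Fin.sum_univ_two, Algebra.smul_def])⟩
        have := finrank_range_le_card (R := F) g
        rwa [Set.finrank, htop, finrank_top, Fintype.card_fin] at this
      have h1 : finrank F L = 1 := by
        have hne2 : finrank F L ≠ 2 := fun h => by
          rw [h] at hmul
          exact (Nat.not_even_iff_odd.mpr hr) ⟨finrank L K, by omega⟩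
        have : 0 < finrank F L := Module.finrank_pos
        omega
      have hbot := Subalgebra.eq_bot_of_finrank_one h1
      obtain ⟨c, hc⟩ := Algebra.mem_bot.mp (hbot ▸ htL)
      refine hδ₀ c ((algebraMap F K).injective ?_)
      rw [map_add, map_mul, hc]
      exact ht
    -- the image of `ψ` has index two
    set I := ψ.range with hI
    have hker : Nat.card ψ.ker = 2 := by
      have hset : (ψ.ker : Set K) = {0, 1} := by
        ext z
        simp only [SetLike.mem_coe, AddMonoidHom.mem_ker, Set.mem_insert_iff, Set.mem_singleton_iff]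
        show z * z + z = 0 ↔ _
        constructor
        · intro h
          rcases mul_eq_zero.mp (show z * (z + 1) = 0 by linear_combination h) with h | h
          · exact Or.inl h
          · exact Or.inr (by linear_combination h - h2K)
        · rintro (rfl | rfl)
          · simp
          · linear_combination h2K
      show Nat.card (ψ.ker : Set K) = 2
      rw [hset, Nat.card_coe_set_eq, Set.ncard_pair zero_ne_one]
    have hidx : I.index = 2 := by
      have h1 := ψ.ker.card_mul_index
      rw [AddSubgroup.index_ker, hker] at h1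
      have h2' := I.card_mul_index
      rw [← h1, mul_comm] at h2'
      exact mul_right_cancel₀ (Nat.card_pos (α := I)).ne' h2'
    have hn0 : a * b ∉ I := fun ⟨t, ht⟩ => hno t 0 (by
      change t * t + t = a * b at ht
      rw [map_zero]; linear_combination ht + (a * b) * h2K)
    have hδI : algebraMap F K δ₀ ∉ I := fun ⟨t, ht⟩ => hd t ht
    obtain ⟨t, ht⟩ : a * b + algebraMap F K δ₀ ∈ I := by
      rw [AddSubgroup.add_mem_iff_of_index_two hidx]
      exact iff_of_false hn0 hδI
    change t * t + t = a * b + algebraMap F K δ₀ at ht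
    exact hno t δ₀ (by linear_combination ht + (a * b) * h2K)
  -- the element
  let T : (K × K) →ₗ[F] (K × K) :=
    { toFun := fun p => (t * p.1 + b * p.2, a * p.1 + (t + 1) * p.2)
      map_add' := fun p q => Prod.ext (by simp only [Prod.fst_add, Prod.snd_add]; ring)
        (by simp only [Prod.fst_add, Prod.snd_add]; ring)
      map_smul' := fun c p => Prod.ext (by simp [mul_smul_comm]) (by simp [mul_smul_comm]) }
  have hsm : ∀ (c : F) (x : K), c • x = algebraMap F K c * x := fun c x => Algebra.smul_def c x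
  have hTT : ∀ p, T (T p) = T p + δ • p := fun p => by
    refine Prod.ext ?_ ?_ <;>
      simp only [T, LinearMap.coe_mk, AddHom.coe_mk, Prod.fst_add, Prod.snd_add, Prod.smul_fst, Prod.smul_snd,
        hsm]
    · linear_combination p.1 * ht + (b * p.2 * t - t * p.1) * h2K
    · linear_combination p.2 * ht + (a * p.1 * t) * h2K
  let M : Matrix ι ι F := LinearMap.toMatrix' (E.toLinearMap ∘ₗ T ∘ₗ E.symm.toLinearMap)
  have hME : ∀ p, M *ᵥ E p = E (T p) := fun p => by
    simp only [M, LinearMap.toMatrix'_mulVec]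
    simp
  have hcommK : ∀ (k : K) (x : ι → F), M *ᵥ act k x = act k (M *ᵥ x) := by
    intro k x
    obtain ⟨p, rfl⟩ := E.surjective x
    have hk : ∀ p, act k (E p) = E (k * p.1, k * p.2) := fun p => by
      rw [hE, hE, act_mul, act_mul]
      exact Matrix.mulVec_add _ _ _
    rw [hk, hME, hME, hk]
    congr 1
    refine Prod.ext ?_ ?_ <;> simp only [T, LinearMap.coe_mk, AddHom.coe_mk] <;> ring
  have hMQ : ∀ x, B (M *ᵥ x) x = Q x := fun x => by
    obtain ⟨p, rfl⟩ := E.surjective x
    rw [hME, hBE, hQE']
    congr 1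
    simp only [T, LinearMap.coe_mk, AddHom.coe_mk]
    linear_combination (t * p.1 * p.2) * h2K
  have hMM : ∀ x, M *ᵥ (M *ᵥ x) = M *ᵥ x + δ • x := fun x => by
    obtain ⟨p, rfl⟩ := E.surjective x
    rw [hME, hME, hTT, map_add, map_smul]
  refine of_omega_even hQ heven (T := M) (δ := δ) ?_ hMQ fun h hh => ?_
  · refine Matrix.ext_of_mulVec_single fun j => ?_
    rw [← Matrix.mulVec_mulVec, hMM, Matrix.add_mulVec, Matrix.smul_mulVec, Matrix.one_mulVec]
  set M' := (h : Matrix ι ι F) * M * ((h⁻¹ : GL ι F) : Matrix ι ι F) with hM'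
  have hM'v : ∀ x, M' *ᵥ x = (h : Matrix ι ι F) *ᵥ (M *ᵥ (((h⁻¹ : GL ι F) : Matrix ι ι F) *ᵥ x)) := fun x => by
    rw [hM', Matrix.mulVec_mulVec, Matrix.mulVec_mulVec]
  have hM'Q : ∀ x, B (M' *ᵥ x) x = Q x := fun x => by
    have e := omega_B hQ (hH hh) (M *ᵥ (((h⁻¹ : GL ι F) : Matrix ι ι F) *ᵥ x)) (((h⁻¹ : GL ι F) : Matrix ι ι F) *ᵥ x)
    rw [mulVec_inv_cancel, hMQ, omega_isometry hQ (hH (inv_mem hh))] at e
    rw [hM'v, e]
  have hM'K : ∀ (k : K) x, M' *ᵥ act k x = act k (M' *ᵥ x) := fun k x => by
    have hk := (hle (inv_mem hh) k).mp k.2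
    rw [inv_inv] at hk
    set k' : K := ⟨_, hk⟩ with hk'
    have e1 : ∀ z, ((h⁻¹ : GL ι F) : Matrix ι ι F) *ᵥ act k z = act k' (((h⁻¹ : GL ι F) : Matrix ι ι F) *ᵥ z) := by
      intro z
      simp only [act, hk', Matrix.mulVec_mulVec, mul_assoc, Units.mul_inv, mul_one]
    have e2 : ∀ z, (h : Matrix ι ι F) *ᵥ act k' z = act k ((h : Matrix ι ι F) *ᵥ z) := by
      intro z
      simp only [act, hk', Matrix.mulVec_mulVec, ← mul_assoc, Units.mul_inv, one_mul]
    rw [hM'v, hM'v, e1, hcommK, e2]
  have hD : ∀ p, M' *ᵥ E p = act p.1 (M' *ᵥ v) + act p.2 (M' *ᵥ w) := fun p => by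
    rw [hE, Matrix.mulVec_add, hM'K, hM'K]
  obtain ⟨⟨x₁, y₁⟩, hv'⟩ := E.surjective (M' *ᵥ v)
  obtain ⟨⟨x₂, y₂⟩, hw'⟩ := E.surjective (M' *ᵥ w)
  have hcoord : ∀ p : K × K, M' *ᵥ E p = E (p.1 * x₁ + p.2 * x₂, p.1 * y₁ + p.2 * y₂) := fun p => by
    rw [hD, ← hv', ← hw', hE, hE, hE]
    simp only [act_add, act_mul]
    simp only [act, Matrix.mulVec_add]
    abel
  have hform : ∀ p : K × K, π ((y₁ + a) * (p.1 * p.1) + (x₂ + b) * (p.2 * p.2) + (x₁ + y₂ + 1) * (p.1 * p.2)) = 0 := by
    intro p
    have e := hM'Q (E p)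
    rw [hcoord, hBE, hQE', ← sub_eq_zero, ← map_sub] at e
    refine Eq.trans (congrArg π ?_) e
    dsimp only
    linear_combination (a * (p.1 * p.1) + b * (p.2 * p.2) + p.1 * p.2) * h2K
  have hπ0 : ∀ c : K, (∀ k, π (c * k) = 0) → c = 0 := fun c hc => by
    have h1 : ρ c = 0 := LinearMap.ext fun k => by simpa [ρ] using hc k
    have hinj' : Function.Injective ρ :=
      (LinearMap.injective_iff_surjective_of_finrank_eq_finrank (by
        rw [Module.finrank_linearMap, Module.finrank_self, mul_one])).mpr hρ
    exact hinj' (h1.trans (map_zero ρ).symm)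
  have hy₁ : y₁ + a = 0 := hπ0 _ fun k => by simpa [hrt'] using hform (rt k, 0)
  have hx₂ : x₂ + b = 0 := hπ0 _ fun k => by simpa [hrt'] using hform (0, rt k)
  have hxy : x₁ + y₂ + 1 = 0 := hπ0 _ fun k => by simpa [hy₁, hx₂] using hform (1, k)
  -- the scalar difference
  have hM'M' : ∀ x, M' *ᵥ (M' *ᵥ x) = M' *ᵥ x + δ • x := fun x => by
    simp only [hM'v, inv_mulVec_cancel, hMM, Matrix.mulVec_add, Matrix.mulVec_smul, mulVec_inv_cancel]
  have hsqd : (x₁ + t) * (x₁ + t + 1) = 0 := by
    have e := hM'M' (E (1, 0))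
    rw [hcoord, hcoord, ← map_smul, ← map_add] at e
    have e' := congrArg Prod.fst (E.injective e)
    simp only [Prod.fst_add, Prod.smul_fst, hsm] at e'
    have hy : y₁ = a := by linear_combination hy₁ - a * h2K
    have hx : x₂ = b := by linear_combination hx₂ - b * h2K
    rw [hy, hx] at e'
    linear_combination e' + ht + (x₁ * t + x₁ - a * b + algebraMap F K δ) * h2K
  have hfin : ∀ d : K, x₁ = t + d → ∀ x, M' *ᵥ x = M *ᵥ x + act d x := fun d hd x => by
    obtain ⟨p, rfl⟩ := E.surjective x
    have hk : act d (E p) = E (d * p.1, d * p.2) := by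
      rw [hE, hE, act_mul, act_mul]
      exact Matrix.mulVec_add _ _ _
    rw [hcoord, hME, hk, ← map_add]
    congr 1
    have hy₂ : y₂ = t + d + 1 := by linear_combination hxy + hd - (x₁ + 1) * h2K + 0
    have hy₁' : y₁ = a := by linear_combination hy₁ - a * h2K
    have hx₂' : x₂ = b := by linear_combination hx₂ - b * h2K
    rw [hd, hy₁', hx₂', hy₂]
    refine Prod.ext ?_ ?_ <;> simp only [T, LinearMap.coe_mk, AddHom.coe_mk, Prod.fst_add, Prod.snd_add] <;> ring
  rcases mul_eq_zero.mp hsqd with hd | hd
  · refine Or.inl (Matrix.ext_of_mulVec_single fun j => ?_)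
    rw [hfin 0 (by linear_combination hd - t * h2K)]
    simp only [act, ZeroMemClass.coe_zero, Matrix.zero_mulVec, add_zero]
  · refine Or.inr (Matrix.ext_of_mulVec_single fun j => ?_)
    rw [hfin 1 (by linear_combination hd - (t + 1) * h2K), Matrix.add_mulVec]
    rfl

end Cfsg.Agent.Lib.AschbacherEvenDim
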