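import Cfsg.Agent.Lib.AschbacherEvenDim.EvenTensor
import Cfsg.Agent.Lib.AschbacherEvenDim.Reducible

/-!
The outcomes for an irreducible subgroup of `Ω` in dimensions eight, ten and twelve, characteristic two.
-/

set_option autoImplicit false
set_option linter.unusedSectionVars false
set_option linter.style.haveILetI false

namespace Cfsg.Agent.Lib.AschbacherEvenDim

open Cfsg.Geo Module QuadraticMap
open Cfsg.Agent.Lib.PrimeDim.Basic Cfsg.Agent.Lib.Aschbacher
open Cfsg.Agent.Lib.PrimeDim.Fields Cfsg.Agent.Lib.PrimeDim.Symplectic Cfsg.Agent.Lib.PrimeDim.Main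
open Cfsg.Agent.Lib.AschbacherSp (Alt Isom two_eq_zero rational_structure realisable_of_unitary symplecticType_sp
  perfect_cases_sp adj_mem_algOf even_of_symplectic gramIn_swap gramForm_in pt)
open scoped Matrix MatrixGroups commutatorElement

variable {ι : Type} [Fintype ι] [DecidableEq ι] {F : Type*} [Field F] [Fintype F]

/-- The outcomes for an irreducible subgroup, characteristic two. -/
def EvenIrredOutcome (Q : (ι → F) → F) (H : Subgroup (GL ι F)) : Prop :=
  (∃ (t k : ℕ) (D : Fin t → Submodule F (ι → F)), Even k ∧ IsOrthogonalMDecomposition Q k D ∧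
    H ≤ decompositionStabilizer D) ∨
  (∃ (r : ℕ) (K : Subalgebra F (Matrix ι ι F)), r.Prime ∧ r ∣ Fintype.card ι ∧ IsFieldSubalgebra r K ∧
    IsSelfAdjointFor (QuadraticMap.polar Q) K ∧ (∀ k ∈ K, ∀ v, QuadraticMap.polar Q (k *ᵥ v) v = 0) ∧
    H ≤ subalgebraNormalizer K) ∨
  PairOrField Q H ∨
  (∃ l, 2 * l = Fintype.card ι ∧ Even l ∧ TensorData Q H 2 l) ∨
  (∃ (F₀ : Subfield F) (r : ℕ) (P : GL ι F) (ζ : F), r.Prime ∧ Fintype.card F = Nat.card F₀ ^ r ∧ ζ ≠ 0 ∧
    IsQuadFormRationalStructure (fun v => ζ * Q v) F₀ P ∧ H ≤ subfieldSubgroup F₀ P) ∨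
  (Fintype.card ι = 8 ∧ IsPlusTypeOn Q ⊤) ∨
  InOrthogonalResidualClass H

variable {Q : (ι → F) → F} (hQ : IsNondegenerateQuadraticForm Q)
include hQ

local notation "B" => QuadraticMap.polar Q
local notation "G" => gramMatrix (QuadraticMap.polar Q)

omit hQ in
/-- The factors of a tensor decomposition may be swapped. -/
theorem TensorData.swap {H : Subgroup (GL ι F)} {m l : ℕ} (h : TensorData Q H m l) : TensorData Q H l m := by
  obtain ⟨e, P, f₁, f₂, h1, h2, ⟨c, hc, hf⟩, hpure, hle⟩ := h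
  refine ⟨e.trans (Equiv.prodComm _ _), P, f₂, f₁, h2, h1, ⟨c, hc, fun x y => ?_⟩, fun x w => ?_,
    hle.trans (tensorProduct_swap e P)⟩
  · have e1 : ∀ z : Fin l × Fin m → F, z ∘ (e.trans (Equiv.prodComm _ _)) = (fun p => z p.swap) ∘ e := fun z => by
      funext i; simp
    rw [e1, e1, hf]
    congr 1
    simp only [formOfGram, Matrix.kroneckerMap_apply, Fintype.sum_prod_type, Prod.swap_prod_mk, id_eq]
    rw [Finset.sum_comm]
    refine Finset.sum_congr rfl fun a _ => Finset.sum_congr rfl fun b _ => ?_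
    rw [Finset.sum_comm]
    exact Finset.sum_congr rfl fun c _ => Finset.sum_congr rfl fun d _ => by ring
  · rw [show pt x w ∘ (e.trans (Equiv.prodComm _ _)) = pt w x ∘ e by funext i; simp [pt, mul_comm]]
    exact hpure w x

/-- A group realisable over a subfield gives a subfield structure. -/
theorem of_realisable [Nonempty ι] (heven : ¬ Odd (Fintype.card F)) {H N : Subgroup (GL ι F)} (hN : N ≤ omegaGL Q)
    (hNn : NormalizedBy H N) (habs : ActsAbsolutelyIrreducibly (matrixSet N)) (hns : N ≠ ⊥) {F₀ : Subfield F}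
    (hne : F₀ ≠ ⊤) (hr : RealisableOver F₀ (matrixSet N)) : EvenIrredOutcome Q H := by
  have hG := alt_gram hQ heven
  obtain ⟨C, hC⟩ := hr
  obtain ⟨F₁, r, hrp, hle, hcard⟩ := exists_prime_index hne
  have hC' : ∀ s ∈ N, ∀ i j, ((C : Matrix ι ι F) * (s : Matrix ι ι F) * ((C⁻¹ : GL ι F) : Matrix ι ι F)) i j ∈ F₀ :=
    fun s hs i j => hC _ (mem_matrixSet.mpr ⟨s, hs, rfl⟩) i j
  obtain ⟨ζ, hζ, hP⟩ := rational_structure hG (fun g hg => mem_Isom_gram hQ (hN hg)) habs hC' hle
  refine Or.inr (Or.inr (Or.inr (Or.inr (Or.inl ⟨F₁, r, C⁻¹, ζ, hrp, hcard, hζ, ?_,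
    normalizer_le_subfieldSubgroup hNn habs F₁ fun s hs i j => hle (hC' s hs i j)⟩))))
  exact quad_rational_even hQ hN (irred_iff.mp habs.1) hns (fun x hx i j => by
    rw [inv_inv]; exact hle (hC' x hx i j)) hP

/-- The irreducible case. -/
theorem even_irred (heven : ¬ Odd (Fintype.card F)) {m : ℕ} (hn : Fintype.card ι = 2 * m)
    (hm : m = 4 ∨ m = 5 ∨ m = 6) {H : Subgroup (GL ι F)} (hHΩ : H ≤ omegaGL Q) (hH : Irred H) :
    EvenIrredOutcome Q H := by
  classical
  haveI : Nonempty ι := Fintype.card_pos_iff.mp (by omega)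
  have h2ι : 2 ≤ Fintype.card ι := by omega
  have h3 : 3 ≤ Fintype.card ι := by omega
  have hG := alt_gram hQ heven
  have hHI : H ≤ Isom G := fun g hg => mem_Isom_gram hQ (hHΩ hg)
  obtain ⟨N, ⟨hNH, hNn, hNs⟩, hNmin⟩ := WellFounded.has_min (wellFounded_lt (α := Subgroup (GL ι F)))
    {N | N ≤ H ∧ NormalizedBy H N ∧ ¬ N ≤ scalars ι F}
    ⟨H, le_rfl, fun h hh x hx => mul_mem (mul_mem hh hx) (inv_mem hh), not_le_scalars (by omega) hH⟩
  have hN : N ≤ Isom G := hNH.trans hHI
  have hNΩ : N ≤ omegaGL Q := hNH.trans hHΩ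
  have hNbot : N ≠ ⊥ := fun h => hNs (h ▸ bot_le)
  have hmin : ∀ M : Subgroup (GL ι F), M ≤ N → NormalizedBy H M → M ≤ scalars ι F ∨ M = N := by
    intro M hM hMn
    by_contra! hc
    exact hNmin M ⟨hM.trans hNH, hMn, hc.1⟩ (lt_of_le_of_ne hM hc.2)
  rcases centre_cases hQ heven h2ι hH hHΩ hNn hN with hz | ⟨t, k, D, hD, hle⟩ | h | h
  rotate_left
  · refine Or.inl ⟨t, k, D, ?_, hD, hle⟩
    have ht := hD.decomp.decomp.two_le
    have := even_dim_of_char_two hQ (two_eq_zero heven) (hD.decomp.nondegenerate ⟨0, by omega⟩)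
    rwa [hD.decomp.decomp.finrank_eq] at this
  · exact Or.inr (Or.inl h)
  · exact Or.inr (Or.inr (Or.inl h))
  rcases exists_unitSys hH hNn hz with h | ⟨d, e, hd, he, hemem, hspan⟩
  · exact absurd h hNs
  have hmem : ∀ M ∈ unitSpan e, M ∈ algOf N := fun M hM =>
    (Submodule.span_le (p := Subalgebra.toSubmodule (algOf N))).mpr (by rintro _ ⟨ab, rfl⟩; exact hemem _ _) hM
  rcases tensor_units hQ heven h2ι hHΩ hH hd he
      (fun g hg a c => hspan _ (conj_mem_algOf (fun x hx => hNn g hg x hx) (hemem a c)))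
      (fun X hX => hspan _ (adj_mem_algOf hG hN (hmem X hX))) with htop | ⟨l, hl, hdl, hdata⟩
  swap
  · refine Or.inr (Or.inr (Or.inr (Or.inl ?_)))
    obtain ⟨ε, P, f₁, f₂, hs1, hs2, hrest⟩ := hdata
    have hev1 : Even d := by simpa using even_of_symplectic hs1
    have hev2 : Even l := by simpa using even_of_symplectic hs2
    have hsmall : d = 2 ∨ l = 2 := by
      by_contra! hc
      obtain ⟨a, ha⟩ := hev1
      obtain ⟨b, hb⟩ := hev2
      have : 4 * 4 ≤ d * l := Nat.mul_le_mul (by omega) (by omega)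
      omega
    rcases hsmall with rfl | rfl
    · exact ⟨l, hdl, hev2, ε, P, f₁, f₂, hs1, hs2, hrest⟩
    · exact ⟨d, by omega, hev1, TensorData.swap ⟨ε, P, f₁, f₂, hs1, hs2, hrest⟩⟩
  have habs : ActsAbsolutelyIrreducibly (matrixSet N) := by
    have htop' : ∀ M, M ∈ algOf N := fun M => hmem M (htop M)
    refine ⟨irred_iff.mpr fun W hW => ?_, fun M hM => ?_⟩
    · by_cases hb : W = ⊥
      · exact Or.inl hb
      right
      obtain ⟨w, hw, hw0⟩ := Submodule.exists_mem_ne_zero_of_ne_bot hb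
      obtain ⟨j, hj⟩ := Function.ne_iff.mp hw0
      rw [eq_top_iff]
      intro v _
      have h2 := algOf_invariant hW (htop' (Matrix.of fun a b => if b = j then v a * (w j)⁻¹ else 0)) w hw
      have h3 : (Matrix.of fun a b => if b = j then v a * (w j)⁻¹ else 0) *ᵥ w = v := by
        funext a
        simp [Matrix.mulVec, dotProduct, mul_assoc, inv_mul_cancel₀ (show w j ≠ 0 from hj)]
      rwa [h3] at h2
    · have hc : M ∈ commutant N := mem_commutant.mpr fun x hx => (hM _ (mem_matrixSet.mpr ⟨x, hx, rfl⟩)).symm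
      obtain ⟨c, hc'⟩ := (Matrix.mem_range_scalar_iff_commute_single'.mpr fun i j =>
        (algOf_comm (htop' _) hc).symm : M ∈ Set.range (Matrix.scalar ι))
      exact ⟨c, by rw [← hc', Matrix.scalar_apply, Matrix.smul_one_eq_diagonal]⟩
  rcases hmin ⁅N, N⁆ (Subgroup.commutator_le_self N) (fun h hh => commutator_map_le (hNn h hh)) with hc | hperf
  · have hchar : ∀ A : Subgroup N, A.Characteristic → A.map N.subtype ≤ scalars ι F ∨ A = ⊤ := by
      intro A hA
      have hnorm : NormalizedBy H (A.map N.subtype) := by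
        rintro g hg _ ⟨a, ha, rfl⟩
        let φ : N ≃* N :=
          { toFun := fun x => ⟨g * x * g⁻¹, hNn g hg x x.2⟩
            invFun := fun x => ⟨g⁻¹ * x * g, by simpa using hNn g⁻¹ (inv_mem hg) x x.2⟩
            left_inv := fun x => Subtype.ext (by simp [mul_assoc])
            right_inv := fun x => Subtype.ext (by simp [mul_assoc])
            map_mul' := fun x y => Subtype.ext (by simp [mul_assoc]) }
        refine ⟨φ a, ?_, rfl⟩
        have hA' := hA.fixed φ
        rw [← hA'] at ha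
        simpa using ha
      rcases hmin (A.map N.subtype) (Subgroup.map_subtype_le A) hnorm with h | h
      · exact Or.inl h
      · refine Or.inr (Subgroup.map_injective N.subtype_injective ?_)
        rw [h, ← MonoidHom.range_eq_map, Subgroup.range_subtype]
    rcases symplecticType_sp hG hN h3 habs hc hNs hchar with
      ⟨F₀, hne, hr⟩ | ⟨p, k, -, hpo, hq, -⟩
    · exact of_realisable hQ heven hNΩ hNn habs hNbot hne hr
    · exact absurd (hq ▸ hpo) heven
  rcases perfect_cases_sp hNn hNs habs hperf hmin with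
    ⟨hsimp, hnab⟩ | ⟨a, k, ε, P, T, ha, hk, -, hT, halg, -⟩
  rotate_left
  · have hcard : a ^ k = Fintype.card ι := by simp [Fintype.card_congr ε]
    have hak : a = 2 ∧ k = 3 := by
      have ha12 : a ≤ 12 := le_trans (Nat.le_self_pow (show k ≠ 0 by omega) a) (by omega)
      have hk3 : k ≤ 3 := by
        by_contra hlt
        have h1 := Nat.pow_le_pow_right (show 0 < a by omega) (show 4 ≤ k by omega)
        have h2 := Nat.pow_le_pow_left ha 4
        omega
      interval_cases k <;> interval_cases a <;> norm_num at hcard ⊢ <;> omega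
    obtain ⟨rfl, rfl⟩ := hak
    exact Or.inr (Or.inr (Or.inr (Or.inr (Or.inr (Or.inl
      ⟨by omega, plus_of_wreath hQ heven hNΩ (fun i => (hT i).1) halg⟩)))))
  have hcent : ∀ h ∈ H, (∀ x ∈ N, h * x * h⁻¹ * x⁻¹ ∈ scalars ι F) → h ∈ scalars ι F := by
    intro g _ hgx
    have hc := perfect_centralizes hperf (fun z hz x => scalar_comm hz x) hgx
    obtain ⟨c, hc'⟩ := habs.2 g.val (fun s hs => by
      obtain ⟨x, hx, rfl⟩ := mem_matrixSet.mp hs
      exact congrArg Units.val (hc x hx))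
    have hc0 : c ≠ 0 := by
      intro h0
      rw [h0, zero_smul] at hc'
      exact g.ne_zero hc'
    exact (mem_scalars_iff g).mpr ⟨Units.mk0 c hc0, hc'⟩
  by_cases hsub : ∃ F₀ : Subfield F, F₀ ≠ ⊤ ∧ RealisableOver F₀ (matrixSet N)
  · obtain ⟨F₀, hne, hr⟩ := hsub
    exact of_realisable hQ heven hNΩ hNn habs hNbot hne hr
  by_cases hU : ∃ (σ : F ≃+* F) (f : (ι → F) → (ι → F) → F), IsUnitaryForm σ f ∧ FixesForm (matrixSet N) f
  · obtain ⟨σ, f, hf, hfix⟩ := hU
    exact absurd (realisable_of_unitary hG hN habs hf hfix) hsub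
  push Not at hsub
  exact Or.inr (Or.inr (Or.inr (Or.inr (Or.inr (Or.inr
    ⟨N, ⟨hNH, hNn, hperf, hsimp, hnab, hcent, habs, fun F₀ h1 h2 => hsub F₀ h1 h2⟩, hU⟩)))))

end Cfsg.Agent.Lib.AschbacherEvenDim
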