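import Cfsg.Agent.Lib.AschbacherEvenDim.OddMain
import Cfsg.Agent.Lib.AschbacherOrth.OddMax

/-!
`Ω₁₀(q)`, `q` odd, both types: the irreducible subgroups and the pairs of halves of dimension five.
-/

set_option autoImplicit false
set_option linter.unusedSectionVars false

namespace Cfsg.Agent.Lib.AschbacherEvenDim

open Cfsg.Geo Module QuadraticMap Cfsg.Agent.Lib.Subspaces.OrthNondeg
open Cfsg.Agent.Lib.PrimeDim.Basic Cfsg.Agent.Lib.Aschbacher
open Cfsg.Agent.Lib.AschbacherSp (eq_inf subfield_ne_top two_ne_zero')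
open Cfsg.Agent.Lib.AschbacherOrth (not_le_decomposition)
open scoped Matrix MatrixGroups

variable {ι : Type} [Fintype ι] [DecidableEq ι] {F : Type*} [Field F] [Fintype F]

/-- The decomposition members and the other members outside the first class, dimension ten, plus type. -/
def PlusTenMember (Q : (ι → F) → F) (H : Subgroup (GL ι F)) : Prop :=
  ((∃ p : ℕ, p.Prime ∧ Fintype.card F = p ∧ (p % 4 = 1)) ∧ ∃ D : Fin 10 → Submodule F (ι → F),
    IsOrthogonalMDecomposition Q 1 D ∧ H = decompositionStabilizer D ⊓ omegaGL Q) ∨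
  (7 ≤ Fintype.card F ∧ ∃ D : Fin 5 → Submodule F (ι → F),
    IsOrthogonalMDecomposition Q 2 D ∧ H = decompositionStabilizer D ⊓ omegaGL Q) ∨
  (Fintype.card F % 4 = 1 ∧ ∃ D : Fin 2 → Submodule F (ι → F),
    IsOrthogonalMDecomposition Q 5 D ∧ H = decompositionStabilizer D ⊓ omegaGL Q) ∨
  (Fintype.card F % 4 = 3 ∧ ∃ D : Fin 2 → Submodule F (ι → F),
    IsNondegenerateMDecomposition (QuadraticMap.polar Q) 5 D ∧ ¬ AreIsometricFor Q (D 0) (D 1) ∧
    H = decompositionStabilizer D ⊓ omegaGL Q) ∨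
  (Odd (Fintype.card F) ∧ ∃ K : Subalgebra F (Matrix ι ι F), IsFieldSubalgebra 2 K ∧
    IsSelfAdjointFor (QuadraticMap.polar Q) K ∧ H = subalgebraNormalizer K ⊓ omegaGL Q) ∨
  (∃ (F₀ : Subfield F) (r : ℕ) (P : GL ι F) (ζ : F), r.Prime ∧ Fintype.card F = Nat.card F₀ ^ r ∧ ζ ≠ 0 ∧
    IsQuadFormRationalStructure (fun v => ζ * Q v) F₀ P ∧ H = subfieldSubgroup F₀ P ⊓ omegaGL Q) ∨
  InOrthogonalResidualClass H

/-- The decomposition members and the other members outside the first class, dimension ten, minus type. -/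
def MinusTenMember (Q : (ι → F) → F) (H : Subgroup (GL ι F)) : Prop :=
  ((∃ p : ℕ, p.Prime ∧ Fintype.card F = p ∧ (p % 4 = 3)) ∧ ∃ D : Fin 10 → Submodule F (ι → F),
    IsOrthogonalMDecomposition Q 1 D ∧ H = decompositionStabilizer D ⊓ omegaGL Q) ∨
  (Fintype.card F ≠ 3 ∧ ∃ D : Fin 5 → Submodule F (ι → F),
    IsOrthogonalMDecomposition Q 2 D ∧ H = decompositionStabilizer D ⊓ omegaGL Q) ∨
  (Fintype.card F % 4 = 3 ∧ ∃ D : Fin 2 → Submodule F (ι → F),
    IsOrthogonalMDecomposition Q 5 D ∧ H = decompositionStabilizer D ⊓ omegaGL Q) ∨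
  (Fintype.card F % 4 = 1 ∧ ∃ D : Fin 2 → Submodule F (ι → F),
    IsNondegenerateMDecomposition (QuadraticMap.polar Q) 5 D ∧ ¬ AreIsometricFor Q (D 0) (D 1) ∧
    H = decompositionStabilizer D ⊓ omegaGL Q) ∨
  (Odd (Fintype.card F) ∧ ∃ K : Subalgebra F (Matrix ι ι F), IsFieldSubalgebra 2 K ∧
    IsSelfAdjointFor (QuadraticMap.polar Q) K ∧ H = subalgebraNormalizer K ⊓ omegaGL Q) ∨
  (∃ K : Subalgebra F (Matrix ι ι F), IsFieldSubalgebra 2 K ∧ IsAdjointClosedFor (QuadraticMap.polar Q) K ∧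
    ¬ IsSelfAdjointFor (QuadraticMap.polar Q) K ∧
    (∀ k ∈ K, ∃ c : F, ∀ v : ι → F, Q (k *ᵥ v) = c * Q v) ∧ H = subalgebraNormalizer K ⊓ omegaGL Q) ∨
  (∃ (F₀ : Subfield F) (r : ℕ) (P : GL ι F) (ζ : F), r.Prime ∧ Odd r ∧ Fintype.card F = Nat.card F₀ ^ r ∧ ζ ≠ 0 ∧
    IsQuadFormRationalStructure (fun v => ζ * Q v) F₀ P ∧ H = subfieldSubgroup F₀ P ⊓ omegaGL Q) ∨
  InOrthogonalResidualClass H

/-- Either list, according to the type. -/
def TenMember (Q : (ι → F) → F) (H : Subgroup (GL ι F)) : Prop :=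
  (IsPlusTypeOn Q ⊤ → PlusTenMember Q H) ∧ (¬ IsPlusTypeOn Q ⊤ → MinusTenMember Q H)

variable {Q : (ι → F) → F} (hQ : IsNondegenerateQuadraticForm Q)
include hQ

local notation "B" => QuadraticMap.polar Q

/-- Two halves of dimension five. -/
theorem five_member (hodd : Odd (Fintype.card F)) (hn : Fintype.card ι = 10) {H : Subgroup (GL ι F)}
    (hH : IsMaximalIn (omegaGL Q) H) {D : Fin 2 → Submodule F (ι → F)} (hD : IsNondegenerateMDecomposition B 5 D)
    (hle : H ≤ decompositionStabilizer D) : TenMember Q H := by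
  have heq := eq_inf hH hle (not_le_decomposition hQ (two_ne_zero' hodd) hD (Or.inl (by omega)))
  have h1 : D 1 = perpQ hQ (D 0) := by
    refine Submodule.eq_of_le_of_finrank_le (fun v hv w hw => ?_) ?_
    · exact hD.orthogonal 1 0 (by decide) v hv w hw
    · have := finrank_add_perpQ (hQ := hQ) (hD.nondegenerate 0)
      rw [hD.decomp.finrank_eq] at this ⊢
      omega
  obtain ⟨e1, e2⟩ := five_pair hQ hodd hn (hD.nondegenerate 0) (hD.decomp.finrank_eq 0)
  rw [← h1] at e1 e2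
  obtain ⟨s1, s3⟩ := neg_one_square (F := F) hodd
  by_cases hiso : AreIsometricFor Q (D 0) (D 1)
  · have hO : IsOrthogonalMDecomposition Q 5 D := ⟨hD, fun i j => by
      obtain ⟨e, he⟩ := hiso
      fin_cases i <;> fin_cases j
      · exact ⟨LinearEquiv.refl F _, fun w => rfl⟩
      · exact ⟨e, he⟩
      · exact ⟨e.symm, fun w => (he (e.symm w)).symm.trans (by rw [LinearEquiv.apply_symm_apply])⟩
      · exact ⟨LinearEquiv.refl F _, fun w => rfl⟩⟩
    exact ⟨fun h => Or.inr (Or.inr (Or.inl ⟨s1 ((e1 hiso).mp h), D, hO, heq⟩)),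
      fun h => Or.inr (Or.inr (Or.inl ⟨s3 fun h' => h ((e1 hiso).mpr h'), D, hO, heq⟩))⟩
  · exact ⟨fun h => Or.inr (Or.inr (Or.inr (Or.inl ⟨s3 ((e2 hiso).mp h), D, hD, hiso, heq⟩))),
      fun h => Or.inr (Or.inr (Or.inr (Or.inl ⟨s1 (by_contra fun h' => h ((e2 hiso).mpr h')), D, hD, hiso, heq⟩)))⟩

/-- Lines. -/
theorem ten_lines (hodd : Odd (Fintype.card F)) (hn : Fintype.card ι = 10) {H : Subgroup (GL ι F)}
    (hH : IsMaximalIn (omegaGL Q) H) {D : Fin 10 → Submodule F (ι → F)} (hD : IsOrthogonalMDecomposition Q 1 D)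
    (hle : H ≤ decompositionStabilizer D) : TenMember Q H := by
  haveI : Nonempty ι := Fintype.card_pos_iff.mp (by omega)
  by_cases hp : (Fintype.card F).Prime
  · have heq := eq_inf hH hle (not_le_decomposition hQ (two_ne_zero' hodd) hD.decomp (Or.inl (by omega)))
    obtain ⟨s1, s3⟩ := neg_one_square (F := F) hodd
    have hiff := odd_members_type hQ hodd (m := 5) (by omega) odd_one hD
    rw [show (-1 : F) ^ 5 = -1 by ring] at hiff
    exact ⟨fun h => Or.inl ⟨⟨_, hp, rfl, s1 (hiff.mp h)⟩, D, hD, heq⟩,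
      fun h => Or.inl ⟨⟨_, hp, rfl, s3 fun h' => h (hiff.mpr h')⟩, D, hD, heq⟩⟩
  obtain ⟨F₀, r, P, ζ, hr, hq, hζ, hP, h⟩ := lines_subfield hQ hodd hD hH.1.le hle hp
  have heq := eq_inf hH h (not_le_subfield hQ (by omega) (subfield_ne_top hr hq) P)
  exact ⟨fun _ => Or.inr (Or.inr (Or.inr (Or.inr (Or.inr (Or.inl ⟨F₀, r, P, ζ, hr, hq, hζ, hP, heq⟩))))),
    fun hm => Or.inr (Or.inr (Or.inr (Or.inr (Or.inr (Or.inr (Or.inl
      ⟨F₀, r, P, ζ, hr, odd_index hQ (m := 5) (by omega) hm hr hq hζ hP, hq, hζ, hP, heq⟩))))))⟩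

theorem ten_odd (hodd : Odd (Fintype.card F)) (hn : Fintype.card ι = 10) {H : Subgroup (GL ι F)}
    (hH : IsMaximalIn (omegaGL Q) H) (hirr : Irred H) : TenMember Q H := by
  haveI : Nonempty ι := Fintype.card_pos_iff.mp (by omega)
  have hn' : Fintype.card ι = 2 * 5 := by omega
  have h2 := two_ne_zero' hodd
  have h5 : Odd 5 := by decide
  have hfield : ∀ h : PairOrField Q H, TenMember Q H := fun h => by
    obtain ⟨hm, K, hK, hc, hns, hsim, hle⟩ := pairOrField_minus hQ hn' h5 hH.1.le hirr h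
    exact ⟨fun hp => absurd hp hm, fun _ => Or.inr (Or.inr (Or.inr (Or.inr (Or.inr (Or.inl
      ⟨K, hK, hc, hns, hsim, eq_inf hH hle (not_le_field hQ (by omega) hK le_rfl)⟩)))))⟩
  rcases odd_irred hQ hodd hn' (Or.inr (Or.inl rfl)) hH.1.le hirr with ⟨t, k, D, ht, hk, htk, hD, hle⟩ | ⟨D, hD, hts, hle⟩ |
    ⟨r, K, hr, hdvd, hK, hs, hle⟩ | h | ⟨l, e, P, f₁, f₂, hl, hev, -⟩ | ⟨e, P, f₁, f₂, h12, -⟩ |
    ⟨F₀, r, P, ζ, hr, hq, hζ, hP, hle⟩ | ⟨h8, -⟩ | h
  · rw [hn] at htk
    have hk5 : k ≤ 5 := by nlinarith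
    interval_cases k
    · obtain rfl : t = 10 := by omega
      exact ten_lines hQ hodd hn hH hD hle
    · obtain rfl : t = 5 := by omega
      have hiff := (decomposition_type hQ (j := 1) hD 0).2 h5
      have hcast : Fintype.card ι = 10 := hn
      have hlist := eq_inf hH hle (not_le_decomposition hQ h2 hD.decomp (Or.inl (by omega)))
      by_cases hp : IsPlusTypeOn Q ⊤
      · refine ⟨fun _ => ?_, fun hm => absurd hp hm⟩
        have hall : ∀ i, IsPlusTypeOn Q (D i) := fun i => ((decomposition_type hQ (j := 1) hD i).2 h5).mp hp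
        have hqc : Fintype.card F = 3 ∨ Fintype.card F = 5 ∨ 7 ≤ Fintype.card F := by
          obtain ⟨a, ha⟩ := hodd
          have := Fintype.one_lt_card (α := F)
          omega
        rcases hqc with hq | hq | hq
        · choose u hu huniq using fun i => plus_plane_three hQ hq (hD.decomp.decomp.finrank_eq i)
            (hD.decomp.nondegenerate i) (hall i)
          exact absurd hirr (planes_reducible hQ hD.decomp.decomp hu huniq hH.1.le hle)
        · choose u hu ho huniq using fun i => plus_plane_five hQ hq (hD.decomp.decomp.finrank_eq i)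
            (hD.decomp.nondegenerate i) (hall i)
          obtain ⟨D', hD', hle'⟩ := planes_to_lines hQ hodd hD hu ho huniq hH.1.le hle
          revert D'
          rw [hn]
          intro D' hD' hle'
          exact (ten_lines hQ hodd hn hH hD' hle').1 hp
        · exact Or.inr (Or.inl ⟨hq, D, hD, hlist⟩)
      · refine ⟨fun h => absurd h hp, fun _ => ?_⟩
        by_cases hq : Fintype.card F = 3
        · choose u hu ho huniq using fun i => minus_plane_three hQ hq (hD.decomp.decomp.finrank_eq i)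
            (hD.decomp.nondegenerate i) (fun h => hp (((decomposition_type hQ (j := 1) hD i).2 h5).mpr h))
          obtain ⟨D', hD', hle'⟩ := planes_to_lines hQ hodd hD hu ho huniq hH.1.le hle
          revert D'
          rw [hn]
          intro D' hD' hle'
          exact (ten_lines hQ hodd hn hH hD' hle').2 hp
        · exact Or.inr (Or.inl ⟨hq, D, hD, hlist⟩)
    · omega
    · omega
    · obtain rfl : t = 2 := by omega
      exact five_member hQ hodd hn hH hD.decomp hle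
  · exact absurd hirr (pair_reducible hQ hn' h5 hD hts hH.1.le hle)
  · rw [hn] at hdvd
    rcases (Nat.Prime.dvd_mul hr).mp (show r ∣ 2 * 5 from hdvd) with h | h
    · obtain rfl := (Nat.prime_dvd_prime_iff_eq hr Nat.prime_two).mp h
      have heq := eq_inf hH hle (not_le_field hQ (by omega) hK le_rfl)
      exact ⟨fun _ => Or.inr (Or.inr (Or.inr (Or.inr (Or.inl ⟨hodd, K, hK, hs, heq⟩)))),
        fun _ => Or.inr (Or.inr (Or.inr (Or.inr (Or.inl ⟨hodd, K, hK, hs, heq⟩))))⟩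
    · obtain rfl := (Nat.prime_dvd_prime_iff_eq hr (by norm_num)).mp h
      exact hfield (of_field_half hQ hodd hn' h5 hK hs (fun g hg => mem_Isom hQ hodd (hH.1.le hg)) hle)
  · exact hfield h
  · obtain ⟨a, ha⟩ := hev
    omega
  · omega
  · have heq := eq_inf hH hle (not_le_subfield hQ (by omega) (subfield_ne_top hr hq) P)
    exact ⟨fun _ => Or.inr (Or.inr (Or.inr (Or.inr (Or.inr (Or.inl ⟨F₀, r, P, ζ, hr, hq, hζ, hP, heq⟩))))),
      fun hm => Or.inr (Or.inr (Or.inr (Or.inr (Or.inr (Or.inr (Or.inl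
        ⟨F₀, r, P, ζ, hr, odd_index hQ hn' hm hr hq hζ hP, hq, hζ, hP, heq⟩))))))⟩
  · omega
  · exact ⟨fun _ => Or.inr (Or.inr (Or.inr (Or.inr (Or.inr (Or.inr h))))),
      fun _ => Or.inr (Or.inr (Or.inr (Or.inr (Or.inr (Or.inr (Or.inr h))))))⟩

end Cfsg.Agent.Lib.AschbacherEvenDim
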