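import Cfsg.Agent.Lib.AschbacherEvenDim.EvenMain
import Cfsg.Agent.Lib.AschbacherEvenDim.EvenDecomp
import Cfsg.Agent.Lib.AschbacherEvenDim.EvenField
import Cfsg.Agent.Lib.AschbacherEvenDim.OddTen

/-!
`Ω₁₀(q)`, `q` even, both types: the irreducible subgroups.
-/

set_option autoImplicit false
set_option linter.unusedSectionVars false

namespace Cfsg.Agent.Lib.AschbacherEvenDim

open Cfsg.Geo Module QuadraticMap
open Cfsg.Agent.Lib.PrimeDim.Basic Cfsg.Agent.Lib.Aschbacher
open Cfsg.Agent.Lib.AschbacherSp (eq_inf two_eq_zero)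
open scoped Matrix MatrixGroups

variable {ι : Type} [Fintype ι] [DecidableEq ι] {F : Type*} [Field F] [Fintype F] {Q : (ι → F) → F}

theorem even_card_cases {F : Type*} [Fintype F] [Nontrivial F] (h : ¬ Odd (Fintype.card F)) :
    Fintype.card F = 2 ∨ Fintype.card F = 4 ∨ 6 ≤ Fintype.card F := by
  have := Fintype.one_lt_card (α := F)
  obtain ⟨a, ha⟩ := Nat.not_odd_iff_even.mp h
  omega

theorem card_ne_six {F : Type*} [Field F] [Fintype F] : Fintype.card F ≠ 6 := by
  intro h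
  obtain ⟨p, hp⟩ := CharP.exists F
  obtain ⟨n, hpr, hF⟩ := FiniteField.card F p
  rw [h] at hF
  have h2 := (Nat.prime_dvd_prime_iff_eq Nat.prime_two hpr).mp
    (Nat.prime_two.dvd_of_dvd_pow (show 2 ∣ p ^ (n : ℕ) by rw [← hF]; norm_num))
  have h3 := (Nat.prime_dvd_prime_iff_eq Nat.prime_three hpr).mp
    (Nat.prime_three.dvd_of_dvd_pow (show 3 ∣ p ^ (n : ℕ) by rw [← hF]; norm_num))
  omega

theorem ten_even (hQ : IsNondegenerateQuadraticForm Q) (heven : ¬ Odd (Fintype.card F))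
    (hn : Fintype.card ι = 10) {H : Subgroup (GL ι F)} (hH : IsMaximalIn (omegaGL Q) H) (hirr : Irred H) :
    TenMember Q H := by
  haveI : Nonempty ι := Fintype.card_pos_iff.mp (by omega)
  have hn' : Fintype.card ι = 2 * 5 := by omega
  have h2 := two_eq_zero heven
  have h5 : Odd 5 := by decide
  have hfield : ∀ h : PairOrField Q H, TenMember Q H := fun h => by
    obtain ⟨hm, K, hK, hc, hns, hsim, hle⟩ := pairOrField_minus hQ hn' h5 hH.1.le hirr h
    exact ⟨fun hp => absurd hp hm, fun _ => Or.inr (Or.inr (Or.inr (Or.inr (Or.inr (Or.inl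
      ⟨K, hK, hc, hns, hsim, eq_inf hH hle (not_le_field hQ (by omega) hK le_rfl)⟩)))))⟩
  have hsub : ∀ {F₀ : Subfield F} {r : ℕ} {P : GL ι F} {ζ : F}, r.Prime → Fintype.card F = Nat.card F₀ ^ r → ζ ≠ 0 →
      IsQuadFormRationalStructure (fun v => ζ * Q v) F₀ P → H ≤ subfieldSubgroup F₀ P → TenMember Q H :=
    fun {F₀ r P ζ} hr hq hζ hP hle => by
      have heq := eq_inf hH hle (not_le_subfield hQ (by omega) (Cfsg.Agent.Lib.AschbacherSp.subfield_ne_top hr hq) P)
      exact ⟨fun _ => Or.inr (Or.inr (Or.inr (Or.inr (Or.inr (Or.inl ⟨F₀, r, P, ζ, hr, hq, hζ, hP, heq⟩))))),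
        fun hm => Or.inr (Or.inr (Or.inr (Or.inr (Or.inr (Or.inr (Or.inl
          ⟨F₀, r, P, ζ, hr, odd_index hQ hn' hm hr hq hζ hP, hq, hζ, hP, heq⟩))))))⟩
  rcases even_irred hQ heven hn' (Or.inr (Or.inl rfl)) hH.1.le hirr with ⟨t, k, D, ⟨j, hj⟩, hD, hle⟩ |
    ⟨r, K, hr, hdvd, hK, hs, h0, hle⟩ | h | ⟨l, hl, hev, -⟩ | ⟨F₀, r, P, ζ, hr, hq, hζ, hP, hle⟩ | ⟨h8, -⟩ | h
  · have htk := Cfsg.Agent.Lib.Subspaces.Decomposition.card_eq hD.decomp.decomp
    rw [hn] at htk
    have ht := hD.decomp.decomp.two_le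
    obtain rfl : k = 2 * j := by omega
    obtain rfl : j = 1 := by
      have hj5 : j ≤ 5 := by nlinarith
      interval_cases j <;> omega
    obtain rfl : t = 5 := by omega
    have hlist := eq_inf hH hle (not_le_decomp_two hQ (by omega) h2 le_rfl hD)
    by_cases hp : IsPlusTypeOn Q ⊤
    · refine ⟨fun _ => ?_, fun hm => absurd hp hm⟩
      have hall : ∀ i, IsPlusTypeOn Q (D i) := fun i => ((decomposition_type hQ (j := 1) hD i).2 h5).mp hp
      rcases even_card_cases heven with hq | hq | hq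
      · exact absurd hirr (planes_two_reducible hQ hq hD.decomp hall hH.1.le hle)
      · obtain ⟨F₀, r, P, ζ, hr, hq', hζ, hP, h⟩ := planes_four_subfield hQ hq hD.decomp hall hH.1.le hle
        exact (hsub hr hq' hζ hP h).1 hp
      · refine Or.inr (Or.inl ⟨?_, D, hD, hlist⟩)
        have := card_ne_six (F := F)
        omega
    · refine ⟨fun h => absurd h hp, fun _ => Or.inr (Or.inl ⟨?_, D, hD, hlist⟩)⟩
      intro hq
      exact heven (by rw [hq]; decide)
  · rw [hn] at hdvd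
    rcases (Nat.Prime.dvd_mul hr).mp (show r ∣ 2 * 5 from hdvd) with h | h
    · obtain rfl := (Nat.prime_dvd_prime_iff_eq hr Nat.prime_two).mp h
      have := two_mul_degree_dvd hQ hK hs h0
      omega
    · obtain rfl := (Nat.prime_dvd_prime_iff_eq hr (by norm_num)).mp h
      exact hfield (of_field_half_even hQ heven h5 hn' hK hs h0 hH.1.le hle)
  · exact hfield h
  · obtain ⟨a, ha⟩ := hev
    omega
  · exact hsub hr hq hζ hP hle
  · omega
  · exact ⟨fun _ => Or.inr (Or.inr (Or.inr (Or.inr (Or.inr (Or.inr h))))),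
      fun _ => Or.inr (Or.inr (Or.inr (Or.inr (Or.inr (Or.inr (Or.inr h))))))⟩

end Cfsg.Agent.Lib.AschbacherEvenDim
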