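import Cfsg.Agent.Lib.AschbacherEvenDim.Proper
import Cfsg.Agent.Lib.AschbacherSp.Cases

/-!
`Ω` preserves no tensor decomposition: a singular pure tensor and a singular tensor that is not pure.
-/

set_option autoImplicit false
set_option linter.unusedSectionVars false

namespace Cfsg.Agent.Lib.AschbacherEvenDim

open Cfsg.Geo Module QuadraticMap Cfsg.Agent.Lib.Subspaces.OrthForm
open Cfsg.Agent.Lib.PrimeDim.Basic Cfsg.Agent.Lib.Aschbacher
open Cfsg.Agent.Lib.AschbacherSp (pt kron_mulVec_pt gramForm_pt gramForm_in gramIn gramForm_gramMatrix)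
open Cfsg.Agent.Lib.AschbacherOrth (omega_map)
open scoped Matrix MatrixGroups Kronecker

variable {ι : Type} [Fintype ι] [DecidableEq ι] {F : Type*} [Field F] [Fintype F] {Q : (ι → F) → F}

local notation "B" => QuadraticMap.polar Q

omit [Fintype F] [DecidableEq ι] [Fintype ι] in
theorem exists_indep_kernel {d : ℕ} (hd : 3 ≤ d) (L : (Fin d → F) →ₗ[F] F) {x₀ : Fin d → F} (hx : x₀ ≠ 0) :
    ∃ x, L x = 0 ∧ LinearIndependent F ![x₀, x] := by
  have hker : d - 1 ≤ finrank F (LinearMap.ker L) := by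
    have h1 := LinearMap.finrank_range_add_finrank_ker L
    have h2 := Submodule.finrank_le (LinearMap.range L)
    rw [Module.finrank_self] at h2
    rw [Module.finrank_fin_fun] at h1
    omega
  obtain ⟨x, hxk, hxs⟩ : ∃ x ∈ LinearMap.ker L, x ∉ Submodule.span F {x₀} := by
    by_contra! h
    have h3 := Submodule.finrank_mono (show LinearMap.ker L ≤ Submodule.span F {x₀} from h)
    rw [finrank_span_singleton hx] at h3
    omega
  refine ⟨x, LinearMap.mem_ker.mp hxk, ?_⟩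
  rw [linearIndependent_fin2]
  refine ⟨fun h => hxs (by simp at h; rw [h]; exact zero_mem _), fun a ha => hxs ?_⟩
  simp only [Matrix.cons_val_one, Matrix.cons_val_fin_one, Matrix.cons_val_zero] at ha
  have ha0 : a ≠ 0 := fun h => hx (by rw [← ha, h, zero_smul])
  exact Submodule.mem_span_singleton.mpr ⟨a⁻¹, by rw [← ha, inv_smul_smul₀ ha0]⟩

omit [Fintype F] [DecidableEq ι] [Fintype ι] in
/-- A sum of two independent pure tensors is not pure. -/
theorem not_pure {m l : ℕ} {x₁ x₂ : Fin m → F} {w₁ w₂ : Fin l → F} (hx : LinearIndependent F ![x₁, x₂])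
    (hw : LinearIndependent F ![w₁, w₂]) (a : Fin m → F) (b : Fin l → F) : pt x₁ w₁ + pt x₂ w₂ ≠ pt a b := by
  intro h
  have hrow : ∀ i, x₁ i • w₁ + x₂ i • w₂ = a i • b := fun i => by
    funext j
    simpa [pt] using congrFun h (i, j)
  have hcross : ∀ i i', a i' * x₁ i = a i * x₁ i' ∧ a i' * x₂ i = a i * x₂ i' := fun i i' => by
    have h1 : (a i' * x₁ i - a i * x₁ i') • w₁ + (a i' * x₂ i - a i * x₂ i') • w₂ = 0 := by
      linear_combination (norm := module) (a i') • hrow i - (a i) • hrow i'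
    exact ⟨sub_eq_zero.mp (LinearIndependent.pair_iff.mp hw _ _ h1).1,
      sub_eq_zero.mp (LinearIndependent.pair_iff.mp hw _ _ h1).2⟩
  by_cases ha : a = 0
  · have h0 : ∀ i, x₁ i = 0 := fun i => (LinearIndependent.pair_iff.mp hw _ _
      ((hrow i).trans (by rw [ha, Pi.zero_apply, zero_smul]))).1
    exact hx.ne_zero 0 (funext h0)
  obtain ⟨i₀, hi₀'⟩ := Function.ne_iff.mp ha
  have hi₀ : a i₀ ≠ 0 := hi₀'
  have key : ∀ (x : Fin m → F), (∀ i, a i₀ * x i = a i * x i₀) → x = (x i₀ / a i₀) • a := fun x hc => by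
    funext i
    rw [Pi.smul_apply, smul_eq_mul]
    field_simp
    linear_combination hc i
  have e1 := key x₁ (fun i => (hcross i i₀).1)
  have e2 := key x₂ (fun i => (hcross i i₀).2)
  by_cases h1 : x₁ i₀ = 0
  · exact hx.ne_zero 0 (by rw [h1, zero_div, zero_smul] at e1; exact e1)
  have := LinearIndependent.pair_iff.mp hx (x₂ i₀ / a i₀) (-(x₁ i₀ / a i₀)) (by
    rw [e1, e2]
    simp only [Pi.smul_apply, smul_eq_mul, smul_smul]
    rw [← add_smul]
    convert zero_smul F a using 2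
    field_simp
    ring)
  exact div_ne_zero h1 hi₀ (neg_eq_zero.mp this.2)

/-- The polar form on pure tensors. -/
theorem tensor_value {m l : ℕ} {e : ι ≃ Fin m × Fin l} {P : GL ι F} {f₁ : (Fin m → F) → (Fin m → F) → F}
    {f₂ : (Fin l → F) → (Fin l → F) → F} (h1 : IsBilinearForm f₁) (h2 : IsBilinearForm f₂)
    (hf : IsTensorFormStructure id B f₁ f₂ e P) :
    ∃ c : F, c ≠ 0 ∧ ∀ x x' w w', B ((P : Matrix ι ι F) *ᵥ (pt x w ∘ e)) ((P : Matrix ι ι F) *ᵥ (pt x' w' ∘ e)) =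
      c * (f₁ x x' * f₂ w w') := by
  obtain ⟨c, hc, hf⟩ := hf
  refine ⟨c, hc, fun x x' w w' => ?_⟩
  rw [hf]
  congr 1
  have e1 := gramForm_pt (gramMatrix f₁) (gramMatrix f₂) x x' w w'
  rw [gramForm_gramMatrix h1, gramForm_gramMatrix h2] at e1
  rw [← e1]
  simp [formOfGram, gramForm, dotProduct, Matrix.mulVec, Finset.mul_sum, mul_assoc]

variable (hQ : IsNondegenerateQuadraticForm Q)
include hQ

/-- `Ω` does not preserve a tensor decomposition. -/
theorem not_le_tensor (h7 : 7 ≤ Fintype.card ι) {m l : ℕ} {e : ι ≃ Fin m × Fin l} {P : GL ι F}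
    {x₀ x₁ x₂ : Fin m → F} {w₀ w₁ w₂ : Fin l → F} (hx₀ : x₀ ≠ 0) (hw₀ : w₀ ≠ 0)
    (h0 : Q ((P : Matrix ι ι F) *ᵥ (pt x₀ w₀ ∘ e)) = 0) (hx : LinearIndependent F ![x₁, x₂])
    (hw : LinearIndependent F ![w₁, w₂])
    (hz : Q ((P : Matrix ι ι F) *ᵥ (pt x₁ w₁ ∘ e) + (P : Matrix ι ι F) *ᵥ (pt x₂ w₂ ∘ e)) = 0) :
    ¬ omegaGL Q ≤ tensorProductSubgroup m l e P := by
  intro hle
  have hback : ∀ u u' : Fin m × Fin l → F,
      (P : Matrix ι ι F) *ᵥ (u ∘ e) = (P : Matrix ι ι F) *ᵥ (u' ∘ e) → u = u' := fun u u' h => by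
    rw [← Cfsg.Agent.Lib.AschbacherSp.toX_mk e P u, h, Cfsg.Agent.Lib.AschbacherSp.toX_mk]
  rw [← Matrix.mulVec_add, show pt x₁ w₁ ∘ e + pt x₂ w₂ ∘ e = (pt x₁ w₁ + pt x₂ w₂) ∘ e from rfl] at hz
  have hne : (P : Matrix ι ι F) *ᵥ (pt x₀ w₀ ∘ e) ≠ 0 := fun h => by
    obtain ⟨i, hi⟩ := Function.ne_iff.mp hx₀
    obtain ⟨j, hj⟩ := Function.ne_iff.mp hw₀
    have h1 := hback (pt x₀ w₀) 0 (h.trans (by rw [Pi.zero_comp, Matrix.mulVec_zero]))
    exact mul_ne_zero hi hj (congrFun h1 (i, j))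
  have hne' : (P : Matrix ι ι F) *ᵥ ((pt x₁ w₁ + pt x₂ w₂) ∘ e) ≠ 0 := fun h => by
    have h1 := hback _ 0 (h.trans (by rw [Pi.zero_comp, Matrix.mulVec_zero]))
    exact not_pure hx hw 0 0 (h1.trans (by funext p; simp [pt]))
  obtain ⟨g, hg, hgv⟩ := omega_map hQ (by omega) hne hne' (h0.trans hz.symm)
  obtain ⟨_, ⟨g₀, ⟨A, X, hAX⟩, rfl⟩, rfl⟩ := hle hg
  have himg : ((coordGL e P g₀ : GL ι F) : Matrix ι ι F) *ᵥ ((P : Matrix ι ι F) *ᵥ (pt x₀ w₀ ∘ e)) =
      (P : Matrix ι ι F) *ᵥ (pt ((A : Matrix (Fin m) (Fin m) F) *ᵥ x₀) ((X : Matrix (Fin l) (Fin l) F) *ᵥ w₀) ∘ e) := by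
    rw [← Cfsg.Agent.Lib.AschbacherSp.mk_toX e P ((coordGL e P g₀ : Matrix ι ι F) *ᵥ _), coordGL_val,
      Cfsg.Agent.Lib.AschbacherSp.toX_coord, Cfsg.Agent.Lib.AschbacherSp.toX_mk, hAX, kron_mulVec_pt]
  exact not_pure hx hw _ _ (hback _ _ (hgv.symm.trans himg))

/-- The case of two alternating factors with the form vanishing on pure tensors. -/
theorem not_le_tensor_symp (h7 : 7 ≤ Fintype.card ι) {l : ℕ} (hl : 3 ≤ l) {e : ι ≃ Fin 2 × Fin l} {P : GL ι F}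
    {f₁ : (Fin 2 → F) → (Fin 2 → F) → F} {f₂ : (Fin l → F) → (Fin l → F) → F} (h1 : IsSymplecticForm f₁)
    (h2 : IsSymplecticForm f₂) (hf : IsTensorFormStructure id B f₁ f₂ e P)
    (hpure : ∀ x w, Q ((P : Matrix ι ι F) *ᵥ (pt x w ∘ e)) = 0) :
    ¬ omegaGL Q ≤ tensorProductSubgroup 2 l e P := by
  obtain ⟨c, -, hv⟩ := tensor_value h1.bilinear h2.bilinear hf
  let w₁ : Fin l → F := Pi.single ⟨0, by omega⟩ 1
  have hw₁ : w₁ ≠ 0 := fun h => one_ne_zero (α := F) (by simpa [w₁] using congrFun h ⟨0, by omega⟩)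
  let L : (Fin l → F) →ₗ[F] F :=
    { toFun := f₂ w₁, map_add' := fun x y => h2.bilinear.add_right _ x y
      map_smul' := fun a x => h2.bilinear.smul_right a _ x }
  obtain ⟨w₂, hw₂, hli⟩ := exists_indep_kernel hl L hw₁
  have hx₁ : (Pi.single 0 1 : Fin 2 → F) ≠ 0 := fun h => one_ne_zero (α := F) (by simpa using congrFun h 0)
  refine not_le_tensor hQ h7 (x₀ := Pi.single 0 1) (w₀ := w₁) (x₁ := Pi.single 0 1) (x₂ := Pi.single 1 1) hx₁ hw₁
    (hpure _ _) ?_ hli ?_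
  · rw [linearIndependent_fin2]
    exact ⟨fun h => one_ne_zero (α := F) (by simpa using congrFun h 1), fun a ha => by simpa using congrFun ha 0⟩
  · rw [Q_add (Q := Q), hpure, hpure, hv, show f₂ w₁ w₂ = 0 from hw₂]
    ring

end Cfsg.Agent.Lib.AschbacherEvenDim
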