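import Cfsg.Agent.Lib.AschbacherEvenDim.EvenCentre
import Cfsg.Agent.Lib.AschbacherEvenDim.TensorProper

/-!
Characteristic two: tensor decompositions.
-/

set_option autoImplicit false
set_option linter.unusedSectionVars false
set_option linter.style.haveILetI false

namespace Cfsg.Agent.Lib.AschbacherEvenDim

open Cfsg.Geo Module QuadraticMap Cfsg.Agent.Lib.Subspaces.OrthForm
open Cfsg.Agent.Lib.PrimeDim.Basic Cfsg.Agent.Lib.Aschbacher
open Cfsg.Agent.Lib.AschbacherOrth (gram_eq)
open Cfsg.Agent.Lib.AschbacherSp (Alt Isom mem_isom two_eq_zero gramIn gramForm_in gramForm_toX toX toX_mk mk_toX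
  toX_coord toX_add toX_smul adj adj_mem_algOf adj_coord le_tensorCoords exists_factor alternating_factor
  gramIn_swap factors_of_mem upper upper_add gramForm_kronecker pt kron_mulVec_pt gramForm_pt gramMatrix_gramForm
  tens_single)
open scoped Matrix MatrixGroups Kronecker

variable {ι : Type} [Fintype ι] [DecidableEq ι] {F : Type*} [Field F] [Fintype F] {Q : (ι → F) → F}
  (hQ : IsNondegenerateQuadraticForm Q)
include hQ

local notation "B" => QuadraticMap.polar Q
local notation "G" => gramMatrix (QuadraticMap.polar Q)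

/-- A tensor decomposition into alternating forms with `Q` zero on pure tensors. -/
def TensorData (Q : (ι → F) → F) (H : Subgroup (GL ι F)) (m l : ℕ) : Prop :=
  ∃ (e : ι ≃ Fin m × Fin l) (P : GL ι F) (f₁ : (Fin m → F) → (Fin m → F) → F)
    (f₂ : (Fin l → F) → (Fin l → F) → F), IsSymplecticForm f₁ ∧ IsSymplecticForm f₂ ∧
    IsTensorFormStructure id (QuadraticMap.polar Q) f₁ f₂ e P ∧
    (∀ x w, Q ((P : Matrix ι ι F) *ᵥ (pt x w ∘ e)) = 0) ∧ H ≤ tensorProductSubgroup m l e P

omit hQ in
theorem span_pt {m l : ℕ} :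
    Submodule.span F (Set.range fun yz : (Fin m → F) × (Fin l → F) => pt yz.1 yz.2) = ⊤ := by
  rw [eq_top_iff]
  intro x _
  have hx : x = ∑ p, x p • pt (Pi.single p.1 1 : Fin m → F) (Pi.single p.2 1 : Fin l → F) := by
    funext r
    rw [Finset.sum_apply, Finset.sum_eq_single r (fun p _ hp => ?_) (fun hr => absurd (Finset.mem_univ r) hr)]
    · simp [pt]
    · obtain ⟨p1, p2⟩ := p
      obtain ⟨r1, r2⟩ := r
      by_cases e : r1 = p1
      · subst e
        have : r2 ≠ p2 := fun e2 => hp (by rw [e2])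
        simp [pt, Pi.single_eq_of_ne this]
      · simp [pt, Pi.single_eq_of_ne e]
  rw [hx]
  exact sum_mem fun p _ => Submodule.smul_mem _ _ (Submodule.subset_span ⟨(Pi.single p.1 1, Pi.single p.2 1), rfl⟩)

/-- An irreducible subgroup of `Ω` permuting a spanning set on which a form with the polar of `Q` vanishes. -/
theorem vanishing (heven : ¬ Odd (Fintype.card F)) (h2ι : 2 ≤ Fintype.card ι) {H : Subgroup (GL ι F)}
    (hH : H ≤ omegaGL Q) (hirr : Irred H) {X : Type} [Fintype X] [DecidableEq X] (ε : ι ≃ X) (P : GL ι F)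
    {U : Matrix X X F} (hU : U + Uᵀ = gramIn G ε P) {S : Set (X → F)}
    (hS : Submodule.span F S = ⊤) (h0 : ∀ s ∈ S, gramForm U s s = 0)
    (hmap : ∀ h ∈ H, ∀ s ∈ S, (((coordGL ε P).symm h : GL X F) : Matrix X X F) *ᵥ s ∈ S) :
    ∀ s ∈ S, Q ((P : Matrix ι ι F) *ᵥ (s ∘ ε)) = 0 := by
  have hb := gramForm_bilinear U
  let Q' : (ι → F) → F := fun v => gramForm U (toX ε P v) (toX ε P v)
  have hpol : ∀ u v, QuadraticMap.polar Q' u v = B u v := fun u v => by
    have h1 : gramForm G u v = B u v := by rw [gram_eq hQ]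
    rw [← h1, gramForm_toX G ε P, ← hU]
    simp only [QuadraticMap.polar, Q', toX_add, hb.add_left, hb.add_right]
    rw [show ∀ a b, gramForm (U + Uᵀ) a b = gramForm U a b + gramForm U b a from fun a b => by
      rw [gramForm_flip U b a]; simp [gramForm, Matrix.add_mulVec]]
    ring
  have hQs : ∀ (c : F) w, Q' (c • w) = c ^ 2 * Q' w := fun c w => by
    simp only [Q', toX_smul, hb.smul_left, hb.smul_right]; ring
  have hfix : ∀ h ∈ H, ∀ v, Q' ((h : Matrix ι ι F) *ᵥ v) = Q' v := by
    intro h hh v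
    set T := (((coordGL ε P).symm h : GL X F) : Matrix X X F) with hT
    have hTv : ∀ w, toX ε P ((h : Matrix ι ι F) *ᵥ w) = T *ᵥ toX ε P w := fun w => by
      rw [hT, ← toX_coord, ← coordGL_val, MulEquiv.apply_symm_apply]
    let D : (ι → F) → F := fun w => Q' ((h : Matrix ι ι F) *ᵥ w) - Q' w
    have hDadd : ∀ a b, D (a + b) = D a + D b := fun a b => by
      have e1 := hpol ((h : Matrix ι ι F) *ᵥ a) ((h : Matrix ι ι F) *ᵥ b)
      rw [B_map (Cfsg.Agent.Lib.Subspaces.OmegaGL.omega_isometry hQ (hH hh)), ← hpol a b] at e1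
      simp only [QuadraticMap.polar, ← Matrix.mulVec_add] at e1
      simp only [D]
      linear_combination e1
    let K : Submodule F (X → F) :=
      { carrier := {x | D ((P : Matrix ι ι F) *ᵥ (x ∘ ε)) = 0}
        add_mem' := fun {a b} ha hb' => by
          simp only [Set.mem_ofPred_eq] at *
          rw [show (a + b) ∘ ε = a ∘ ε + b ∘ ε from rfl, Matrix.mulVec_add, hDadd, ha, hb', add_zero]
        zero_mem' := by
          simp only [Set.mem_ofPred_eq]
          rw [show (0 : X → F) ∘ ε = 0 from rfl, Matrix.mulVec_zero]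
          simp [D]
        smul_mem' := fun c x hx => by
          simp only [Set.mem_ofPred_eq] at *
          rw [show (c • x) ∘ ε = c • (x ∘ ε) from rfl, Matrix.mulVec_smul]
          simp only [D, Matrix.mulVec_smul, hQs] at hx ⊢
          linear_combination c ^ 2 * hx }
    have hK : K = ⊤ := by
      rw [eq_top_iff, ← hS, Submodule.span_le]
      intro s hs
      show Q' _ - Q' _ = 0
      simp only [Q', hTv, toX_mk, h0 _ hs]
      rw [h0 _ (hmap h hh s hs), sub_zero]
    have := (hK ▸ Submodule.mem_top : toX ε P v ∈ K)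
    change D _ = 0 at this
    rw [mk_toX] at this
    exact sub_eq_zero.mp this
  intro s hs
  rw [← congrFun (eq_of_fixed hQ heven h2ι hH hirr hQs hpol hfix) _]
  simp only [Q', toX_mk, h0 s hs]

/-- An irreducible subgroup of `Ω` normalising an adjoint-closed matrix subalgebra. -/
theorem tensor_units [Nonempty ι] (heven : ¬ Odd (Fintype.card F)) (h2ι : 2 ≤ Fintype.card ι)
    {M : Subgroup (GL ι F)} (hM : M ≤ omegaGL Q) (hirr : Irred M) {m : ℕ} (hm : 2 ≤ m)
    {e : Fin m → Fin m → Matrix ι ι F} (he : IsUnitSys e)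
    (hnorm : ∀ g ∈ M, ∀ a c, (g : Matrix ι ι F) * e a c * ((g⁻¹ : GL ι F) : Matrix ι ι F) ∈ unitSpan e)
    (hadj : ∀ X ∈ unitSpan e, adj G X ∈ unitSpan e) :
    (∀ X, X ∈ unitSpan e) ∨ ∃ l, 2 ≤ l ∧ m * l = Fintype.card ι ∧ TensorData Q M m l := by
  classical
  have hG : Alt G := alt_gram hQ heven
  have hMI : M ≤ Isom G := fun g hg => mem_Isom_gram hQ (hM hg)
  obtain ⟨l, ε, P, hl, hle, h1, hiff⟩ := le_tensorCoords (H := M) (by omega : 0 < m) he hnorm
  by_cases hl1 : l = 1
  · exact Or.inl (h1 hl1)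
  obtain ⟨G₁, C, s, hfac, hd1, hd2, hs, hs1, hs2⟩ := exists_factor hG ε P fun A => by
    obtain ⟨A', hA'⟩ := (hiff _).mp (hadj _ ((hiff _).mpr ⟨A, rfl⟩))
    exact ⟨A', hA'.symm⟩
  have hneg : (-1 : F) = 1 := by linear_combination (-1 : F) * two_eq_zero heven
  have hs1' : G₁ᵀ = G₁ := by rcases hs with hs | hs <;> rw [hs1, hs] <;> simp [hneg]
  have hs2' : Cᵀ = C := by rcases hs with hs | hs <;> rw [hs2, hs] <;> simp [hneg]
  have ha1 := alternating_factor heven hirr hMI hm hle hfac hd1 hd2 hs1'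
  have ha2 := alternating_factor heven hirr hMI (by omega) (hle.trans (tensorProduct_swap ε P))
    (gramIn_swap ε P hfac) hd2 hd1 hs2'
  have hk : ∀ {d : ℕ} (A : Matrix (Fin d) (Fin d) F), Aᵀ = A → Aᵀ = -A := fun A hA => by
    rw [hA]; ext a b
    rw [Matrix.neg_apply]; linear_combination A a b * two_eq_zero heven
  have hS1 := isSymplectic_gram (hk _ hs1') (gramForm_self_eq_zero (hk _ hs1') ha1) hd1
  have hS2 := isSymplectic_gram (hk _ hs2') (gramForm_self_eq_zero (hk _ hs2') ha2) hd2
  refine Or.inr ⟨l, by omega, by simp [Fintype.card_congr ε], ε, P, gramForm G₁, gramForm C, hS1, hS2,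
    ⟨1, one_ne_zero, fun x y => ?_⟩, fun x w => ?_, hle⟩
  · have h1 : ∀ u v, gramForm G u v = B u v := fun u v => by rw [gram_eq hQ]
    rw [← h1, gramForm_in, hfac, gramMatrix_gramForm, gramMatrix_gramForm, one_mul]
    simp [formOfGram, gramForm, dotProduct, Matrix.mulVec, Finset.mul_sum, mul_assoc]
  refine vanishing hQ heven h2ι hM hirr ε P (U := upper G₁ ⊗ₖ C) ?_ span_pt ?_ ?_ _ ⟨(x, w), rfl⟩
  · have hT : (upper G₁ ⊗ₖ C)ᵀ = (upper G₁)ᵀ ⊗ₖ C := by
      ext ⟨a, u⟩ ⟨b, v⟩
      simp only [Matrix.transpose_apply, Matrix.kroneckerMap_apply]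
      rw [show C v u = C u v from congrFun (congrFun hs2' u) v]
    rw [hT, hfac, ← Matrix.add_kronecker, upper_add hs1' ha1]
  · rintro _ ⟨⟨y, z⟩, rfl⟩
    rw [gramForm_pt, hS2.alternating, mul_zero]
  · rintro g hg _ ⟨⟨y, z⟩, rfl⟩
    obtain ⟨A, D, c, -, hgv, -, -⟩ := factors_of_mem hfac hd1 hd2 (hle hg) (hMI hg)
    refine ⟨((A : Matrix (Fin m) (Fin m) F) *ᵥ y, (D : Matrix (Fin l) (Fin l) F) *ᵥ z), ?_⟩
    rw [hgv, kron_mulVec_pt]

/-- Pure tensors on one vector form a totally singular subspace; two rows make it a half. -/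
theorem plus_of_pure {l : ℕ} {e : ι ≃ Fin 2 × Fin l} {P : GL ι F}
    (hpure : ∀ x w, Q ((P : Matrix ι ι F) *ᵥ (pt x w ∘ e)) = 0) : IsPlusTypeOn Q ⊤ := by
  let x₀ : Fin 2 → F := Pi.single 0 1
  let φ : (Fin l → F) →ₗ[F] (ι → F) :=
    { toFun := fun w => (P : Matrix ι ι F) *ᵥ (pt x₀ w ∘ e)
      map_add' := fun a b => by
        rw [← Matrix.mulVec_add]
        congr 1
        funext i
        simp [pt, mul_add]
      map_smul' := fun c a => by
        rw [RingHom.id_apply, ← Matrix.mulVec_smul]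
        congr 1
        funext i
        simp [pt]
        ring }
  have hinj : Function.Injective φ := fun a b hab => by
    funext u
    have h := congrFun (congrArg (toX e P) hab) (0, u)
    simp only [φ, LinearMap.coe_mk, AddHom.coe_mk, toX_mk] at h
    simpa [pt, x₀] using h
  refine plus_of_ts (U := LinearMap.range φ) (fun v hv => ?_) ?_
  · obtain ⟨w, rfl⟩ := hv
    exact hpure _ w
  · rw [LinearMap.finrank_range_of_inj hinj, Module.finrank_fintype_fun_eq_card, Fintype.card_fin,
      Fintype.card_congr e, Fintype.card_prod, Fintype.card_fin, Fintype.card_fin]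

/-- A tensor power of planes in dimension eight means plus type. -/
theorem plus_of_wreath [Nonempty ι] (heven : ¬ Odd (Fintype.card F)) {N : Subgroup (GL ι F)} (hN : N ≤ omegaGL Q)
    {ε : ι ≃ (Fin 3 → Fin 2)} {P : GL ι F} {T : Fin 3 → Subgroup (GL ι F)} (hT : ∀ i, T i ≤ N)
    (halg : ∀ i M, M ∈ algOf (T i) ↔ ∃ A, coordAlg ε P (injL i A) = M) : IsPlusTypeOn Q ⊤ := by
  classical
  have h8 : Fintype.card ι = 8 := by simp [Fintype.card_congr ε]
  let M : Subgroup (GL ι F) := ⨆ i, T i
  have hMN : M ≤ N := iSup_le hT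
  let e : Fin 2 → Fin 2 → Matrix ι ι F := fun a c => coordAlg ε P (injL 0 (Matrix.single a c 1))
  have he : IsUnitSys e := by
    refine ⟨fun a b c d => ?_, ?_⟩
    · simp only [e, ← map_mul, ← injL_mul]
      split_ifs with h
      · subst h; rw [Matrix.single_mul_single_same, mul_one]
      · rw [Matrix.single_mul_single_of_ne _ _ _ _ h, map_zero, map_zero]
    · simp only [e, ← map_sum]
      rw [Matrix.sum_single_eq_diagonal, Matrix.diagonal_one, injL_one, map_one]
  have hspan : ∀ X, X ∈ unitSpan e ↔ X ∈ algOf (T 0) := by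
    intro X
    constructor
    · intro h
      exact (Submodule.span_le (p := Subalgebra.toSubmodule (algOf (T 0)))).mpr
        (by rintro _ ⟨ab, rfl⟩; exact (halg 0 _).mpr ⟨_, rfl⟩) h
    · intro h
      obtain ⟨A, rfl⟩ := (halg 0 X).mp h
      rw [Matrix.matrix_eq_sum_single A, map_sum, map_sum]
      refine sum_mem fun a _ => ?_
      rw [map_sum, map_sum]
      refine sum_mem fun c _ => ?_
      rw [show Matrix.single a c (A a c) = A a c • Matrix.single a c 1 by simp, map_smul, map_smul]
      exact Submodule.smul_mem _ _ (Submodule.subset_span ⟨(a, c), rfl⟩)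
  have hinjcomm : ∀ i j, i ≠ j → ∀ A D : Matrix (Fin 2) (Fin 2) F,
      (injL i A : Matrix (Fin 3 → Fin 2) (Fin 3 → Fin 2) F) * injL j D = injL j D * injL i A := by
    intro i j hij A D
    rw [injL_apply, injL_apply, tens_mul, tens_mul]
    congr 1
    funext k
    rcases eq_or_ne k i with rfl | h
    · simp [Function.update_of_ne hij]
    · simp [Function.update_of_ne h]
  have hnormT : ∀ j, ∀ g ∈ T j, ∀ X ∈ algOf (T 0),
      (g : Matrix ι ι F) * X * ((g⁻¹ : GL ι F) : Matrix ι ι F) ∈ algOf (T 0) := by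
    intro j g hg X hX
    rcases eq_or_ne j 0 with rfl | hj
    · exact conj_mem_algOf (fun x hx => mul_mem (mul_mem hg hx) (inv_mem hg)) hX
    obtain ⟨A, rfl⟩ := (halg 0 X).mp hX
    obtain ⟨D, hD⟩ := (halg j _).mp (Algebra.subset_adjoin (mem_matrixSet.mpr ⟨g, hg, rfl⟩))
    rw [← hD, ← map_mul, ← hinjcomm 0 j (Ne.symm hj), map_mul, mul_assoc, hD, Units.mul_inv, mul_one]
    exact (halg 0 _).mpr ⟨A, rfl⟩
  have hnormM : ∀ g ∈ M, ∀ X ∈ algOf (T 0),
      (g : Matrix ι ι F) * X * ((g⁻¹ : GL ι F) : Matrix ι ι F) ∈ algOf (T 0) := by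
    intro g hg
    induction hg using Subgroup.iSup_induction' with
    | hp j g hg => exact hnormT j g hg
    | h1 => intro X hX; simpa using hX
    | hmul a b _ _ ha hb =>
      intro X hX
      simpa [mul_assoc] using ha _ (hb X hX)
  have hfull : ∀ X, X ∈ algOf M := by
    intro X
    obtain ⟨Y, rfl⟩ := (coordAlg ε P).surjective X
    have hTM : ∀ i, algOf (T i) ≤ algOf M := fun i => Algebra.adjoin_mono fun s hs => by
      obtain ⟨x, hx, rfl⟩ := mem_matrixSet.mp hs
      exact mem_matrixSet.mpr ⟨x, Subgroup.mem_iSup_of_mem i hx, rfl⟩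
    have key : ∀ (D : Fin 3 → Matrix (Fin 2) (Fin 2) F) (s : Finset (Fin 3)),
        coordAlg ε P (tens (fun j => if j ∈ s then D j else 1)) ∈ algOf M := by
      intro D s
      induction s using Finset.induction with
      | empty => simp [tens_one]
      | insert i s hi ih =>
        have e' : tens (fun j => if j ∈ insert i s then D j else 1) =
            injL i (D i) * tens (fun j => if j ∈ s then D j else 1) := by
          rw [injL_apply, tens_mul]
          congr 1
          funext j
          rcases eq_or_ne j i with rfl | hj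
          · simp [hi]
          · simp [hj, Function.update_of_ne hj]
        rw [e', map_mul]
        exact mul_mem (hTM i ((halg i _).mpr ⟨_, rfl⟩)) ih
    rw [Matrix.matrix_eq_sum_single Y, map_sum]
    refine sum_mem fun x _ => ?_
    rw [map_sum]
    refine sum_mem fun y _ => ?_
    rw [show Matrix.single x y (Y x y) = Y x y • Matrix.single x y 1 by simp, map_smul, ← tens_single]
    exact Subalgebra.smul_mem _ (by simpa using key (fun i => Matrix.single (x i) (y i) 1) Finset.univ) _
  have hirrM : Irred M := by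
    intro W hW
    by_cases hb : W = ⊥
    · exact Or.inl hb
    right
    obtain ⟨w, hw, hw0⟩ := Submodule.exists_mem_ne_zero_of_ne_bot hb
    obtain ⟨j, hj⟩ := Function.ne_iff.mp hw0
    rw [eq_top_iff]
    intro v _
    have h2 := algOf_invariant hW (hfull (Matrix.of fun a b => if b = j then v a * (w j)⁻¹ else 0)) w hw
    have h3 : (Matrix.of fun a b => if b = j then v a * (w j)⁻¹ else 0) *ᵥ w = v := by
      funext a
      simp [Matrix.mulVec, dotProduct, mul_assoc, inv_mul_cancel₀ (show w j ≠ 0 from hj)]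
    rwa [h3] at h2
  rcases tensor_units hQ heven (by omega) (hMN.trans hN) hirrM le_rfl he
      (fun g hg a c => (hspan _).mpr (hnormM g hg _ ((hspan _).mp (Submodule.subset_span ⟨(a, c), rfl⟩))))
      (fun X hX => (hspan _).mpr (adj_mem_algOf (alt_gram hQ heven)
        (fun g hg => mem_Isom_gram hQ (hN (hT 0 hg))) ((hspan _).mp hX))) with h | ⟨l, -, -, ε', P', f₁, f₂, -, -, -, hpure, -⟩
  · exfalso
    -- four matrix units cannot span
    have htop : (unitSpan e : Submodule F (Matrix ι ι F)) = ⊤ := eq_top_iff.mpr fun X _ => h X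
    have h1 := finrank_range_le_card (R := F) (fun ab : Fin 2 × Fin 2 => e ab.1 ab.2)
    rw [Set.finrank, show Submodule.span F (Set.range fun ab : Fin 2 × Fin 2 => e ab.1 ab.2) = unitSpan e from rfl,
      htop, finrank_top, Module.finrank_matrix, Module.finrank_self, h8] at h1
    simp at h1
  · exact plus_of_pure hQ hpure

end Cfsg.Agent.Lib.AschbacherEvenDim
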