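import Cfsg.Agent.Lib.AschbacherEvenDim.OddMain
import Cfsg.Agent.Lib.AschbacherOrth.OddMax

/-!
`Ω₁₂(q)`, `q` odd, both types: the irreducible subgroups.
-/

set_option autoImplicit false
set_option linter.unusedSectionVars false

namespace Cfsg.Agent.Lib.AschbacherEvenDim

open Cfsg.Geo Module QuadraticMap
open Cfsg.Agent.Lib.PrimeDim.Basic Cfsg.Agent.Lib.Aschbacher
open Cfsg.Agent.Lib.AschbacherSp (eq_inf subfield_ne_top two_ne_zero' pt)
open Cfsg.Agent.Lib.AschbacherOrth (not_le_decomposition eq_half refine_three omegaGL_le_isometryGroup)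
open scoped Matrix MatrixGroups

variable {ι : Type} [Fintype ι] [DecidableEq ι] {F : Type*} [Field F] [Fintype F]

/-- The members outside the first class, dimension twelve, plus type. -/
def PlusTwelveMember (Q : (ι → F) → F) (H : Subgroup (GL ι F)) : Prop :=
  ((∃ p : ℕ, p.Prime ∧ Odd p ∧ Fintype.card F = p) ∧ ∃ D : Fin 12 → Submodule F (ι → F),
    IsOrthogonalMDecomposition Q 1 D ∧ H = decompositionStabilizer D ⊓ omegaGL Q) ∨
  (7 ≤ Fintype.card F ∧ ∃ D : Fin 6 → Submodule F (ι → F), IsOrthogonalMDecomposition Q 2 D ∧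
    (∀ i, IsPlusTypeOn Q (D i)) ∧ H = decompositionStabilizer D ⊓ omegaGL Q) ∨
  (Fintype.card F ≠ 3 ∧ ∃ D : Fin 6 → Submodule F (ι → F), IsOrthogonalMDecomposition Q 2 D ∧
    (∀ i, ¬ IsPlusTypeOn Q (D i)) ∧ H = decompositionStabilizer D ⊓ omegaGL Q) ∨
  (Odd (Fintype.card F) ∧ 5 ≤ Fintype.card F ∧ ∃ D : Fin 4 → Submodule F (ι → F),
    IsOrthogonalMDecomposition Q 3 D ∧ H = decompositionStabilizer D ⊓ omegaGL Q) ∨
  (3 ≤ Fintype.card F ∧ ∃ D : Fin 3 → Submodule F (ι → F),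
    IsOrthogonalMDecomposition Q 4 D ∧ H = decompositionStabilizer D ⊓ omegaGL Q) ∨
  (∃ D : Fin 2 → Submodule F (ι → F), IsOrthogonalMDecomposition Q 6 D ∧
    H = decompositionStabilizer D ⊓ omegaGL Q) ∨
  (∃ D : Fin 2 → Submodule F (ι → F), IsMDecomposition 6 D ∧ (∀ i, IsTotallySingularQuad Q (D i)) ∧
    H = decompositionStabilizer D ⊓ omegaGL Q) ∨
  (∃ K : Subalgebra F (Matrix ι ι F), IsFieldSubalgebra 2 K ∧ H = subalgebraNormalizer K ⊓ omegaGL Q) ∨
  (∃ K : Subalgebra F (Matrix ι ι F), IsFieldSubalgebra 3 K ∧ H = subalgebraNormalizer K ⊓ omegaGL Q) ∨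
  (∃ K : Subalgebra F (Matrix ι ι F), IsFieldSubalgebra 2 K ∧ IsAdjointClosedFor (QuadraticMap.polar Q) K ∧
    ¬ IsSelfAdjointFor (QuadraticMap.polar Q) K ∧
    (∀ k ∈ K, ∃ c : F, ∀ v : ι → F, Q (k *ᵥ v) = c * Q v) ∧ H = subalgebraNormalizer K ⊓ omegaGL Q) ∨
  (3 ≤ Fintype.card F ∧ ∃ (e : ι ≃ Fin 2 × Fin 6) (P : GL ι F) (f₁ : (Fin 2 → F) → (Fin 2 → F) → F)
    (f₂ : (Fin 6 → F) → (Fin 6 → F) → F), IsSymplecticForm f₁ ∧ IsSymplecticForm f₂ ∧
    IsTensorFormStructure id (QuadraticMap.polar Q) f₁ f₂ e P ∧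
    (∀ (x₁ : Fin 2 → F) (x₂ : Fin 6 → F),
      Q (Matrix.mulVec (P : Matrix ι ι F) ((fun a : Fin 2 × Fin 6 => x₁ a.1 * x₂ a.2) ∘ e)) = 0) ∧
    H = tensorProductSubgroup 2 6 e P ⊓ omegaGL Q) ∨
  (∃ (F₀ : Subfield F) (r : ℕ) (P : GL ι F) (ζ : F), r.Prime ∧ Fintype.card F = Nat.card F₀ ^ r ∧ ζ ≠ 0 ∧
    IsQuadFormRationalStructure (fun v => ζ * Q v) F₀ P ∧ H = subfieldSubgroup F₀ P ⊓ omegaGL Q) ∨
  InOrthogonalResidualClass H

/-- The members outside the first class, dimension twelve, minus type. -/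
def MinusTwelveMember (Q : (ι → F) → F) (H : Subgroup (GL ι F)) : Prop :=
  (∃ D : Fin 3 → Submodule F (ι → F), IsOrthogonalMDecomposition Q 4 D ∧ (∀ i, ¬ IsPlusTypeOn Q (D i)) ∧
    H = decompositionStabilizer D ⊓ omegaGL Q) ∨
  (∃ K : Subalgebra F (Matrix ι ι F), IsFieldSubalgebra 2 K ∧ H = subalgebraNormalizer K ⊓ omegaGL Q) ∨
  (∃ K : Subalgebra F (Matrix ι ι F), IsFieldSubalgebra 3 K ∧ H = subalgebraNormalizer K ⊓ omegaGL Q) ∨
  (Odd (Fintype.card F) ∧ 5 ≤ Fintype.card F ∧ ∃ (e : ι ≃ Fin 3 × Fin 4) (P : GL ι F)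
    (f₁ : (Fin 3 → F) → (Fin 3 → F) → F) (f₂ : (Fin 4 → F) → (Fin 4 → F) → F), IsSymmetricForm f₁ ∧
    IsSymmetricForm f₂ ∧ ¬ IsPlusTypeOn (fun v : Fin 4 → F => f₂ v v) ⊤ ∧
    IsTensorFormStructure id (QuadraticMap.polar Q) f₁ f₂ e P ∧ H = tensorProductSubgroup 3 4 e P ⊓ omegaGL Q) ∨
  (∃ (F₀ : Subfield F) (r : ℕ) (P : GL ι F) (ζ : F), r.Prime ∧ Odd r ∧ Fintype.card F = Nat.card F₀ ^ r ∧ ζ ≠ 0 ∧
    IsQuadFormRationalStructure (fun v => ζ * Q v) F₀ P ∧ H = subfieldSubgroup F₀ P ⊓ omegaGL Q) ∨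
  InOrthogonalResidualClass H

variable {Q : (ι → F) → F} (hQ : IsNondegenerateQuadraticForm Q)
include hQ

local notation "B" => QuadraticMap.polar Q

/-- Isometric subspaces have the same type. -/
theorem plus_of_isometric {W W' : Submodule F (ι → F)} (h : AreIsometricFor Q W W') (hp : IsPlusTypeOn Q W) :
    IsPlusTypeOn Q W' := by
  obtain ⟨e, he⟩ := h
  rw [plusOn_iff hQ] at hp ⊢
  exact HasHalf.congr (Q := resQ hQ W) (Q' := resQ hQ W') { toLinearEquiv := e, map_app' := fun w => he w } hp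

theorem twelve_plus_odd (hodd : Odd (Fintype.card F)) (hn : Fintype.card ι = 12) (hplus : IsPlusTypeOn Q ⊤)
    {H : Subgroup (GL ι F)} (hH : IsMaximalIn (omegaGL Q) H) (hirr : Irred H) : PlusTwelveMember Q H := by
  haveI : Nonempty ι := Fintype.card_pos_iff.mp (by omega)
  have hn' : Fintype.card ι = 2 * 6 := by omega
  have h2 := two_ne_zero' hodd
  have hq3 : 3 ≤ Fintype.card F := by
    obtain ⟨a, ha⟩ := hodd
    have := Fintype.one_lt_card (α := F)
    omega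
  have hsub : ∀ {F₀ : Subfield F} {r : ℕ} {P : GL ι F} {ζ : F}, r.Prime → Fintype.card F = Nat.card F₀ ^ r → ζ ≠ 0 →
      IsQuadFormRationalStructure (fun v => ζ * Q v) F₀ P → H ≤ subfieldSubgroup F₀ P → PlusTwelveMember Q H :=
    fun {F₀ r P ζ} hr hq hζ hP hle => Or.inr (Or.inr (Or.inr (Or.inr (Or.inr (Or.inr (Or.inr (Or.inr (Or.inr (Or.inr
      (Or.inr (Or.inl ⟨F₀, r, P, ζ, hr, hq, hζ, hP,
        eq_inf hH hle (not_le_subfield hQ (by omega) (subfield_ne_top hr hq) P)⟩)))))))))))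
  have hlines : ∀ {N : ℕ} {D : Fin N → Submodule F (ι → F)}, N = 12 → IsOrthogonalMDecomposition Q 1 D →
      H ≤ decompositionStabilizer D → PlusTwelveMember Q H := by
    intro N D hN hD hle
    subst hN
    by_cases hp : (Fintype.card F).Prime
    · exact Or.inl ⟨⟨_, hp, hodd, rfl⟩, D, hD,
        eq_inf hH hle (not_le_decomposition hQ h2 hD.decomp (Or.inl (by omega)))⟩
    · obtain ⟨F₀, r, P, ζ, hr, hq, hζ, hP, h⟩ := lines_subfield hQ hodd hD hH.1.le hle hp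
      exact hsub hr hq hζ hP h
  have hsymp : ∀ {e : ι ≃ Fin 2 × Fin 6} {P : GL ι F} {f₁ : (Fin 2 → F) → (Fin 2 → F) → F}
      {f₂ : (Fin 6 → F) → (Fin 6 → F) → F}, IsSymplecticForm f₁ → IsSymplecticForm f₂ →
      IsTensorFormStructure id B f₁ f₂ e P → H ≤ tensorProductSubgroup 2 6 e P → PlusTwelveMember Q H := by
    intro e P f₁ f₂ h1 h2 hf hle
    have hpure : ∀ x w, Q ((P : Matrix ι ι F) *ᵥ (pt x w ∘ e)) = 0 := fun x w => by
      obtain ⟨c, -, hv⟩ := tensor_value h1.bilinear h2.bilinear hf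
      rw [eq_half hQ hodd, hv, h1.alternating, zero_mul, mul_zero, zero_div]
    exact Or.inr (Or.inr (Or.inr (Or.inr (Or.inr (Or.inr (Or.inr (Or.inr (Or.inr (Or.inr (Or.inl
      ⟨hq3, e, P, f₁, f₂, h1, h2, hf, fun x w => hpure x w,
        eq_inf hH hle (not_le_tensor_symp hQ (by omega) (by norm_num) h1 h2 hf hpure)⟩))))))))))
  rcases odd_irred hQ hodd hn' (Or.inr (Or.inr rfl)) hH.1.le hirr with ⟨t, k, D, ht, hk, htk, hD, hle⟩ |
    ⟨D, hD, hts, hle⟩ | ⟨r, K, hr, hdvd, hK, hs, hle⟩ | h | ⟨l, e, P, f₁, f₂, hl, -, hs1, hs2, hf, hle⟩ |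
    ⟨e, P, f₁, f₂, -, hs1, hs2, hf, hle⟩ | ⟨F₀, r, P, ζ, hr, hq, hζ, hP, hle⟩ | ⟨h8, -⟩ | h
  · rw [hn] at htk
    have hk6 : k ≤ 6 := by nlinarith
    have heq := fun hk2 => eq_inf hH hle (not_le_decomposition hQ h2 hD.decomp (Or.inl (hk2 : 9 ≤ Fintype.card ι)))
    have h9 : 9 ≤ Fintype.card ι := by omega
    interval_cases k
    · exact hlines (by omega) hD hle
    · obtain rfl : t = 6 := by omega
      by_cases hp : IsPlusTypeOn Q (D 0)
      · have hall : ∀ i, IsPlusTypeOn Q (D i) := fun i => plus_of_isometric hQ (hD.isometric 0 i) hp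
        have hqc : Fintype.card F = 3 ∨ Fintype.card F = 5 ∨ 7 ≤ Fintype.card F := by
          obtain ⟨a, ha⟩ := hodd
          omega
        rcases hqc with hq | hq | hq
        · choose u hu huniq using fun i => plus_plane_three hQ hq (hD.decomp.decomp.finrank_eq i)
            (hD.decomp.nondegenerate i) (hall i)
          exact absurd hirr (planes_reducible hQ hD.decomp.decomp hu huniq hH.1.le hle)
        · choose u hu ho huniq using fun i => plus_plane_five hQ hq (hD.decomp.decomp.finrank_eq i)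
            (hD.decomp.nondegenerate i) (hall i)
          obtain ⟨D', hD', hle'⟩ := planes_to_lines hQ hodd hD hu ho huniq hH.1.le hle
          exact hlines hn hD' hle'
        · exact Or.inr (Or.inl ⟨hq, D, hD, hall, heq h9⟩)
      · have hall : ∀ i, ¬ IsPlusTypeOn Q (D i) := fun i h => hp (plus_of_isometric hQ (hD.isometric i 0) h)
        by_cases hq : Fintype.card F = 3
        · choose u hu ho huniq using fun i => minus_plane_three hQ hq (hD.decomp.decomp.finrank_eq i)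
            (hD.decomp.nondegenerate i) (hall i)
          obtain ⟨D', hD', hle'⟩ := planes_to_lines hQ hodd hD hu ho huniq hH.1.le hle
          exact hlines hn hD' hle'
        · exact Or.inr (Or.inr (Or.inl ⟨hq, D, hD, hall, heq h9⟩))
    · obtain rfl : t = 4 := by omega
      by_cases hq : Fintype.card F = 3
      · obtain ⟨D', hD', hle'⟩ := refine_three hQ hodd hq hD
        exact hlines (by norm_num) hD' (le_trans (le_inf hle (hH.1.le.trans (omegaGL_le_isometryGroup Q))) hle')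
      · refine Or.inr (Or.inr (Or.inr (Or.inl ⟨hodd, ?_, D, hD, heq h9⟩)))
        obtain ⟨a, ha⟩ := hodd
        omega
    · obtain rfl : t = 3 := by omega
      exact Or.inr (Or.inr (Or.inr (Or.inr (Or.inl ⟨hq3, D, hD, heq h9⟩))))
    · omega
    · obtain rfl : t = 2 := by omega
      exact Or.inr (Or.inr (Or.inr (Or.inr (Or.inr (Or.inl ⟨D, hD, heq h9⟩)))))
  · exact Or.inr (Or.inr (Or.inr (Or.inr (Or.inr (Or.inr (Or.inl
      ⟨D, hD, hts, eq_inf hH hle (not_le_pair hQ (by omega) hD hts)⟩))))))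
  · rw [hn] at hdvd
    rcases (Nat.Prime.dvd_mul hr).mp (show r ∣ 2 * (2 * 3) from hdvd) with h | h
    · obtain rfl := (Nat.prime_dvd_prime_iff_eq hr Nat.prime_two).mp h
      exact Or.inr (Or.inr (Or.inr (Or.inr (Or.inr (Or.inr (Or.inr (Or.inl
        ⟨K, hK, eq_inf hH hle (not_le_field hQ (by omega) hK le_rfl)⟩)))))))
    rcases (Nat.Prime.dvd_mul hr).mp h with h | h
    · obtain rfl := (Nat.prime_dvd_prime_iff_eq hr Nat.prime_two).mp h
      exact Or.inr (Or.inr (Or.inr (Or.inr (Or.inr (Or.inr (Or.inr (Or.inl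
        ⟨K, hK, eq_inf hH hle (not_le_field hQ (by omega) hK le_rfl)⟩)))))))
    · obtain rfl := (Nat.prime_dvd_prime_iff_eq hr Nat.prime_three).mp h
      exact Or.inr (Or.inr (Or.inr (Or.inr (Or.inr (Or.inr (Or.inr (Or.inr (Or.inl
        ⟨K, hK, eq_inf hH hle (not_le_field hQ (by omega) hK (by norm_num))⟩))))))))
  · rcases h with ⟨j, D, hj, hD, hts, hle⟩ | ⟨K, hK, hc, hns, hsim, hle⟩
    · obtain rfl : j = 6 := by omega
      exact Or.inr (Or.inr (Or.inr (Or.inr (Or.inr (Or.inr (Or.inl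
        ⟨D, hD, hts, eq_inf hH hle (not_le_pair hQ (by omega) hD hts)⟩))))))
    · exact Or.inr (Or.inr (Or.inr (Or.inr (Or.inr (Or.inr (Or.inr (Or.inr (Or.inr (Or.inl
        ⟨K, hK, hc, hns, hsim, eq_inf hH hle (not_le_field hQ (by omega) hK le_rfl)⟩)))))))))
  · obtain rfl : l = 6 := by omega
    exact hsymp hs1 hs2 hf hle
  · obtain ⟨e', P', g₁, g₂, h1', h2', hf', hle'⟩ := tensor_34_plus hQ hodd hn hs1 hs2 hf
      ((tensor_type_34 hQ hodd hn hs1 hs2 hf).mp hplus) hH.1.le hle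
    exact hsymp h1' h2' hf' hle'
  · exact hsub hr hq hζ hP hle
  · omega
  · exact Or.inr (Or.inr (Or.inr (Or.inr (Or.inr (Or.inr (Or.inr (Or.inr (Or.inr (Or.inr (Or.inr (Or.inr h)))))))))))

theorem twelve_minus_odd (hodd : Odd (Fintype.card F)) (hn : Fintype.card ι = 12) (hminus : ¬ IsPlusTypeOn Q ⊤)
    {H : Subgroup (GL ι F)} (hH : IsMaximalIn (omegaGL Q) H) (hirr : Irred H) : MinusTwelveMember Q H := by
  haveI : Nonempty ι := Fintype.card_pos_iff.mp (by omega)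
  have hn' : Fintype.card ι = 2 * 6 := by omega
  have h2 := two_ne_zero' hodd
  have h6 : Even 6 := by decide
  have hfour : ∀ {D : Fin 3 → Submodule F (ι → F)}, IsOrthogonalMDecomposition Q 4 D →
      H ≤ decompositionStabilizer D → MinusTwelveMember Q H := fun {D} hD hle =>
    Or.inl ⟨D, hD, fun i h => hminus (((decomposition_type hQ (j := 2) hD i).2 (by decide)).mpr h),
      eq_inf hH hle (not_le_decomposition hQ h2 hD.decomp (Or.inl (by omega)))⟩
  rcases odd_irred hQ hodd hn' (Or.inr (Or.inr rfl)) hH.1.le hirr with ⟨t, k, D, ht, hk, htk, hD, hle⟩ |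
    ⟨D, hD, hts, -⟩ | ⟨r, K, hr, hdvd, hK, hs, hle⟩ | h | ⟨l, e, P, f₁, f₂, hl, -, hs1, hs2, hf, -⟩ |
    ⟨e, P, f₁, f₂, -, hs1, hs2, hf, hle⟩ | ⟨F₀, r, P, ζ, hr, hq, hζ, hP, hle⟩ | ⟨h8, -⟩ | h
  · rw [hn] at htk
    have hk6 : k ≤ 6 := by nlinarith
    have hodd' : Odd k → MinusTwelveMember Q H := fun hk' =>
      absurd ((odd_members_type hQ hodd hn' hk' hD).mpr ⟨1, by norm_num⟩) hminus
    interval_cases k
    · exact hodd' odd_one
    · obtain rfl : t = 6 := by omega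
      exact absurd ((decomposition_type hQ (j := 1) hD 0).1 h6) hminus
    · exact hodd' (by decide)
    · obtain rfl : t = 3 := by omega
      exact hfour hD hle
    · omega
    · obtain rfl : t = 2 := by omega
      exact absurd ((decomposition_type hQ (j := 3) hD 0).1 (by decide)) hminus
  · exact absurd (plus_of_ts (hts 0) (by rw [hD.finrank_eq]; omega)) hminus
  · rw [hn] at hdvd
    rcases (Nat.Prime.dvd_mul hr).mp (show r ∣ 2 * (2 * 3) from hdvd) with h | h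
    · obtain rfl := (Nat.prime_dvd_prime_iff_eq hr Nat.prime_two).mp h
      exact Or.inr (Or.inl ⟨K, hK, eq_inf hH hle (not_le_field hQ (by omega) hK le_rfl)⟩)
    rcases (Nat.Prime.dvd_mul hr).mp h with h | h
    · obtain rfl := (Nat.prime_dvd_prime_iff_eq hr Nat.prime_two).mp h
      exact Or.inr (Or.inl ⟨K, hK, eq_inf hH hle (not_le_field hQ (by omega) hK le_rfl)⟩)
    · obtain rfl := (Nat.prime_dvd_prime_iff_eq hr Nat.prime_three).mp h
      exact Or.inr (Or.inr (Or.inl ⟨K, hK, eq_inf hH hle (not_le_field hQ (by omega) hK (by norm_num))⟩))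
  · exact absurd (pairOrField_plus hQ hn' h6 h) hminus
  · refine absurd ?_ hminus
    obtain rfl : l = 6 := by omega
    obtain ⟨c, hc, hg⟩ := tensor_gram hQ hf
    rw [plus_iff_gramIn hQ hodd hn' e P, hg, Matrix.det_smul, Matrix.det_kronecker]
    obtain ⟨d, hd⟩ : ∃ d, (gramMatrix f₂).det = d := ⟨_, rfl⟩
    rw [hd]
    exact ⟨c ^ 6 * (gramMatrix f₁).det ^ 3 * d, by simp; ring⟩
  · by_cases hq : Fintype.card F = 3
    · obtain ⟨D, hD, hle'⟩ := tensor_34_three hQ hodd hq hs1 hs2 hf (fun g hg => mem_Isom hQ hodd (hH.1.le hg))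
        hle hirr
      exact hfour hD hle'
    · refine Or.inr (Or.inr (Or.inr (Or.inl ⟨hodd, ?_, e, P, f₁, f₂, hs1, hs2,
        fun hp => hminus ((tensor_type_34 hQ hodd hn hs1 hs2 hf).mpr hp), hf,
        eq_inf hH hle (not_le_tensor_sym hQ hodd (by omega) le_rfl (by norm_num) hs1 hs2 hf)⟩)))
      obtain ⟨a, ha⟩ := hodd
      have := Fintype.one_lt_card (α := F)
      omega
  · exact Or.inr (Or.inr (Or.inr (Or.inr (Or.inl ⟨F₀, r, P, ζ, hr, odd_index hQ hn' hminus hr hq hζ hP, hq, hζ, hP,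
      eq_inf hH hle (not_le_subfield hQ (by omega) (subfield_ne_top hr hq) P)⟩))))
  · omega
  · exact Or.inr (Or.inr (Or.inr (Or.inr (Or.inr h))))

end Cfsg.Agent.Lib.AschbacherEvenDim
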