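import Cfsg.Agent.Lib.AschbacherEvenDim.EvenTen
import Cfsg.Agent.Lib.AschbacherEvenDim.OddTwelve
import Cfsg.Agent.Lib.AschbacherEvenDim.TensorProper
import Cfsg.Agent.Lib.Aschbacher.Small

/-!
`Ω₁₂(q)`, `q` even, both types: the irreducible subgroups.
-/

set_option autoImplicit false
set_option linter.unusedSectionVars false

namespace Cfsg.Agent.Lib.AschbacherEvenDim

open Cfsg.Geo Module QuadraticMap Cfsg.Agent.Lib.Subspaces.OrthForm
open Cfsg.Agent.Lib.PrimeDim.Basic Cfsg.Agent.Lib.Aschbacher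
open Cfsg.Agent.Lib.AschbacherSp (eq_inf two_eq_zero pt kron_mulVec_pt toX toX_mk mk_toX toX_coord)
open scoped Matrix MatrixGroups Kronecker

variable {ι : Type} [Fintype ι] [DecidableEq ι] {F : Type*} [Field F] [Fintype F] {Q : (ι → F) → F}
  (hQ : IsNondegenerateQuadraticForm Q)
include hQ

local notation "B" => QuadraticMap.polar Q

/-- Over two elements a tensor product with a plane gives a quadratic element. -/
theorem tensor_two_pairOrField [Nonempty ι] (hq : Fintype.card F = 2) {l : ℕ} {H : Subgroup (GL ι F)}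
    (h : TensorData Q H 2 l) : PairOrField Q H := by
  classical
  have heven : ¬ Odd (Fintype.card F) := by rw [hq]; decide
  have h2 := two_eq_zero heven
  have hb := hQ.polar_bilinear
  obtain ⟨e, P, f₁, f₂, hs1, hs2, hf, hpure, hle⟩ := h
  obtain ⟨c, -, hval⟩ := tensor_value hs1.bilinear hs2.bilinear hf
  let S : Matrix (Fin 2) (Fin 2) F := !![0, 1; 1, 1]
  have hS : S * S = S + 1 := by
    ext i j
    fin_cases i <;> fin_cases j <;> simp [S, Matrix.mul_apply, Fin.sum_univ_two] <;> linear_combination h2 * 0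
  set T := coordAlg e P (S ⊗ₖ (1 : Matrix (Fin l) (Fin l) F)) with hTdef
  have hTp : ∀ x w, T *ᵥ ((P : Matrix ι ι F) *ᵥ (pt x w ∘ e)) = (P : Matrix ι ι F) *ᵥ (pt (S *ᵥ x) w ∘ e) := by
    intro x w
    rw [← mk_toX e P (T *ᵥ _), hTdef, toX_coord, toX_mk, kron_mulVec_pt, Matrix.one_mulVec]
  have hf1 : ∀ x y, f₁ (S *ᵥ x) y + f₁ x (S *ᵥ y) = f₁ x y := by
    intro x y
    have hx : ∀ x : Fin 2 → F, x = x 0 • Pi.single 0 1 + x 1 • Pi.single 1 1 := fun x => by
      funext i; fin_cases i <;> simp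
    have hS0 : S *ᵥ (Pi.single 0 1 : Fin 2 → F) = Pi.single 1 1 := by
      funext i; fin_cases i <;> simp [S, Matrix.mulVec, dotProduct, Fin.sum_univ_two]
    have hS1 : S *ᵥ (Pi.single 1 1 : Fin 2 → F) = Pi.single 0 1 + Pi.single 1 1 := by
      funext i; fin_cases i <;> simp [S, Matrix.mulVec, dotProduct, Fin.sum_univ_two]
    have hb1 := hs1.bilinear
    have hsym : f₁ (Pi.single 1 1) (Pi.single 0 1) = f₁ (Pi.single 0 1) (Pi.single 1 1) := by
      rw [hs1.skew]
      linear_combination (-f₁ (Pi.single 0 1) (Pi.single 1 1)) * h2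
    rw [hx x, hx y]
    simp only [Matrix.mulVec_add, Matrix.mulVec_smul, hS0, hS1, hb1.add_left, hb1.add_right, hb1.smul_left,
      hb1.smul_right, hs1.alternating, hsym, mul_zero, add_zero, zero_add]
    linear_combination ((x 0 * y 0 + x 1 * y 1) * f₁ (Pi.single 0 1) (Pi.single 1 1)) * h2
  have hind : ∀ (motive : (ι → F) → Prop), motive 0 → (∀ u v, motive u → motive v → motive (u + v)) →
      (∀ (k : F) u, motive u → motive (k • u)) →
      (∀ x w, motive ((P : Matrix ι ι F) *ᵥ (pt x w ∘ e))) → ∀ v, motive v := by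
    intro motive h0 hadd hsmul hp v
    suffices h : ∀ z ∈ (⊤ : Submodule F (Fin 2 × Fin l → F)), motive ((P : Matrix ι ι F) *ᵥ (z ∘ e)) by
      have := h (toX e P v) Submodule.mem_top
      rwa [mk_toX] at this
    rw [← span_pt]
    intro z hz
    induction hz using Submodule.span_induction with
    | mem y hy => obtain ⟨⟨x, w⟩, rfl⟩ := hy; exact hp x w
    | zero => rw [show (0 : Fin 2 × Fin l → F) ∘ e = 0 from rfl, Matrix.mulVec_zero]; exact h0
    | add a b _ _ ha hb' =>
      rw [show (a + b) ∘ e = a ∘ e + b ∘ e from rfl, Matrix.mulVec_add]; exact hadd _ _ ha hb'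
    | smul k a _ ha => rw [show (k • a) ∘ e = k • (a ∘ e) from rfl, Matrix.mulVec_smul]; exact hsmul k _ ha
  have hpol : ∀ u v, B (T *ᵥ u) v + B u (T *ᵥ v) = B u v := by
    refine hind (fun u => ∀ v, B (T *ᵥ u) v + B u (T *ᵥ v) = B u v) (fun v => ?_) (fun u u' hu hu' v => ?_)
      (fun k u hu v => ?_) fun x w => hind _ ?_ (fun v v' hv hv' => ?_) (fun k v hv => ?_) fun x' w' => ?_
    · rw [Matrix.mulVec_zero, B_comm 0 v, B_comm 0 (T *ᵥ v), zero_right hQ, zero_right hQ, add_zero]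
    · rw [Matrix.mulVec_add, hb.add_left, hb.add_left, hb.add_left]
      linear_combination hu v + hu' v
    · rw [Matrix.mulVec_smul, hb.smul_left, hb.smul_left, hb.smul_left]
      linear_combination k * hu v
    · rw [Matrix.mulVec_zero, zero_right hQ, zero_right hQ, add_zero]
    · rw [Matrix.mulVec_add T v v', hb.add_right, hb.add_right, hb.add_right]
      linear_combination hv + hv'
    · rw [Matrix.mulVec_smul T k v, hb.smul_right, hb.smul_right, hb.smul_right]
      linear_combination k * hv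
    · rw [hTp, hTp, hval, hval, hval]
      linear_combination (c * f₂ w w') * hf1 x x'
  have hTQ : ∀ v, B (T *ᵥ v) v = Q v := by
    refine hind _ ?_ (fun u v hu hv => ?_) (fun k u hu => ?_) fun x w => ?_
    · rw [Matrix.mulVec_zero, zero_right hQ, Q_zero hQ]
    · rw [Matrix.mulVec_add, Q_add (Q := Q), hb.add_left, hb.add_right, hb.add_right, ← hpol u v,
        B_comm (T *ᵥ v) u]
      linear_combination hu + hv
    · rw [Matrix.mulVec_smul, hb.smul_left, hb.smul_right, hQ.smul, hu]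
      ring
    · rw [hTp, hval, hs2.alternating, hpure, mul_zero, mul_zero]
  refine of_omega_even hQ heven (T := T) (δ := 1) ?_ hTQ fun g hg => ?_
  · rw [hTdef, ← map_mul, ← Matrix.mul_kronecker_mul, mul_one, hS, Matrix.add_kronecker, Matrix.one_kronecker_one,
      map_add, map_one, one_smul]
  obtain ⟨_, ⟨g₀, ⟨A, X, hAX⟩, rfl⟩, rfl⟩ := hle hg
  set S' := (A : Matrix (Fin 2) (Fin 2) F) * S * ((A⁻¹ : GL (Fin 2) F) : Matrix (Fin 2) (Fin 2) F) with hS'
  have hconjT : ((coordGL e P g₀ : GL ι F) : Matrix ι ι F) * T =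
      coordAlg e P (S' ⊗ₖ (1 : Matrix (Fin l) (Fin l) F)) * ((coordGL e P g₀ : GL ι F) : Matrix ι ι F) := by
    rw [coordGL_val, hTdef, ← map_mul, ← map_mul, hAX, ← Matrix.mul_kronecker_mul, ← Matrix.mul_kronecker_mul, hS',
      mul_one, one_mul, Units.inv_mul_cancel_right]
  have hS'2 : S' * S' = S' + 1 := by
    calc S' * S' = (A : Matrix (Fin 2) (Fin 2) F) * (S * S) * ((A⁻¹ : GL (Fin 2) F) : Matrix (Fin 2) (Fin 2) F) := by
          simp [hS', mul_assoc]
      _ = S' + 1 := by rw [hS, mul_add, add_mul, mul_one, Units.mul_inv]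
  have hcases : S' = S ∨ S' = S + 1 := by
    have e00 := congrFun (congrFun hS'2 0) 0
    have e01 := congrFun (congrFun hS'2 0) 1
    have e10 := congrFun (congrFun hS'2 1) 0
    have e11 := congrFun (congrFun hS'2 1) 1
    simp only [Matrix.mul_apply, Fin.sum_univ_two, Matrix.add_apply, Matrix.one_apply_eq,
      Matrix.one_apply_ne (show (0 : Fin 2) ≠ 1 by decide), Matrix.one_apply_ne (show (1 : Fin 2) ≠ 0 by decide)] at e00 e01 e10 e11
    have h11 : (1 : F) + 1 = 0 := by linear_combination h2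
    have hext : ∀ N : Matrix (Fin 2) (Fin 2) F, S' 0 0 = N 0 0 → S' 0 1 = N 0 1 → S' 1 0 = N 1 0 → S' 1 1 = N 1 1 →
        S' = N := fun N a b c d => by
      ext i j
      fin_cases i <;> fin_cases j <;> assumption
    rcases eq_zero_or_one hq (S' 0 0) with a | a <;> rcases eq_zero_or_one hq (S' 0 1) with b | b <;>
      rcases eq_zero_or_one hq (S' 1 0) with c | c <;> rcases eq_zero_or_one hq (S' 1 1) with d | d <;>
      simp [a, b, c, d, h11] at e00 e01 e10 e11 <;>
      first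
        | (left; (refine hext _ ?_ ?_ ?_ ?_ <;> simp [S, a, b, c, d]); done)
        | (right; refine hext _ ?_ ?_ ?_ ?_ <;> simp [S, a, b, c, d, h11])
  have hfin : ∀ N, ((coordGL e P g₀ : GL ι F) : Matrix ι ι F) * T = N * ((coordGL e P g₀ : GL ι F) : Matrix ι ι F) →
      ((coordGL e P g₀ : GL ι F) : Matrix ι ι F) * T * (((coordGL e P g₀)⁻¹ : GL ι F) : Matrix ι ι F) = N := fun N h => by
    rw [h, mul_assoc, Units.mul_inv, mul_one]
  rcases hcases with h | h <;> rw [h] at hconjT
  · exact Or.inl (hfin _ hconjT)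
  · refine Or.inr ((hfin _ hconjT).trans ?_)
    rw [hTdef, Matrix.add_kronecker, Matrix.one_kronecker_one, map_add, map_one]

theorem twelve_plus_even (heven : ¬ Odd (Fintype.card F)) (hn : Fintype.card ι = 12) (hplus : IsPlusTypeOn Q ⊤)
    {H : Subgroup (GL ι F)} (hH : IsMaximalIn (omegaGL Q) H) (hirr : Irred H) : PlusTwelveMember Q H := by
  haveI : Nonempty ι := Fintype.card_pos_iff.mp (by omega)
  have hn' : Fintype.card ι = 2 * 6 := by omega
  have h2 := two_eq_zero heven
  have hne6 := card_ne_six (F := F)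
  have hpf : PairOrField Q H → PlusTwelveMember Q H := by
    rintro (⟨j, D, hj, hD, hts, hle⟩ | ⟨K, hK, hc, hns, hsim, hle⟩)
    · obtain rfl : j = 6 := by omega
      exact Or.inr (Or.inr (Or.inr (Or.inr (Or.inr (Or.inr (Or.inl
        ⟨D, hD, hts, eq_inf hH hle (not_le_pair hQ (by omega) hD hts)⟩))))))
    · exact Or.inr (Or.inr (Or.inr (Or.inr (Or.inr (Or.inr (Or.inr (Or.inr (Or.inr (Or.inl
        ⟨K, hK, hc, hns, hsim, eq_inf hH hle (not_le_field hQ (by omega) hK le_rfl)⟩)))))))))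
  have hsub : ∀ {F₀ : Subfield F} {r : ℕ} {P : GL ι F} {ζ : F}, r.Prime → Fintype.card F = Nat.card F₀ ^ r → ζ ≠ 0 →
      IsQuadFormRationalStructure (fun v => ζ * Q v) F₀ P → H ≤ subfieldSubgroup F₀ P → PlusTwelveMember Q H :=
    fun {F₀ r P ζ} hr hq hζ hP hle => Or.inr (Or.inr (Or.inr (Or.inr (Or.inr (Or.inr (Or.inr (Or.inr (Or.inr (Or.inr
      (Or.inr (Or.inl ⟨F₀, r, P, ζ, hr, hq, hζ, hP,
        eq_inf hH hle (not_le_subfield hQ (by omega) (Cfsg.Agent.Lib.AschbacherSp.subfield_ne_top hr hq) P)⟩)))))))))))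
  have hminusplanes : ∀ {N : ℕ} {E : Fin N → Submodule F (ι → F)}, N = 6 → IsOrthogonalMDecomposition Q 2 E →
      (∀ i, ¬ IsPlusTypeOn Q (E i)) → H ≤ decompositionStabilizer E → PlusTwelveMember Q H := by
    intro N E hN hE hm hle
    subst hN
    exact Or.inr (Or.inr (Or.inl ⟨fun h => heven (by rw [h]; decide), E, hE, hm,
      eq_inf hH hle (not_le_decomp_two hQ (by omega) h2 le_rfl hE)⟩))
  rcases even_irred hQ heven hn' (Or.inr (Or.inr rfl)) hH.1.le hirr with ⟨t, k, D, ⟨j, hj⟩, hD, hle⟩ |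
    ⟨r, K, hr, hdvd, hK, -, -, hle⟩ | h | ⟨l, hl, -, hdata⟩ | ⟨F₀, r, P, ζ, hr, hq, hζ, hP, hle⟩ | ⟨h8, -⟩ | h
  · have htk := Cfsg.Agent.Lib.Subspaces.Decomposition.card_eq hD.decomp.decomp
    rw [hn] at htk
    have ht := hD.decomp.decomp.two_le
    have hpos := hD.decomp.decomp.pos
    obtain rfl : k = 2 * j := by omega
    have hj3 : j ≤ 3 := by nlinarith
    have hj1 : 1 ≤ j := by omega
    interval_cases j
    · obtain rfl : t = 6 := by omega
      by_cases hp : IsPlusTypeOn Q (D 0)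
      · have hall : ∀ i, IsPlusTypeOn Q (D i) := fun i => plus_of_isometric hQ (hD.isometric 0 i) hp
        rcases even_card_cases heven with hq | hq | hq
        · exact absurd hirr (planes_two_reducible hQ hq hD.decomp hall hH.1.le hle)
        · obtain ⟨F₀, r, P, ζ, hr, hq', hζ, hP, h⟩ := planes_four_subfield hQ hq hD.decomp hall hH.1.le hle
          exact hsub hr hq' hζ hP h
        · exact Or.inr (Or.inl ⟨by omega, D, hD, hall,
            eq_inf hH hle (not_le_decomp_two hQ (by omega) h2 le_rfl hD)⟩)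
      · exact hminusplanes rfl hD (fun i h => hp (plus_of_isometric hQ (hD.isometric i 0) h)) hle
    · obtain rfl : t = 3 := by omega
      rcases Nat.lt_or_ge (Fintype.card F) 3 with hq | hq
      · have hq2 : Fintype.card F = 2 := by
          have := Fintype.one_lt_card (α := F)
          omega
        obtain ⟨E, hE, hm, hle'⟩ := refine_four_two hQ hq2 hD.decomp
          (fun i => ((decomposition_type hQ (j := 2) hD i).2 (by decide)).mp hplus) hH.1.le hle
        exact hminusplanes rfl hE hm hle'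
      · exact Or.inr (Or.inr (Or.inr (Or.inr (Or.inl ⟨hq, D, hD,
          eq_inf hH hle (not_le_decomp_two hQ (by omega) h2 (by norm_num) hD)⟩))))
    · obtain rfl : t = 2 := by omega
      exact Or.inr (Or.inr (Or.inr (Or.inr (Or.inr (Or.inl ⟨D, hD,
        eq_inf hH hle (not_le_decomp_two hQ (by omega) h2 (by norm_num) hD)⟩)))))
  · rw [hn] at hdvd
    have hr' : r = 2 ∨ r = 3 := by
      rcases (Nat.Prime.dvd_mul hr).mp (show r ∣ 2 ^ 2 * 3 from hdvd) with h | h
      · exact Or.inl ((Nat.prime_dvd_prime_iff_eq hr Nat.prime_two).mp (hr.dvd_of_dvd_pow h))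
      · exact Or.inr ((Nat.prime_dvd_prime_iff_eq hr Nat.prime_three).mp h)
    rcases hr' with rfl | rfl
    · exact Or.inr (Or.inr (Or.inr (Or.inr (Or.inr (Or.inr (Or.inr (Or.inl
        ⟨K, hK, eq_inf hH hle (not_le_field hQ (by omega) hK le_rfl)⟩)))))))
    · exact Or.inr (Or.inr (Or.inr (Or.inr (Or.inr (Or.inr (Or.inr (Or.inr (Or.inl
        ⟨K, hK, eq_inf hH hle (not_le_field hQ (by omega) hK (by norm_num))⟩))))))))
  · exact hpf h
  · obtain rfl : l = 6 := by omega
    by_cases hq : Fintype.card F = 2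
    · exact hpf (tensor_two_pairOrField hQ hq hdata)
    obtain ⟨e, P, f₁, f₂, h1, h2', hf, hpure, hle⟩ := hdata
    have hq3 : 3 ≤ Fintype.card F := by
      have := Fintype.one_lt_card (α := F)
      omega
    exact Or.inr (Or.inr (Or.inr (Or.inr (Or.inr (Or.inr (Or.inr (Or.inr (Or.inr (Or.inr (Or.inl
      ⟨hq3, e, P, f₁, f₂, h1, h2', hf, fun x w => hpure x w,
        eq_inf hH hle (not_le_tensor_symp hQ (by omega) (by norm_num) h1 h2' hf hpure)⟩))))))))))
  · exact hsub hr hq hζ hP hle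
  · omega
  · exact Or.inr (Or.inr (Or.inr (Or.inr (Or.inr (Or.inr (Or.inr (Or.inr (Or.inr (Or.inr (Or.inr (Or.inr h)))))))))))

theorem twelve_minus_even (heven : ¬ Odd (Fintype.card F)) (hn : Fintype.card ι = 12) (hminus : ¬ IsPlusTypeOn Q ⊤)
    {H : Subgroup (GL ι F)} (hH : IsMaximalIn (omegaGL Q) H) (hirr : Irred H) : MinusTwelveMember Q H := by
  haveI : Nonempty ι := Fintype.card_pos_iff.mp (by omega)
  have hn' : Fintype.card ι = 2 * 6 := by omega
  have h2 := two_eq_zero heven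
  rcases even_irred hQ heven hn' (Or.inr (Or.inr rfl)) hH.1.le hirr with ⟨t, k, D, ⟨j, hj⟩, hD, hle⟩ |
    ⟨r, K, hr, hdvd, hK, -, -, hle⟩ | h | ⟨l, hl, -, hdata⟩ | ⟨F₀, r, P, ζ, hr, hq, hζ, hP, hle⟩ | ⟨h8, -⟩ | h
  · have htk := Cfsg.Agent.Lib.Subspaces.Decomposition.card_eq hD.decomp.decomp
    rw [hn] at htk
    have ht := hD.decomp.decomp.two_le
    have hpos := hD.decomp.decomp.pos
    obtain rfl : k = 2 * j := by omega
    have hj3 : j ≤ 3 := by nlinarith
    have hj1 : 1 ≤ j := by omega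
    interval_cases j
    · exact absurd ((decomposition_type hQ (j := 1) hD ⟨0, by omega⟩).1 ⟨3, by omega⟩) hminus
    · obtain rfl : t = 3 := by omega
      exact Or.inl ⟨D, hD, fun i h => hminus (((decomposition_type hQ (j := 2) hD i).2 (by decide)).mpr h),
        eq_inf hH hle (not_le_decomp_two hQ (by omega) h2 (by norm_num) hD)⟩
    · exact absurd ((decomposition_type hQ (j := 3) hD ⟨0, by omega⟩).1 ⟨1, by omega⟩) hminus
  · rw [hn] at hdvd
    have hr' : r = 2 ∨ r = 3 := by
      rcases (Nat.Prime.dvd_mul hr).mp (show r ∣ 2 ^ 2 * 3 from hdvd) with h | h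
      · exact Or.inl ((Nat.prime_dvd_prime_iff_eq hr Nat.prime_two).mp (hr.dvd_of_dvd_pow h))
      · exact Or.inr ((Nat.prime_dvd_prime_iff_eq hr Nat.prime_three).mp h)
    rcases hr' with rfl | rfl
    · exact Or.inr (Or.inl ⟨K, hK, eq_inf hH hle (not_le_field hQ (by omega) hK le_rfl)⟩)
    · exact Or.inr (Or.inr (Or.inl ⟨K, hK, eq_inf hH hle (not_le_field hQ (by omega) hK (by norm_num))⟩))
  · exact absurd (pairOrField_plus hQ hn' (by decide) h) hminus
  · obtain ⟨e, P, f₁, f₂, -, -, -, hpure, -⟩ := hdata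
    exact absurd (plus_of_pure hQ hpure) hminus
  · exact Or.inr (Or.inr (Or.inr (Or.inr (Or.inl ⟨F₀, r, P, ζ, hr, odd_index hQ hn' hminus hr hq hζ hP, hq, hζ, hP,
      eq_inf hH hle (not_le_subfield hQ (by omega) (Cfsg.Agent.Lib.AschbacherSp.subfield_ne_top hr hq) P)⟩))))
  · omega
  · exact Or.inr (Or.inr (Or.inr (Or.inr (Or.inr h))))

/-- In plus type a non-degenerate half and its complement form an isometric decomposition. -/
theorem half_pair_plus {m : ℕ} (hn : Fintype.card ι = 2 * m) (hm : Even m) (hpos : 0 < m) (hplus : IsPlusTypeOn Q ⊤)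
    {W : Submodule F (ι → F)} (hW : IsNondegenerateOn B W) (hd : finrank F W = m) :
    IsOrthogonalMDecomposition Q m ![W, Cfsg.Agent.Lib.Subspaces.OrthNondeg.perpQ hQ W] := by
  obtain ⟨k, hk⟩ := hm
  have hD := (pair_decomp hQ hn hpos hW hd).1
  have hWp := Cfsg.Agent.Lib.Subspaces.OrthNondeg.perpQ_nondeg (hQ := hQ) hW
  have hdim := Cfsg.Agent.Lib.Subspaces.OrthNondeg.finrank_add_perpQ (hQ := hQ) hW
  have hiff : IsPlusTypeOn Q W ↔ IsPlusTypeOn Q (Cfsg.Agent.Lib.Subspaces.OrthNondeg.perpQ hQ W) := by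
    refine ⟨fun h => (plus_iff_of_plus hQ hW h).mp hplus, fun h => ?_⟩
    have := (plus_iff_of_plus hQ hWp h).mp hplus
    rwa [Cfsg.Agent.Lib.Subspaces.OrthNondeg.perpQ_perpQ] at this
  refine ⟨hD, fun i j => ?_⟩
  have h1 : finrank F W = 2 * k := by omega
  have h2' : finrank F (Cfsg.Agent.Lib.Subspaces.OrthNondeg.perpQ hQ W) = 2 * k := by omega
  fin_cases i <;> fin_cases j
  · exact isometric_of_type hQ hW hW h1 h1 Iff.rfl
  · exact isometric_of_type hQ hW hWp h1 h2' hiff
  · exact isometric_of_type hQ hWp hW h2' h1 hiff.symm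
  · exact isometric_of_type hQ hWp hWp h2' h2' Iff.rfl

end Cfsg.Agent.Lib.AschbacherEvenDim
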