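import Cfsg.Agent.Lib.AschbacherEvenDim.Disc

/-!
Frames and the non-degenerate planes over small fields.
-/

set_option autoImplicit false
set_option linter.unusedSectionVars false

namespace Cfsg.Agent.Lib.AschbacherEvenDim

open Cfsg.Geo Module QuadraticMap Cfsg.Agent.Lib.Subspaces.OrthForm Cfsg.Agent.Lib.Subspaces.OrthNondeg
open Cfsg.Agent.Lib.PrimeDim.Basic Cfsg.Agent.Lib.Aschbacher
open Cfsg.Agent.Lib.Subspaces.OmegaGL (omega_isometry)
open scoped Matrix MatrixGroups

variable {ι : Type} [Fintype ι] [DecidableEq ι] {F : Type*} [Field F] [Fintype F] {Q : (ι → F) → F}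
  (hQ : IsNondegenerateQuadraticForm Q)
include hQ

local notation "B" => QuadraticMap.polar Q

/-- An orthogonal frame with one value whose lines are permuted. -/
theorem frame_decomp {N : ℕ} (hN : N = Fintype.card ι) (h2N : 2 ≤ N) {v : Fin N → ι → F} {κ c : F} (hκ : κ ≠ 0)
    (hvv : ∀ p q, B (v p) (v q) = if p = q then κ else 0) (hvQ : ∀ p, Q (v p) = c) {H : Subgroup (GL ι F)}
    (hmap : ∀ h ∈ H, ∀ p, ∃ (q : Fin N) (a : F), (h : Matrix ι ι F) *ᵥ v p = a • v q) :
    IsOrthogonalMDecomposition Q 1 (fun p => Submodule.span F {v p}) ∧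
      H ≤ decompositionStabilizer fun p => Submodule.span F {v p} := by
  classical
  have hb := hQ.polar_bilinear
  have hv0 : ∀ p, v p ≠ 0 := fun p h => hκ (by
    have := hvv p p
    rw [if_pos rfl, h, zero_right hQ] at this
    exact this.symm)
  have hli : LinearIndependent F v := by
    rw [Fintype.linearIndependent_iff]
    intro a ha p
    let L : (ι → F) →ₗ[F] F :=
      { toFun := B (v p), map_add' := fun x y => hb.add_right _ x y, map_smul' := fun c x => hb.smul_right c _ x }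
    have hL : ∀ q, L (v q) = if p = q then κ else 0 := fun q => hvv p q
    have h := congrArg L ha
    rw [map_sum, map_zero, Finset.sum_eq_single p (fun j _ hj => by
      rw [map_smul, hL, if_neg (Ne.symm hj), smul_zero]) (by simp), map_smul, hL,
      if_pos rfl, smul_eq_mul] at h
    exact (mul_eq_zero.mp h).resolve_right hκ
  refine ⟨⟨⟨⟨h2N, one_pos, fun p => finrank_span_singleton (hv0 p), hli.iSupIndep_span_singleton, ?_⟩,
    fun p => ?_, fun p q hpq => ?_⟩, fun p q => ?_⟩, fun g hg => ?_⟩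
  · show ⨆ p, Submodule.span F {v p} = ⊤
    rw [← Submodule.span_range_eq_iSup]
    refine Submodule.eq_top_of_finrank_eq ?_
    rw [finrank_span_eq_card hli, Fintype.card_fin, hN, Module.finrank_fintype_fun_eq_card]
  · intro w hw hw0
    obtain ⟨a, rfl⟩ := Submodule.mem_span_singleton.mp hw
    have ha : a ≠ 0 := fun h => hw0 (by rw [h, zero_smul])
    refine ⟨⟨_, Submodule.mem_span_singleton_self _, ?_⟩, ⟨_, Submodule.mem_span_singleton_self _, ?_⟩⟩
    · rw [hb.smul_right, hvv, if_pos rfl]; exact mul_ne_zero ha hκ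
    · rw [hb.smul_left, hvv, if_pos rfl]; exact mul_ne_zero ha hκ
  · intro x hx y hy
    obtain ⟨a, rfl⟩ := Submodule.mem_span_singleton.mp hx
    obtain ⟨d, rfl⟩ := Submodule.mem_span_singleton.mp hy
    rw [hb.smul_left, hb.smul_right, hvv, if_neg hpq, mul_zero, mul_zero]
  · refine ⟨(LinearEquiv.toSpanNonzeroSingleton F _ _ (hv0 p)).symm.trans
      (LinearEquiv.toSpanNonzeroSingleton F _ _ (hv0 q)), fun w => ?_⟩
    obtain ⟨a, rfl⟩ := (LinearEquiv.toSpanNonzeroSingleton F _ _ (hv0 p)).surjective w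
    rw [LinearEquiv.trans_apply, LinearEquiv.symm_apply_apply]
    show Q (a • v q) = Q (a • v p)
    rw [hQ.smul, hQ.smul, hvQ, hvQ]
  choose τ a hτ using hmap g hg
  have ha : ∀ p, a p ≠ 0 := fun p h => hv0 p (by
    rw [← inv_mulVec_cancel g (v p), hτ, h, zero_smul, Matrix.mulVec_zero])
  have hinj : Function.Injective τ := by
    intro p q h
    by_contra hne
    have hpq : v p = (a p * (a q)⁻¹) • v q := by
      have e : (g : Matrix ι ι F) *ᵥ v p = (g : Matrix ι ι F) *ᵥ ((a p * (a q)⁻¹) • v q) := by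
        rw [Matrix.mulVec_smul, hτ, hτ, smul_smul, mul_assoc, inv_mul_cancel₀ (ha q), mul_one, h]
      simpa [inv_mulVec_cancel] using congrArg (fun w => ((g⁻¹ : GL ι F) : Matrix ι ι F) *ᵥ w) e
    have h3 := hvv p q
    rw [if_neg hne, hpq, hb.smul_left, hvv, if_pos rfl] at h3
    exact mul_ne_zero (mul_ne_zero (ha p) (inv_ne_zero (ha q))) hκ h3
  refine ⟨Equiv.ofBijective τ (Finite.injective_iff_bijective.mp hinj), fun p => ?_⟩
  show (Submodule.span F {v p}).map _ = Submodule.span F {v (τ p)}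
  rw [Submodule.map_span, Set.image_singleton, Matrix.toLin'_apply, hτ,
    Submodule.span_singleton_smul_eq (isUnit_iff_ne_zero.mpr (ha _))]

/-- A hyperbolic pair in a plane of plus type. -/
theorem plane_pair {W : Submodule F (ι → F)} (hd : finrank F W = 2) (hW : IsNondegenerateOn B W)
    (hp : IsPlusTypeOn Q W) :
    ∃ e f : ι → F, e ∈ W ∧ f ∈ W ∧ Q e = 0 ∧ Q f = 0 ∧ B e f = 1 ∧
      (∀ a b : F, Q (a • e + b • f) = a * b) ∧ ∀ x ∈ W, ∃ a b : F, x = a • e + b • f := by
  obtain ⟨U, hUW, hU, hUd⟩ := hp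
  have hb := hQ.polar_bilinear
  obtain ⟨e, he, he0⟩ := Submodule.exists_mem_ne_zero_of_ne_bot (p := U) fun h => by
    rw [h, finrank_bot, hd] at hUd; omega
  have heQ := hU e he
  have hee : B e e = 0 := by rw [B_self hQ, heQ, mul_zero]
  obtain ⟨f₀, hf₀, hne⟩ := (hW e (hUW he) he0).2
  obtain ⟨f₁, hf₁⟩ : ∃ z, z = (B e f₀)⁻¹ • f₀ := ⟨_, rfl⟩
  have hef1 : B e f₁ = 1 := by rw [hf₁, hb.smul_right, inv_mul_cancel₀ hne]
  obtain ⟨f, hf⟩ : ∃ z, z = f₁ + (-Q f₁) • e := ⟨_, rfl⟩
  have hfW : f ∈ W := hf ▸ W.add_mem (hf₁ ▸ W.smul_mem _ hf₀) (W.smul_mem _ (hUW he))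
  have hef : B e f = 1 := by rw [hf, hb.add_right, hb.smul_right, hef1, hee, mul_zero, add_zero]
  have hfQ : Q f = 0 := by
    rw [hf, Q_add (Q := Q), hQ.smul, heQ, hb.smul_right, B_comm f₁ e, hef1]
    ring
  have hQab : ∀ a b : F, Q (a • e + b • f) = a * b := fun a b => by
    rw [Q_add (Q := Q), hQ.smul, hQ.smul, heQ, hfQ, hb.smul_left, hb.smul_right, hef]
    ring
  have hli : LinearIndependent F ![e, f] := LinearIndependent.pair_iff.mpr fun a b hab => by
    have h1 := congrArg (B e) hab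
    rw [hb.add_right, hb.smul_right, hb.smul_right, hee, hef, zero_right hQ, mul_zero, zero_add, mul_one] at h1
    refine ⟨?_, h1⟩
    rw [h1, zero_smul, add_zero] at hab
    exact (smul_eq_zero.mp hab).resolve_right he0
  have hsp : Submodule.span F (Set.range ![e, f]) = W := by
    refine Submodule.eq_of_le_of_finrank_le (Submodule.span_le.mpr ?_) (by
      rw [hd, finrank_span_eq_card hli, Fintype.card_fin])
    rintro _ ⟨k, rfl⟩
    fin_cases k <;> [exact hUW he; exact hfW]
  refine ⟨e, f, hUW he, hfW, heQ, hfQ, hef, hQab, fun x hx => ?_⟩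
  rw [← hsp, Submodule.mem_span_range_iff_exists_fun] at hx
  obtain ⟨c, hc⟩ := hx
  exact ⟨c 0, c 1, by rw [← hc, Fin.sum_univ_two]; simp⟩

omit hQ [DecidableEq ι] [Fintype ι] in
theorem five_facts (hq : Fintype.card F = 5) :
    (5 : F) = 0 ∧ ∀ x : F, x = 0 ∨ x = 1 ∨ x = -1 ∨ x = 2 ∨ x = -2 := by
  have h5 : (5 : F) = 0 := by
    have := FiniteField.cast_card_eq_zero F
    rw [hq] at this
    exact_mod_cast this
  refine ⟨h5, fun x => ?_⟩
  have h := FiniteField.pow_card x
  rw [hq] at h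
  rcases mul_eq_zero.mp (show x * ((x - 1) * ((x + 1) * ((x - 2) * (x + 2)))) = 0 by
    linear_combination h + (x - x ^ 3) * h5) with h | h
  · exact Or.inl h
  rcases mul_eq_zero.mp h with h | h
  · exact Or.inr (Or.inl (sub_eq_zero.mp h))
  rcases mul_eq_zero.mp h with h | h
  · exact Or.inr (Or.inr (Or.inl (eq_neg_of_add_eq_zero_left h)))
  rcases mul_eq_zero.mp h with h | h
  · exact Or.inr (Or.inr (Or.inr (Or.inl (sub_eq_zero.mp h))))
  · exact Or.inr (Or.inr (Or.inr (Or.inr (eq_neg_of_add_eq_zero_left h))))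

/-- Over five elements a plane of plus type has two orthogonal lines of value one. -/
theorem plus_plane_five (hq : Fintype.card F = 5) {W : Submodule F (ι → F)} (hd : finrank F W = 2)
    (hW : IsNondegenerateOn B W) (hp : IsPlusTypeOn Q W) :
    ∃ u : Fin 2 → ι → F, (∀ l, u l ∈ W ∧ Q (u l) = 1) ∧ B (u 0) (u 1) = 0 ∧
      ∀ x ∈ W, Q x = 1 → ∃ (l : Fin 2) (a : F), x = a • u l := by
  obtain ⟨h5, hF⟩ := five_facts hq
  obtain ⟨e, f, he, hf, heQ, hfQ, hef, hQab, hW'⟩ := plane_pair hQ hd hW hp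
  have hb := hQ.polar_bilinear
  refine ⟨![(1 : F) • e + (1 : F) • f, (2 : F) • e + (-2 : F) • f], fun l => ?_, ?_, fun x hx hQx => ?_⟩
  · fin_cases l
    · exact ⟨W.add_mem (W.smul_mem _ he) (W.smul_mem _ hf), (hQab 1 1).trans (one_mul 1)⟩
    · exact ⟨W.add_mem (W.smul_mem _ he) (W.smul_mem _ hf), (hQab 2 (-2)).trans (by linear_combination (-1 : F) * h5)⟩
  · simp only [Matrix.cons_val_zero, Matrix.cons_val_one, Matrix.cons_val_fin_one, hb.add_left, hb.add_right,
      hb.smul_left, hb.smul_right, B_self hQ, heQ, hfQ, hef, B_comm f e]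
    ring
  · obtain ⟨a, b, rfl⟩ := hW' x hx
    rw [hQab] at hQx
    have hne : ∀ y : F, y ≠ 0 → y * b = 1 → b = y⁻¹ := fun y _ h => eq_inv_of_mul_eq_one_right h
    have hinv : ∀ y z : F, y * z = 1 → y * b = 1 → b = z := fun y z h h' => by
      calc b = (y * z) * b := by rw [h, one_mul]
        _ = z * (y * b) := by ring
        _ = z := by rw [h', mul_one]
    rcases hF a with rfl | rfl | rfl | rfl | rfl
    · rw [zero_mul] at hQx; exact absurd hQx zero_ne_one
    · exact ⟨0, 1, by rw [hinv 1 1 (one_mul 1) hQx]; simp⟩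
    · exact ⟨0, -1, by rw [hinv (-1) (-1) (by ring) hQx]; simp⟩
    · exact ⟨1, 1, by rw [hinv 2 (-2) (by linear_combination (-1 : F) * h5) hQx]; simp⟩
    · exact ⟨1, -1, by rw [hinv (-2) 2 (by linear_combination (-1 : F) * h5) hQx]; simp⟩

/-- Over three elements a plane of plus type has one line of value one. -/
theorem plus_plane_three (hq : Fintype.card F = 3) {W : Submodule F (ι → F)} (hd : finrank F W = 2)
    (hW : IsNondegenerateOn B W) (hp : IsPlusTypeOn Q W) :
    ∃ u : ι → F, (u ∈ W ∧ Q u = 1) ∧ ∀ x ∈ W, Q x = 1 → ∃ a : F, x = a • u := by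
  obtain ⟨-, hF⟩ := Cfsg.Agent.Lib.AschbacherSp.three_facts hq
  obtain ⟨e, f, he, hf, heQ, hfQ, hef, hQab, hW'⟩ := plane_pair hQ hd hW hp
  refine ⟨(1 : F) • e + (1 : F) • f, ⟨W.add_mem (W.smul_mem _ he) (W.smul_mem _ hf), (hQab 1 1).trans (one_mul 1)⟩,
    fun x hx hQx => ?_⟩
  obtain ⟨a, b, rfl⟩ := hW' x hx
  rw [hQab] at hQx
  rcases hF a with rfl | rfl | rfl
  · rw [zero_mul] at hQx; exact absurd hQx zero_ne_one
  · exact ⟨1, by rw [one_mul] at hQx; rw [hQx]; simp⟩
  · exact ⟨-1, by rw [show b = -1 by linear_combination -hQx]; simp⟩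

/-- Over three elements a plane of minus type has two orthogonal lines of value one. -/
theorem minus_plane_three (hq : Fintype.card F = 3) {W : Submodule F (ι → F)} (hd : finrank F W = 2)
    (hW : IsNondegenerateOn B W) (hm : ¬ IsPlusTypeOn Q W) :
    ∃ u : Fin 2 → ι → F, (∀ l, u l ∈ W ∧ Q (u l) = 1) ∧ B (u 0) (u 1) = 0 ∧
      ∀ x ∈ W, Q x = 1 → ∃ (l : Fin 2) (a : F), x = a • u l := by
  obtain ⟨h3, hF⟩ := Cfsg.Agent.Lib.AschbacherSp.three_facts hq
  have hb := hQ.polar_bilinear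
  have h2 : (2 : F) ≠ 0 := fun h => one_ne_zero (show (1 : F) = 0 by linear_combination h3 - h)
  have han : ∀ x ∈ W, x ≠ 0 → Q x ≠ 0 := fun x hx hx0 h => hm ⟨Submodule.span F {x},
    (Submodule.span_singleton_le_iff_mem _ _).mpr hx, fun y hy => by
      obtain ⟨a, rfl⟩ := Submodule.mem_span_singleton.mp hy
      rw [hQ.smul, h, mul_zero], by rw [finrank_span_singleton hx0, hd]⟩
  have horth : ∀ x ∈ W, x ≠ 0 → ∃ y ∈ W, y ≠ 0 ∧ B y x = 0 := fun x _ _ => by
    have h1 := inf_perp_ge (hQ := hQ) W (Submodule.span F {x})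
    have h4 : finrank F (Submodule.span F ({x} : Set (ι → F))) ≤ 1 := by
      refine le_trans (finrank_span_le_card _) ?_
      simp
    obtain ⟨y, hy, hy0⟩ := Submodule.exists_mem_ne_zero_of_ne_bot (p := W ⊓ perpQ hQ (Submodule.span F {x}))
      fun h => by rw [h, finrank_bot] at h1; omega
    exact ⟨y, hy.1, hy0, hy.2 x (Submodule.mem_span_singleton_self x)⟩
  obtain ⟨v, hv, hv1⟩ : ∃ v ∈ W, Q v = 1 := by
    obtain ⟨x, hx, hx0⟩ := Submodule.exists_mem_ne_zero_of_ne_bot (p := W) fun h => by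
      rw [h, finrank_bot] at hd; omega
    rcases (hF (Q x)).resolve_left (han x hx hx0) with h | h
    · exact ⟨x, hx, h⟩
    obtain ⟨y, hy, hy0, hyx⟩ := horth x hx hx0
    rcases (hF (Q y)).resolve_left (han y hy hy0) with h' | h'
    · exact ⟨y, hy, h'⟩
    · exact ⟨x + y, W.add_mem hx hy, by
        rw [Q_add (Q := Q), h, h', B_comm, hyx]; linear_combination (-1 : F) * h3⟩
  have hv0 : v ≠ 0 := fun h => one_ne_zero (α := F) (by rw [← hv1, h, Q_zero hQ])
  obtain ⟨w, hw, hw0, hwv⟩ := horth v hv hv0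
  have hli : LinearIndependent F ![v, w] := LinearIndependent.pair_iff.mpr fun a b hab => by
    have h1 := congrArg (B v) hab
    rw [hb.add_right, hb.smul_right, hb.smul_right, B_comm v w, hwv, mul_zero, add_zero, zero_right hQ, B_self hQ,
      hv1, mul_one] at h1
    have ha := (mul_eq_zero.mp h1).resolve_right h2
    rw [ha, zero_smul, zero_add] at hab
    exact ⟨ha, (smul_eq_zero.mp hab).resolve_right hw0⟩
  have hw1 : Q w = 1 := by
    rcases (hF (Q w)).resolve_left (han w hw hw0) with h | h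
    · exact h
    refine absurd (show Q (v + w) = 0 by rw [Q_add (Q := Q), hv1, h, B_comm, hwv]; ring)
      (han _ (W.add_mem hv hw) fun h0 => ?_)
    exact one_ne_zero (LinearIndependent.pair_iff.mp hli 1 1 (by rw [one_smul, one_smul, h0])).1
  have hsp : Submodule.span F (Set.range ![v, w]) = W := by
    refine Submodule.eq_of_le_of_finrank_le (Submodule.span_le.mpr ?_) (by
      rw [hd, finrank_span_eq_card hli, Fintype.card_fin])
    rintro _ ⟨k, rfl⟩
    fin_cases k <;> assumption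
  refine ⟨![v, w], fun l => by fin_cases l <;> [exact ⟨hv, hv1⟩; exact ⟨hw, hw1⟩], by
    show B v w = 0
    rw [B_comm, hwv], fun x hx hQx => ?_⟩
  rw [← hsp, Submodule.mem_span_range_iff_exists_fun] at hx
  obtain ⟨c, rfl⟩ := hx
  simp only [Fin.sum_univ_two, Matrix.cons_val_zero, Matrix.cons_val_one, Matrix.cons_val_fin_one] at hQx ⊢
  rw [Q_add (Q := Q), hQ.smul, hQ.smul, hv1, hw1, hb.smul_left, hb.smul_right, B_comm v w, hwv] at hQx
  by_cases h0 : c 0 = 0
  · exact ⟨1, c 1, by rw [h0]; simp⟩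
  refine ⟨0, c 0, ?_⟩
  have h1 : c 1 = 0 := by
    rcases hF (c 0) with e | e | e
    · exact absurd e h0
    all_goals
      rw [e] at hQx
      exact mul_self_eq_zero.mp (show c 1 * c 1 = 0 by linear_combination hQx)
  rw [h1]; simp

/-- Planes with two lines of value one each give a frame of lines. -/
theorem planes_to_lines (hodd : Odd (Fintype.card F)) {t : ℕ} {D : Fin t → Submodule F (ι → F)}
    (hD : IsOrthogonalMDecomposition Q 2 D) {u : Fin t → Fin 2 → ι → F} (hu : ∀ i l, u i l ∈ D i ∧ Q (u i l) = 1)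
    (ho : ∀ i, B (u i 0) (u i 1) = 0) (huniq : ∀ i, ∀ x ∈ D i, Q x = 1 → ∃ (l : Fin 2) (a : F), x = a • u i l)
    {H : Subgroup (GL ι F)} (hH : H ≤ omegaGL Q) (hle : H ≤ decompositionStabilizer D) :
    ∃ D' : Fin (Fintype.card ι) → Submodule F (ι → F), IsOrthogonalMDecomposition Q 1 D' ∧
      H ≤ decompositionStabilizer D' := by
  classical
  have hd := hD.decomp.decomp
  have hcard := Cfsg.Agent.Lib.Subspaces.Decomposition.card_eq hd
  let π : Fin (Fintype.card ι) ≃ Fin t × Fin 2 := (finCongr hcard).trans finProdFinEquiv.symm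
  let v : Fin t × Fin 2 → ι → F := fun p => u p.1 p.2
  have h2 := Cfsg.Agent.Lib.AschbacherSp.two_ne_zero' hodd
  have hvv : ∀ p q : Fin t × Fin 2, B (v p) (v q) = if p = q then (2 : F) else 0 := by
    rintro ⟨i, l⟩ ⟨j, k⟩
    rcases eq_or_ne i j with rfl | hij
    · rcases eq_or_ne l k with rfl | hlk
      · simp [v, B_self hQ, (hu i l).2]
      · fin_cases l <;> fin_cases k
        all_goals first
          | exact absurd rfl hlk
          | simp [v, ho, B_comm (u i 1) (u i 0)]
    · rw [hD.decomp.orthogonal i j hij _ (hu i l).1 _ (hu j k).1, if_neg (by simp [hij])]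
  obtain ⟨hA, hB'⟩ := frame_decomp hQ (N := Fintype.card ι) rfl (by rw [hcard]; have := hd.two_le; omega)
    (v := v ∘ π) (κ := 2) (c := 1) h2 (fun p q => by
      simp only [Function.comp_apply, hvv, π.injective.eq_iff]) (fun p => (hu _ _).2) (H := H) fun h hh p => by
      obtain ⟨σ, hσ⟩ := hle hh
      obtain ⟨l, a, ha⟩ := huniq (σ (π p).1) ((h : Matrix ι ι F) *ᵥ v (π p)) (by
        rw [← hσ (π p).1, ← Matrix.toLin'_apply]
        exact Submodule.mem_map_of_mem (hu _ _).1) ((omega_isometry hQ (hH hh) _).trans (hu _ _).2)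
      exact ⟨π.symm (σ (π p).1, l), a, by simpa [v] using ha⟩
  exact ⟨_, hA, hB'⟩

/-- Planes with one line of value one each span an invariant subspace. -/
theorem planes_reducible {t : ℕ} {D : Fin t → Submodule F (ι → F)} (hD : IsMDecomposition 2 D) {u : Fin t → ι → F}
    (hu : ∀ i, u i ∈ D i ∧ Q (u i) = 1) (huniq : ∀ i, ∀ x ∈ D i, Q x = 1 → ∃ a : F, x = a • u i)
    {H : Subgroup (GL ι F)} (hH : H ≤ omegaGL Q) (hle : H ≤ decompositionStabilizer D) : ¬ Irred H := by
  intro hirr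
  have hcard := Cfsg.Agent.Lib.Subspaces.Decomposition.card_eq hD
  have ht := hD.two_le
  rcases hirr (Submodule.span F (Set.range u)) (fun h hh x hx => by
    induction hx using Submodule.span_induction with
    | mem y hy =>
      obtain ⟨i, rfl⟩ := hy
      obtain ⟨σ, hσ⟩ := hle hh
      obtain ⟨a, ha⟩ := huniq (σ i) ((h : Matrix ι ι F) *ᵥ u i) (by
        rw [← hσ i, ← Matrix.toLin'_apply]
        exact Submodule.mem_map_of_mem (hu i).1) ((omega_isometry hQ (hH hh) _).trans (hu i).2)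
      rw [ha]
      exact Submodule.smul_mem _ _ (Submodule.subset_span ⟨σ i, rfl⟩)
    | zero => rw [Matrix.mulVec_zero]; exact zero_mem _
    | add a b _ _ ha hb => rw [Matrix.mulVec_add]; exact add_mem ha hb
    | smul c a _ ha => rw [Matrix.mulVec_smul]; exact Submodule.smul_mem _ c ha) with h | h
  · have h0 : u ⟨0, by omega⟩ = 0 := (Submodule.mem_bot F).mp (h ▸ Submodule.subset_span ⟨_, rfl⟩)
    have := (hu ⟨0, by omega⟩).2
    rw [h0, Q_zero hQ] at this
    exact zero_ne_one this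
  · have := finrank_range_le_card (R := F) u
    rw [Set.finrank, h, finrank_top, Module.finrank_fintype_fun_eq_card, Fintype.card_fin] at this
    omega

end Cfsg.Agent.Lib.AschbacherEvenDim
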