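import Cfsg.Agent.Lib.AschbacherEvenDim.OddTools
import Cfsg.Agent.Lib.AschbacherEvenDim.Planes
import Cfsg.Agent.Lib.Orth52.Discriminant

/-!
Decompositions in odd characteristic: frames, lines over a subfield, halves of dimension five.
-/

set_option autoImplicit false
set_option linter.unusedSectionVars false

namespace Cfsg.Agent.Lib.AschbacherEvenDim

open Cfsg.Geo Module QuadraticMap Cfsg.Agent.Lib.Subspaces.OrthForm Cfsg.Agent.Lib.Subspaces.OrthNondeg
open Cfsg.Agent.Lib.PrimeDim.Basic Cfsg.Agent.Lib.PrimeDim.Fields Cfsg.Agent.Lib.Aschbacher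
open Cfsg.Agent.Lib.AschbacherOrth (sym_gram gram_eq eq_half exists_frame_odd)
open Cfsg.Agent.Lib.AschbacherSp (gramForm_single two_ne_zero')
open Cfsg.Agent.Lib.Subspaces.OmegaGL (omega_isometry)
open Cfsg.Agent.Lib.Forms
open scoped Matrix MatrixGroups

variable {ι : Type} [Fintype ι] [DecidableEq ι] {F : Type*} [Field F] [Fintype F] {Q : (ι → F) → F}
  (hQ : IsNondegenerateQuadraticForm Q)
include hQ

local notation "B" => QuadraticMap.polar Q
local notation "G₀" => gramMatrix (QuadraticMap.polar Q)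

/-- Members of odd dimension carry a common frame. -/
theorem odd_frame (hodd : Odd (Fintype.card F)) {t k : ℕ} (hk : Odd k) {D : Fin t → Submodule F (ι → F)}
    (hD : IsOrthogonalMDecomposition Q k D) :
    ∃ (κ : F) (v : Fin t × Fin k → ι → F), κ ≠ 0 ∧ (∀ p, v p ∈ D p.1) ∧
      ∀ p q, B (v p) (v q) = if p = q then κ else 0 := by
  classical
  have hb := hQ.polar_bilinear
  have hd := hD.decomp.decomp
  let i₀ : Fin t := ⟨0, by have := hd.two_le; omega⟩
  let b := Module.finBasisOfFinrankEq F (D i₀) (hd.finrank_eq i₀)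
  let T : Matrix ι (Fin k) F := Matrix.of fun r p => (b p : ι → F) r
  have hT : ∀ x, T *ᵥ x = ((∑ p, x p • b p : D i₀) : ι → F) := fun x => by
    funext r
    simp [T, Matrix.mulVec, dotProduct, mul_comm]
  set A := Tᵀ * G₀ * T with hA
  have hAf : ∀ x y, gramForm A x y = B (T *ᵥ x) (T *ᵥ y) := fun x y => by
    have h' : gramForm A x y = gramForm G₀ (T *ᵥ x) (T *ᵥ y) := by
      simp only [hA, gramForm, ← Matrix.mulVec_mulVec, Matrix.dotProduct_mulVec x Tᵀ, Matrix.vecMul_transpose]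
    rwa [gram_eq hQ] at h'
  have hAs : Aᵀ = A := by
    rw [hA, Matrix.transpose_mul, Matrix.transpose_mul, Matrix.transpose_transpose, (sym_gram hQ).symm,
      Matrix.mul_assoc]
  have hAd : A.det ≠ 0 := by
    intro h
    obtain ⟨w, hw0, hw⟩ := Matrix.exists_mulVec_eq_zero_iff.mpr h
    have hu0 : T *ᵥ w ≠ 0 := fun h0 => by
      rw [hT, Submodule.coe_eq_zero] at h0
      exact hw0 (funext (Fintype.linearIndependent_iff.mp b.linearIndependent w h0))
    obtain ⟨x, hx, hne⟩ := (hD.decomp.nondegenerate i₀ (T *ᵥ w) (by rw [hT]; exact Submodule.coe_mem _) hu0).1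
    apply hne
    have hxT : x = T *ᵥ b.repr ⟨x, hx⟩ := by rw [hT, b.sum_repr]
    rw [hxT, ← hAf, gramForm, hw, dotProduct_zero]
  obtain ⟨M, κ, hκ, hM⟩ := exists_frame_odd hodd hk hAs hAd
  let u : Fin k → ι → F := fun l => T *ᵥ (M *ᵥ Pi.single l 1)
  have huD : ∀ l, u l ∈ D i₀ := fun l => by simp only [u, hT]; exact Submodule.coe_mem _
  have huu : ∀ l m, B (u l) (u m) = if l = m then κ else 0 := fun l m => by
    rw [← hAf, gramForm_apply, hM, gramForm_single]
    simp [Matrix.one_apply]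
  choose e he using fun i => hD.isometric i₀ i
  let v : Fin t × Fin k → ι → F := fun p => ((e p.1 ⟨u p.2, huD p.2⟩ : D p.1) : ι → F)
  have heB : ∀ i (x y : D i₀), B ((e i x : D i) : ι → F) ((e i y : D i) : ι → F) = B (x : ι → F) (y : ι → F) :=
    fun i x y => by
      rw [QuadraticMap.polar, QuadraticMap.polar, ← Submodule.coe_add, ← map_add, he, he, he, Submodule.coe_add]
  refine ⟨κ, v, hκ, fun p => Submodule.coe_mem _, ?_⟩
  rintro ⟨i, l⟩ ⟨j, m⟩
  rcases eq_or_ne i j with rfl | hij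
  · rw [heB i ⟨u l, huD l⟩ ⟨u m, huD m⟩, huu]
    simp
  · rw [hD.decomp.orthogonal i j hij _ (Submodule.coe_mem (e i ⟨u l, huD l⟩)) _
      (Submodule.coe_mem (e j ⟨u m, huD m⟩)), if_neg (by simp [hij])]

/-- An even number of isometric members of odd dimension. -/
theorem odd_members_type (hodd : Odd (Fintype.card F)) {m : ℕ} (hn : Fintype.card ι = 2 * m) {t k : ℕ} (hk : Odd k)
    {D : Fin t → Submodule F (ι → F)} (hD : IsOrthogonalMDecomposition Q k D) :
    IsPlusTypeOn Q ⊤ ↔ IsSquare ((-1 : F) ^ m) := by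
  obtain ⟨κ, v, hκ, -, hvv⟩ := odd_frame hQ hodd hk hD
  refine plus_iff_of_lines hQ hodd hn (κ := Fin t × Fin k) ?_ hκ hvv
  rw [Fintype.card_prod, Fintype.card_fin, Fintype.card_fin,
    Cfsg.Agent.Lib.Subspaces.Decomposition.card_eq hD.decomp.decomp]

/-- Permuted lines: a prime field, or a structure over a subfield. -/
theorem lines_subfield (hodd : Odd (Fintype.card F)) {t : ℕ} {D : Fin t → Submodule F (ι → F)}
    (hD : IsOrthogonalMDecomposition Q 1 D) {H : Subgroup (GL ι F)} (hH : H ≤ omegaGL Q)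
    (hle : H ≤ decompositionStabilizer D) (hq : ¬ (Fintype.card F).Prime) :
    ∃ (F₁ : Subfield F) (r : ℕ) (P : GL ι F) (ζ : F), r.Prime ∧ Fintype.card F = Nat.card F₁ ^ r ∧ ζ ≠ 0 ∧
      IsQuadFormRationalStructure (fun v => ζ * Q v) F₁ P ∧ H ≤ subfieldSubgroup F₁ P := by
  classical
  have h2 := two_ne_zero' hodd
  have hb := hQ.polar_bilinear
  obtain ⟨c, w, hc0, hwD, hww⟩ := odd_frame hQ hodd (k := 1) odd_one hD
  have hbot : (⊥ : Subfield F) ≠ ⊤ := fun hb' => by
    apply hq
    obtain ⟨p, f, hp, _, -, hF⟩ := exists_char_card (F := F)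
    have hc' := Subfield.card_bot (F := F) p
    rw [hb', Nat.card_congr (Equiv.subtypeUnivEquiv fun x => Subfield.mem_top x), Nat.card_eq_fintype_card] at hc'
    rw [hc']
    exact hp.out
  obtain ⟨F₁, r, hr, -, hqr⟩ := exists_prime_index hbot
  have hd := hD.decomp.decomp
  have ht : Fintype.card (Fin t) = Fintype.card ι := by
    rw [Fintype.card_fin, Cfsg.Agent.Lib.Subspaces.Decomposition.card_eq hd, mul_one]
  let e : Fin t ≃ ι := Fintype.equivOfCardEq ht
  let v : Fin t → ι → F := fun i => w (i, 0)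
  have hvv : ∀ i, B (v i) (v i) = c := fun i => by simp [v, hww]
  have hline : ∀ i, ∀ x ∈ D i, ∃ a : F, x = a • v i := fun i x hx => by
    have hv0 : v i ≠ 0 := fun h => hc0 (by rw [← hvv i, h, zero_right hQ])
    obtain ⟨a, ha⟩ := (finrank_eq_one_iff_of_nonzero' (⟨v i, hwD (i, 0)⟩ : D i) (by simpa using hv0)).mp
      (hd.finrank_eq i) ⟨x, hx⟩
    exact ⟨a, (congrArg Subtype.val ha).symm⟩
  let M : Matrix ι ι F := Matrix.of fun p i => v (e.symm i) p
  have hMs : ∀ i, M *ᵥ Pi.single i 1 = v (e.symm i) := fun i => by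
    funext p; simp [M, Matrix.mulVec_single_one]
  have hMG : Mᵀ * G₀ * M = c • (1 : Matrix ι ι F) := by
    ext i j
    rw [← gramForm_single (Mᵀ * G₀ * M), ← gramForm_apply, gram_eq hQ, hMs, hMs]
    rcases eq_or_ne i j with rfl | h
    · simp [hvv]
    · rw [hD.decomp.orthogonal _ _ (fun he => h (e.symm.injective he)) _ (hwD (e.symm i, 0)) _ (hwD (e.symm j, 0))]
      simp [h]
  have hMd : M.det ≠ 0 := fun h => by
    have h1 := congrArg Matrix.det hMG
    rw [Matrix.det_mul, Matrix.det_mul, h, mul_zero, Matrix.det_smul, Matrix.det_one, mul_one] at h1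
    exact pow_ne_zero _ hc0 h1.symm
  let P : GL ι F := Matrix.GeneralLinearGroup.mkOfDetNeZero M hMd
  have hP : (P : Matrix ι ι F) = M := rfl
  refine ⟨F₁, r, P, c⁻¹, hr, hqr, inv_ne_zero hc0, fun u hu => ?_, fun h hh => ?_⟩
  · show c⁻¹ * Q _ ∈ F₁
    rw [eq_half hQ hodd, hP, ← gram_eq hQ, gramForm_apply, hMG, gramForm, Matrix.smul_mulVec, Matrix.one_mulVec,
      dotProduct_smul, smul_eq_mul, ← mul_div_assoc, inv_mul_cancel_left₀ hc0]
    exact div_mem (Subfield.sum_mem _ fun i _ => mul_mem (hu i) (hu i))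
      (one_add_one_eq_two (R := F) ▸ add_mem F₁.one_mem F₁.one_mem)
  obtain ⟨σ, hσ⟩ := hle hh
  have hmap : ∀ i, ∃ a : F, (a = 1 ∨ a = -1) ∧ (h : Matrix ι ι F) *ᵥ v i = a • v (σ i) := fun i => by
    have hmem : (h : Matrix ι ι F) *ᵥ v i ∈ D (σ i) := by
      rw [← hσ i, ← Matrix.toLin'_apply]
      exact Submodule.mem_map_of_mem (hwD (i, 0))
    obtain ⟨a, ha⟩ := hline (σ i) _ hmem
    refine ⟨a, ?_, ha⟩
    have h1 := omega_B hQ (hH hh) (v i) (v i)
    rw [ha, hb.smul_left, hb.smul_right, hvv, hvv] at h1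
    exact mul_self_eq_one_iff.mp (mul_right_cancel₀ hc0 (by linear_combination h1))
  choose a ha hav using hmap
  let M' : Matrix ι ι F := fun i k => if i = e (σ (e.symm k)) then a (e.symm k) else 0
  have hhM : (h : Matrix ι ι F) * M = M * M' := by
    refine Matrix.ext_of_mulVec_single fun k => ?_
    rw [← Matrix.mulVec_mulVec, hMs, hav, ← Matrix.mulVec_mulVec,
      show M' *ᵥ Pi.single k 1 = a (e.symm k) • (Pi.single (e (σ (e.symm k))) 1 : ι → F) by
        funext i; simp [M', Matrix.mulVec, dotProduct, Pi.single_apply],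
      Matrix.mulVec_smul, hMs, e.symm_apply_apply]
  refine ⟨P⁻¹ * h * P, Subgroup.mem_sup_left (Cfsg.Agent.Lib.PrimeDim.Fields.scalar_entry_mem fun i k => ?_), by
    simp [mul_assoc]⟩
  rw [show ((P⁻¹ * h * P : GL ι F) : Matrix ι ι F) = M' by
    rw [Units.val_mul, Units.val_mul, hP, mul_assoc, hhM, ← hP, ← mul_assoc, Units.inv_mul, one_mul]]
  show (if i = e (σ (e.symm k)) then a (e.symm k) else 0) ∈ F₁
  split
  · rcases ha (e.symm k) with h1 | h1 <;> rw [h1]
    · exact F₁.one_mem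
    · exact neg_mem F₁.one_mem
  · exact F₁.zero_mem

/-- Two orthogonal halves of dimension five. -/
theorem five_pair (hodd : Odd (Fintype.card F)) (hn : Fintype.card ι = 10) {W : Submodule F (ι → F)}
    (hW : IsNondegenerateOn B W) (hd : finrank F W = 5) :
    (AreIsometricFor Q W (perpQ hQ W) → (IsPlusTypeOn Q ⊤ ↔ IsSquare (-1 : F))) ∧
      (¬ AreIsometricFor Q W (perpQ hQ W) → (IsPlusTypeOn Q ⊤ ↔ ¬ IsSquare (-1 : F))) := by
  classical
  have h2 := two_ne_zero' hodd
  have hWd : finrank F (perpQ hQ W) = 5 := by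
    have := finrank_add_perpQ (hQ := hQ) hW
    omega
  obtain ⟨c, hc, he⟩ := five_shape hQ hW hd
  obtain ⟨c', hc', he'⟩ := five_shape hQ (perpQ_nondeg hW) hWd
  refine ⟨?_, fun hne => ?_⟩
  · rintro ⟨e, hiso⟩
    have heq : (resQ hQ (perpQ hQ W)).Equivalent (resQ hQ W) :=
      QuadraticMap.Equivalent.symm ⟨{ toLinearEquiv := e, map_app' := fun w => hiso w }⟩
    have h := plus_iff_five hQ hn hW hd hc hc he (heq.trans he)
    rwa [div_self hc] at h
  · have hns : ¬ IsSquare (c' / c) := by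
      rintro ⟨s, hs⟩
      apply hne
      have hs0 : s ≠ 0 := fun h => div_ne_zero hc' hc (by rw [hs, h, zero_mul])
      have hg : ((qPlus (F := F) 2).prod (qOne c')).Equivalent ((qPlus 2).prod (qOne c)) :=
        ⟨{ toLinearEquiv := LinearEquiv.prodCongr (LinearEquiv.refl F _) (LinearEquiv.smulOfUnit (Units.mk0 s hs0))
           map_app' := fun v => by
             show qPlus 2 v.1 + qOne c (s * v.2) = qPlus 2 v.1 + qOne c' v.2
             rw [qOne_apply, qOne_apply]
             rw [div_eq_iff hc] at hs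
             linear_combination (-(v.2 * v.2)) * hs }⟩
      obtain ⟨g⟩ := (he'.trans (hg.trans he.symm)).symm
      exact ⟨g.toLinearEquiv, fun w => g.map_app w⟩
    rw [plus_iff_five hQ hn hW hd hc hc' he he']
    have hc2 : ringChar F ≠ 2 := fun h => h2 (by
      have := ringChar.Nat.cast_ringChar (R := F)
      rw [h] at this; exact_mod_cast this)
    have := Cfsg.Agent.Lib.Orth52.isSquare_mul_nonsquare hc2 (x := (-1 : F)) (neg_ne_zero.mpr one_ne_zero)
      (div_ne_zero hc' hc) hns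
    rwa [neg_one_mul] at this

end Cfsg.Agent.Lib.AschbacherEvenDim
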