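import Cfsg.Agent.Lib.AschbacherEvenDim.OddTools

/-!
A self-adjoint field of odd degree `r` in dimension `2r`: the skew maps over it form a line.
-/

set_option autoImplicit false
set_option linter.unusedSectionVars false
set_option linter.style.haveILetI false

namespace Cfsg.Agent.Lib.AschbacherEvenDim

open Cfsg.Geo Module QuadraticMap Cfsg.Agent.Lib.Subspaces.OrthForm Cfsg.Agent.Lib.Subspaces.OrthNondeg
open Cfsg.Agent.Lib.PrimeDim.Basic Cfsg.Agent.Lib.Aschbacher
open Cfsg.Agent.Lib.AschbacherOrth (gram_eq)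
open Cfsg.Agent.Lib.AschbacherSp (Isom two_ne_zero' gramForm_apply_isom)
open scoped Matrix MatrixGroups

/-- A norm of an element of a finite extension lies below. -/
theorem norm_down {F E : Type*} [Field F] [Fintype F] [Field E] [Fintype E] [Algebra F E] {r : ℕ}
    (hE : Fintype.card E = Fintype.card F ^ r) {x : E} (hx : x ≠ 0) :
    ∃ c : F, c ≠ 0 ∧ algebraMap F E c = x ^ (∑ i ∈ Finset.range r, Fintype.card F ^ i) := by
  classical
  set q := Fintype.card F with hq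
  set y := x ^ (∑ i ∈ Finset.range r, q ^ i) with hy
  have hq1 : 1 < q := Fintype.one_lt_card
  have hyq : y ^ q = y := by
    have h1 := FiniteField.pow_card_sub_one_eq_one x hx
    rw [hy, ← pow_mul]
    have h2 : (∑ i ∈ Finset.range r, q ^ i) * q = (∑ i ∈ Finset.range r, q ^ i) + (Fintype.card E - 1) := by
      rw [hE]
      clear hy hE h1
      induction r with
      | zero => simp
      | succ j ih =>
        have h3 : 1 ≤ q ^ j := Nat.one_le_pow _ _ (by omega)
        have h4 : q ^ j ≤ q ^ (j + 1) := Nat.pow_le_pow_right (by omega) (by omega)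
        rw [Finset.sum_range_succ, add_mul, ih, ← pow_succ]
        omega
    rw [h2, pow_add, h1, mul_one]
  have hy0 : y ≠ 0 := pow_ne_zero _ hx
  obtain ⟨c, hc⟩ : ∃ c : F, algebraMap F E c = y := by
    by_contra hno
    push Not at hno
    let S : Finset E := insert y (Finset.univ.image (algebraMap F E))
    have hcard : S.card = q + 1 := by
      rw [Finset.card_insert_of_notMem (by simpa using hno),
        Finset.card_image_of_injective _ (algebraMap F E).injective, Finset.card_univ]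
    have hP : (Polynomial.X ^ q - Polynomial.X : Polynomial E) ≠ 0 := FiniteField.X_pow_card_sub_X_ne_zero E hq1
    have hroots : S.val ⊆ (Polynomial.X ^ q - Polynomial.X : Polynomial E).roots := by
      intro z hz
      rw [Polynomial.mem_roots hP, Polynomial.IsRoot.def, Polynomial.eval_sub, Polynomial.eval_pow,
        Polynomial.eval_X, sub_eq_zero]
      rcases Finset.mem_insert.mp hz with rfl | hz'
      · exact hyq
      · obtain ⟨c, -, rfl⟩ := Finset.mem_image.mp hz'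
        rw [← map_pow, hq, FiniteField.pow_card]
    have h1 := Polynomial.card_le_degree_of_subset_roots hroots
    rw [FiniteField.X_pow_card_sub_X_natDegree_eq E hq1, hcard] at h1
    omega
  exact ⟨c, fun h => hy0 (by rw [← hc, h, map_zero]), hc⟩

variable {ι : Type} [Fintype ι] [DecidableEq ι] {F : Type*} [Field F] [Fintype F] {Q : (ι → F) → F}
  (hQ : IsNondegenerateQuadraticForm Q)
include hQ

local notation "B" => QuadraticMap.polar Q
local notation "G₀" => gramMatrix (QuadraticMap.polar Q)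

/-- A self-adjoint field of odd degree `r` in dimension `2r` gives a pair or a quadratic field. -/
theorem of_field_half [Nonempty ι] (hodd : Odd (Fintype.card F)) {r : ℕ} (hn : Fintype.card ι = 2 * r) (hr : Odd r)
    {K : Subalgebra F (Matrix ι ι F)} (hK : IsFieldSubalgebra r K) (hs : IsSelfAdjointFor B K)
    {H : Subgroup (GL ι F)} (hHI : H ≤ Isom G₀) (hle : H ≤ subalgebraNormalizer K) : PairOrField Q H := by
  classical
  have h2 := two_ne_zero' hodd
  have hb := hQ.polar_bilinear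
  letI : Field K := IsField.toField (R := K)
    { exists_pair_ne := ⟨0, 1, fun he => zero_ne_one (congrArg Subtype.val he)⟩
      mul_comm := fun x y => Subtype.ext (hK.comm x x.2 y y.2)
      mul_inv_cancel := fun {x} hx => by
        obtain ⟨y, hy, hxy⟩ := hK.inv x x.2 (fun he => hx (Subtype.ext he))
        exact ⟨⟨y, hy⟩, Subtype.ext hxy⟩ }
  haveI : Finite K := Finite.of_injective (fun x : K => (x : Matrix ι ι F)) Subtype.val_injective
  letI : Fintype K := Fintype.ofFinite K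
  haveI : Module.Finite F K := Module.Finite.of_finite
  -- the action
  let ev : (ι → F) → K →ₗ[F] (ι → F) := fun x =>
    { toFun := fun k => (k : Matrix ι ι F) *ᵥ x
      map_add' := fun a b => Matrix.add_mulVec _ _ x
      map_smul' := fun c a => by simp [Matrix.smul_mulVec] }
  have hev : ∀ x k, ev x k = (k : Matrix ι ι F) *ᵥ x := fun _ _ => rfl
  have hmm : ∀ (k l : K) x, ev x (k * l) = (k : Matrix ι ι F) *ᵥ ev x l := fun k l x => by
    rw [hev, hev, Matrix.mulVec_mulVec]; rfl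
  have hone : ∀ x, ev x 1 = x := fun x => by rw [hev, OneMemClass.coe_one, Matrix.one_mulVec]
  have hinj : ∀ x, x ≠ 0 → Function.Injective (ev x) := fun x hx => by
    rw [← LinearMap.ker_eq_bot, eq_bot_iff]
    intro k hk
    by_contra h0
    have hk0 : (k : K) ≠ 0 := h0
    refine hx ?_
    rw [← hone x, ← inv_mul_cancel₀ hk0, hmm, LinearMap.mem_ker.mp hk, Matrix.mulVec_zero]
  have hsa : ∀ (k : K) x y, B ((k : Matrix ι ι F) *ᵥ x) y = B x ((k : Matrix ι ι F) *ᵥ y) := fun k => hs k k.2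
  obtain ⟨v, hv⟩ : ∃ v, Q v ≠ 0 := by
    by_contra! h
    obtain ⟨i⟩ := ‹Nonempty ι›
    obtain ⟨⟨x, hx⟩, -⟩ := hQ.nondegenerate (Pi.single i 1) (fun h0 => one_ne_zero (α := F) (by simpa using congrFun h0 i))
    exact hx (by rw [QuadraticMap.polar, h, h, h]; ring)
  have hv0 : v ≠ 0 := fun h => hv (by rw [h, Q_zero hQ])
  have hBv : B v v ≠ 0 := by rw [B_self hQ]; exact mul_ne_zero h2 hv
  set W := LinearMap.range (ev v) with hWdef
  have hWn : IsNondegenerateOn B W := by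
    rintro _ ⟨k, rfl⟩ h0
    have hk : k ≠ 0 := fun h => h0 (by rw [h, map_zero])
    have hne : B (ev v k) (ev v k⁻¹) ≠ 0 := by
      rw [hev, hev, hsa, Matrix.mulVec_mulVec, show (k : Matrix ι ι F) * ((k⁻¹ : K) : Matrix ι ι F) = ((k * k⁻¹ : K) : Matrix ι ι F)
        from rfl, mul_inv_cancel₀ hk, OneMemClass.coe_one, Matrix.one_mulVec]
      exact hBv
    exact ⟨⟨_, ⟨k⁻¹, rfl⟩, by rw [B_comm]; exact hne⟩, ⟨_, ⟨k⁻¹, rfl⟩, hne⟩⟩
  have hWd : finrank F W = r := by rw [hWdef, LinearMap.finrank_range_of_inj (hinj v hv0), hK.finrank_eq]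
  set L := perpQ hQ W with hL
  have hLd : finrank F L = r := by
    have := finrank_add_perpQ (hQ := hQ) hWn
    rw [← hL] at this
    omega
  have hLn : IsNondegenerateOn B L := perpQ_nondeg hWn
  have hLK : ∀ (k : K), ∀ x ∈ L, (k : Matrix ι ι F) *ᵥ x ∈ L := by
    rintro k x hx _ ⟨l, rfl⟩
    rw [hsa, ← hmm]
    exact hx _ ⟨k * l, rfl⟩
  obtain ⟨w, hw, hw0⟩ := Submodule.exists_mem_ne_zero_of_ne_bot (p := L) fun h => by
    rw [h, finrank_bot] at hLd
    obtain ⟨j, hj⟩ := hr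
    omega
  have hLw : L = LinearMap.range (ev w) := by
    refine (Submodule.eq_of_le_of_finrank_le ?_ ?_).symm
    · rintro _ ⟨k, rfl⟩; exact hLK k w hw
    · rw [hLd, LinearMap.finrank_range_of_inj (hinj w hw0), hK.finrank_eq]
  have hWL : ∀ a b : K, B (ev v a) (ev w b) = 0 := fun a b => by
    rw [B_comm]; exact hLK b w hw _ ⟨a, rfl⟩
  let Λ : (K × K) →ₗ[F] (ι → F) := (ev v).coprod (ev w)
  have hΛ : ∀ a b, Λ (a, b) = ev v a + ev w b := fun a b => rfl
  have hΛi : Function.Injective Λ := by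
    rw [← LinearMap.ker_eq_bot, eq_bot_iff]
    rintro ⟨a, b⟩ hab
    rw [LinearMap.mem_ker, hΛ] at hab
    have ha : ev v a = 0 := by
      by_contra h0
      obtain ⟨-, y, ⟨l, rfl⟩, hne⟩ := hWn _ ⟨a, rfl⟩ h0
      apply hne
      rw [eq_neg_of_add_eq_zero_left hab, ← neg_one_smul F (ev w b), hb.smul_left, B_comm, hWL, mul_zero]
    rw [ha, zero_add] at hab
    simp [show a = 0 from hinj v hv0 (ha.trans (map_zero _).symm),
      show b = 0 from hinj w hw0 (hab.trans (map_zero _).symm)]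
  have hΛs : Function.Surjective Λ := (LinearMap.injective_iff_surjective_of_finrank_eq_finrank (by
    rw [Module.finrank_prod, hK.finrank_eq, Module.finrank_fintype_fun_eq_card]; omega)).mp hΛi
  let φ : K →ₗ[F] F :=
    { toFun := fun k => B v (ev v k)
      map_add' := fun a b => by rw [map_add, hb.add_right]
      map_smul' := fun c a => by rw [map_smul, hb.smul_right]; rfl }
  let Ψ : K →ₗ[F] (K →ₗ[F] F) := (LinearMap.mul F K).compr₂ φ
  have hΨ : Function.Injective Ψ := by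
    rw [← LinearMap.ker_eq_bot, eq_bot_iff]
    intro k hk
    by_contra h0
    have h1 : φ (k * k⁻¹) = 0 := LinearMap.congr_fun (LinearMap.mem_ker.mp hk) k⁻¹
    rw [mul_inv_cancel₀ (h0 : k ≠ 0)] at h1
    exact hBv (by simpa [φ, hone] using h1)
  have hΨs : Function.Surjective Ψ := (LinearMap.injective_iff_surjective_of_finrank_eq_finrank
    (Subspace.dual_finrank_eq (K := F) (V := K)).symm).mp hΨ
  let ψ : K →ₗ[F] F :=
    { toFun := fun k => -B w (ev w k)
      map_add' := fun a b => by rw [map_add, hb.add_right]; ring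
      map_smul' := fun c a => by rw [map_smul, hb.smul_right, RingHom.id_apply, smul_eq_mul]; ring }
  obtain ⟨γ, hγ⟩ := hΨs ψ
  have hγk : ∀ k, B v (ev v (γ * k)) = -B w (ev w k) := fun k => LinearMap.congr_fun hγ k
  have hγ0 : γ ≠ 0 := fun h => by
    obtain ⟨-, y, hy, hne⟩ := hLn w hw hw0
    rw [hLw] at hy
    obtain ⟨k, rfl⟩ := hy
    have := hγk k
    rw [h, zero_mul, map_zero, zero_right hQ] at this
    exact hne (neg_eq_zero.mp this.symm)
  let Λe : (K × K) ≃ₗ[F] (ι → F) := LinearEquiv.ofBijective Λ ⟨hΛi, hΛs⟩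
  let τ : (K × K) →ₗ[F] (K × K) :=
    ((LinearMap.mul F K γ).comp (LinearMap.snd F K K)).prod (LinearMap.fst F K K)
  let J : Matrix ι ι F := LinearMap.toMatrix' (Λ.comp (τ.comp Λe.symm.toLinearMap))
  have hJ : ∀ a b, J *ᵥ Λ (a, b) = Λ (γ * b, a) := fun a b => by
    simp only [J, LinearMap.toMatrix'_mulVec, LinearMap.comp_apply, LinearEquiv.coe_coe]
    rw [show Λe.symm (Λ (a, b)) = (a, b) from Λe.symm_apply_apply (a, b)]
    rfl
  have hKΛ : ∀ (k : K) a b, (k : Matrix ι ι F) *ᵥ Λ (a, b) = Λ (k * a, k * b) := fun k a b => by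
    rw [hΛ, hΛ, Matrix.mulVec_add, hmm, hmm]
  have hJK : ∀ (k : K) x, J *ᵥ ((k : Matrix ι ι F) *ᵥ x) = (k : Matrix ι ι F) *ᵥ (J *ᵥ x) := fun k x => by
    obtain ⟨⟨a, b⟩, rfl⟩ := hΛs x
    rw [hKΛ, hJ, hJ, hKΛ, mul_left_comm]
  have hpair : ∀ (x : ι → F) (a b : K), B (ev x a) (ev x b) = B x (ev x (a * b)) := fun x a b => by
    rw [hev, hsa, ← hmm]
  have hskewJ : ∀ x y, B (J *ᵥ x) y + B x (J *ᵥ y) = 0 := fun x y => by
    obtain ⟨⟨a, b⟩, rfl⟩ := hΛs x
    obtain ⟨⟨a', b'⟩, rfl⟩ := hΛs y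
    rw [hJ, hJ, hΛ, hΛ, hΛ, hΛ]
    simp only [hb.add_left, hb.add_right, hWL, B_comm (ev w _) (ev v _), hpair, add_zero, zero_add]
    rw [show γ * b * a' = γ * (b * a') by ring, show a * (γ * b') = γ * (a * b') by ring, hγk, hγk,
      show b * a' = a' * b by ring]
    ring
  -- skew maps commuting with the field form a line
  have hline : ∀ M : Matrix ι ι F, (∀ (k : K) x, M *ᵥ ((k : Matrix ι ι F) *ᵥ x) = (k : Matrix ι ι F) *ᵥ (M *ᵥ x)) →
      (∀ x y, B (M *ᵥ x) y + B x (M *ᵥ y) = 0) → ∃ α : K, M = (α : Matrix ι ι F) * J := by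
    intro M hMK hM
    have hperp : ∀ (M : Matrix ι ι F), (∀ (k : K) x, M *ᵥ ((k : Matrix ι ι F) *ᵥ x) = (k : Matrix ι ι F) *ᵥ (M *ᵥ x)) →
        (∀ x y, B (M *ᵥ x) y + B x (M *ᵥ y) = 0) → ∀ x (k : K), B (M *ᵥ x) (ev x k) = 0 := fun M hMK hM x k => by
      have h1 := hM x (ev x k)
      rw [hev, hMK, ← hsa k x, B_comm ((k : Matrix ι ι F) *ᵥ x)] at h1
      exact mul_left_cancel₀ h2 (by rw [hev]; linear_combination h1)
    have hMv : M *ᵥ v ∈ L := by
      rintro _ ⟨k, rfl⟩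
      exact hperp M hMK hM v k
    rw [hLw] at hMv
    obtain ⟨α, hα⟩ := hMv
    refine ⟨α, ?_⟩
    set N := M - (α : Matrix ι ι F) * J with hN
    suffices N = 0 from sub_eq_zero.mp this
    have hNK : ∀ (k : K) x, N *ᵥ ((k : Matrix ι ι F) *ᵥ x) = (k : Matrix ι ι F) *ᵥ (N *ᵥ x) := fun k x => by
      simp only [hN, Matrix.sub_mulVec, Matrix.mulVec_sub, ← Matrix.mulVec_mulVec, hMK, hJK]
      rw [Matrix.mulVec_mulVec _ (α : Matrix ι ι F) (k : Matrix ι ι F), hK.comm _ α.2 _ k.2, ← Matrix.mulVec_mulVec]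
    have hNs : ∀ x y, B (N *ᵥ x) y + B x (N *ᵥ y) = 0 := fun x y => by
      simp only [hN, Matrix.sub_mulVec, ← Matrix.mulVec_mulVec, sub_right hQ,
        Cfsg.Agent.Lib.Subspaces.FormVec.form_sub_left (bil hQ)]
      rw [hsa α (J *ᵥ x) y, ← hJK]
      linear_combination hM x y - hskewJ x ((α : Matrix ι ι F) *ᵥ y)
    have hNv : N *ᵥ v = 0 := by
      have e : v = Λ (1, 0) := by rw [hΛ, map_zero, add_zero, hone]
      rw [hN, Matrix.sub_mulVec, ← Matrix.mulVec_mulVec, ← hα, e, hJ, hΛ, mul_zero, map_zero, zero_add, hone,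
        ← hev, sub_self]
    have hNw : N *ᵥ w = 0 := by
      by_contra h0
      obtain ⟨-, z, hz⟩ := hQ.nondegenerate _ h0
      obtain ⟨⟨a, b⟩, rfl⟩ := hΛs z
      apply hz
      rw [hΛ, hb.add_right, hperp N hNK hNs, add_zero]
      have := hNs w (ev v a)
      rwa [hev, hNK, hNv, Matrix.mulVec_zero, zero_right hQ, add_zero] at this
    refine Matrix.ext_of_mulVec_single fun i => ?_
    obtain ⟨⟨a, b⟩, hab⟩ := hΛs (Pi.single i 1)
    rw [← hab, hΛ, Matrix.mulVec_add, hev, hev, hNK, hNK, hNv, hNw, Matrix.mulVec_zero, Matrix.mulVec_zero, add_zero,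
      Matrix.zero_mulVec]
  -- normalise the square
  have hE : Fintype.card K = Fintype.card F ^ r := by
    rw [Module.card_eq_pow_finrank (K := F) (V := K), hK.finrank_eq]
  obtain ⟨δ, hδ0, hδ⟩ := norm_down (r := r) hE hγ0
  obtain ⟨j, hj⟩ : Odd (∑ i ∈ Finset.range r, Fintype.card F ^ i) := by
    rw [Nat.odd_iff, Finset.sum_nat_mod,
      Finset.sum_congr rfl (fun i _ => Nat.odd_iff.mp (hodd.pow (n := i))), Finset.sum_const, Finset.card_range,
      smul_eq_mul, mul_one, ← Nat.odd_iff]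
    exact hr
  set k₀ : K := γ ^ j with hk₀
  let T : Matrix ι ι F := (k₀ : Matrix ι ι F) * J
  have hTΛ : ∀ a b, T *ᵥ Λ (a, b) = Λ (k₀ * (γ * b), k₀ * a) := fun a b => by
    rw [← Matrix.mulVec_mulVec, hJ, hKΛ]
  have hTK : ∀ (k : K) x, T *ᵥ ((k : Matrix ι ι F) *ᵥ x) = (k : Matrix ι ι F) *ᵥ (T *ᵥ x) := fun k x => by
    simp only [T, ← Matrix.mulVec_mulVec, hJK]
    rw [Matrix.mulVec_mulVec _ (k₀ : Matrix ι ι F), hK.comm _ k₀.2 _ k.2, ← Matrix.mulVec_mulVec]
  have hTT : T * T = δ • 1 := by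
    refine Matrix.ext_of_mulVec_single fun i => ?_
    obtain ⟨⟨a, b⟩, hab⟩ := hΛs (Pi.single i 1)
    rw [← hab, ← Matrix.mulVec_mulVec, hTΛ, hTΛ, Matrix.smul_mulVec, Matrix.one_mulVec]
    have hsq : k₀ * (γ * k₀) = algebraMap F K δ := by rw [hδ, hk₀, hj, pow_succ, two_mul, pow_add]; ring
    rw [← mul_assoc γ, ← mul_assoc k₀ (γ * k₀), hsq, show k₀ * (k₀ * (γ * b)) = k₀ * (γ * k₀) * b by ring, hsq,
      ← Algebra.smul_def, ← Algebra.smul_def, ← map_smul]
    rfl
  have hskewT : ∀ x y, B (T *ᵥ x) y + B x (T *ᵥ y) = 0 := fun x y => by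
    simp only [T, ← Matrix.mulVec_mulVec]
    rw [hsa, ← hJK]
    exact hskewJ x _
  refine of_skew hQ hodd hskewT hδ0 hTT fun h hh => ?_
  have hiso : ∀ x y, B ((h : Matrix ι ι F) *ᵥ x) ((h : Matrix ι ι F) *ᵥ y) = B x y := fun x y => by
    rw [← gram_eq hQ]; exact gramForm_apply_isom (hHI hh) x y
  set M := (h : Matrix ι ι F) * T * ((h⁻¹ : GL ι F) : Matrix ι ι F) with hM
  have hMK : ∀ (k : K) x, M *ᵥ ((k : Matrix ι ι F) *ᵥ x) = (k : Matrix ι ι F) *ᵥ (M *ᵥ x) := fun k x => by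
    obtain ⟨k', hk'⟩ : ∃ k' : K, (k' : Matrix ι ι F) = ((h⁻¹ : GL ι F) : Matrix ι ι F) * k * (h : Matrix ι ι F) :=
      ⟨⟨_, by simpa using (hle (inv_mem hh) k).mp k.2⟩, rfl⟩
    have e1 : ((h⁻¹ : GL ι F) : Matrix ι ι F) *ᵥ ((k : Matrix ι ι F) *ᵥ x) =
        (k' : Matrix ι ι F) *ᵥ (((h⁻¹ : GL ι F) : Matrix ι ι F) *ᵥ x) := by
      simp only [Matrix.mulVec_mulVec, hk', mul_assoc, Units.mul_inv, mul_one]
    have e2 : ∀ y, (h : Matrix ι ι F) *ᵥ ((k' : Matrix ι ι F) *ᵥ y) =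
        (k : Matrix ι ι F) *ᵥ ((h : Matrix ι ι F) *ᵥ y) := fun y => by
      simp only [Matrix.mulVec_mulVec, hk', ← mul_assoc, Units.mul_inv, one_mul]
    simp only [hM, ← Matrix.mulVec_mulVec, e1, hTK, e2]
  have hMs : ∀ x y, B (M *ᵥ x) y + B x (M *ᵥ y) = 0 := fun x y => by
    obtain ⟨x', rfl⟩ : ∃ x', (h : Matrix ι ι F) *ᵥ x' = x := ⟨_, mulVec_inv_cancel h x⟩
    obtain ⟨y', rfl⟩ : ∃ y', (h : Matrix ι ι F) *ᵥ y' = y := ⟨_, mulVec_inv_cancel h y⟩
    simp only [hM, ← Matrix.mulVec_mulVec, inv_mulVec_cancel, hiso]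
    exact hskewT _ _
  obtain ⟨α, hα⟩ := hline M hMK hMs
  have hMM : M * M = δ • 1 := by
    calc M * M = (h : Matrix ι ι F) * (T * T) * ((h⁻¹ : GL ι F) : Matrix ι ι F) := by simp [hM, mul_assoc]
      _ = _ := by rw [hTT, Matrix.mul_smul, mul_one, Matrix.smul_mul, Units.mul_inv]
  have hsq : α * (γ * α) = k₀ * (γ * k₀) := by
    have e1 : ∀ k : K, ((k : Matrix ι ι F) * J) *ᵥ (((k : Matrix ι ι F) * J) *ᵥ Λ (1, 0)) = Λ (k * (γ * k), 0) :=
      fun k => by
        simp only [← Matrix.mulVec_mulVec, hJ, hKΛ, mul_zero, mul_one]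
    have e2 : Λ (α * (γ * α), 0) = Λ (k₀ * (γ * k₀), 0) := by
      rw [← e1, ← e1, ← hα]
      show M *ᵥ (M *ᵥ _) = T *ᵥ (T *ᵥ _)
      rw [Matrix.mulVec_mulVec, Matrix.mulVec_mulVec, hMM, hTT]
    exact (Prod.mk.injEq _ _ _ _ ▸ hΛi e2).1
  have : α = k₀ ∨ α = -k₀ := by
    refine mul_self_eq_mul_self_iff.mp (mul_left_cancel₀ hγ0 ?_)
    linear_combination hsq
  rcases this with rfl | rfl
  · exact Or.inl hα
  · exact Or.inr (hα.trans (neg_mul _ _))

end Cfsg.Agent.Lib.AschbacherEvenDim
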