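import Cfsg.Agent.Lib.AschbacherEvenDim.OddTools

/-!
Absolutely irreducible groups of isometries commuting up to scalars, in odd characteristic.
-/

set_option autoImplicit false
set_option linter.unusedSectionVars false
set_option linter.style.haveILetI false

namespace Cfsg.Agent.Lib.AschbacherEvenDim

open Cfsg.Geo Module QuadraticMap
open Cfsg.Agent.Lib.PrimeDim.Basic Cfsg.Agent.Lib.Aschbacher
open Cfsg.Agent.Lib.AschbacherOrth (sym_gram gram_eq adj_mul adj_smul adj_isom gramForm_adj)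
open Cfsg.Agent.Lib.AschbacherSp (Isom adj two_ne_zero')
open scoped Matrix MatrixGroups

variable {ι : Type} [Fintype ι] [DecidableEq ι] {F : Type*} [Field F] [Fintype F] {Q : (ι → F) → F}
  (hQ : IsNondegenerateQuadraticForm Q)
include hQ

local notation "B" => QuadraticMap.polar Q
local notation "G₀" => gramMatrix (QuadraticMap.polar Q)

omit hQ in
theorem scalar_of_comm' [Nonempty ι] {R : Subgroup (GL ι F)} (habs : ActsAbsolutelyIrreducibly (matrixSet R))
    {x : GL ι F} (h : ∀ y ∈ R, (x : Matrix ι ι F) * (y : Matrix ι ι F) = (y : Matrix ι ι F) * (x : Matrix ι ι F)) :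
    x ∈ scalars ι F := by
  obtain ⟨c, hc⟩ := habs.2 (x : Matrix ι ι F) fun s hs => by
    obtain ⟨y, hy, rfl⟩ := mem_matrixSet.mp hs
    exact h y hy
  exact (mem_scalars_iff x).mpr ⟨Units.mk0 c fun h0 => x.ne_zero (by rw [hc, h0, zero_smul]), hc⟩

/-- The commutation factors are signs. -/
theorem factor_sign [Nonempty ι] {R : Subgroup (GL ι F)} (hR : R ≤ Isom G₀) (hc : ⁅R, R⁆ ≤ scalars ι F) {x y : GL ι F}
    (hx : x ∈ R) (hy : y ∈ R) : ∃ c : F, c * c = 1 ∧
      (x : Matrix ι ι F) * (y : Matrix ι ι F) = c • ((y : Matrix ι ι F) * (x : Matrix ι ι F)) := by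
  have hG := sym_gram hQ
  obtain ⟨c, -, he⟩ := Cfsg.Agent.Lib.Aschbacher.exists_factor hc hx hy
  refine ⟨c, ?_, he⟩
  have h2 := congrArg (adj G₀) he
  rw [adj_mul hG, adj_smul hG, adj_mul hG, adj_isom hG (hR hx), adj_isom hG (hR hy)] at h2
  have hne : (y : Matrix ι ι F) * (x : Matrix ι ι F) ≠ 0 := by rw [← Units.val_mul]; exact Units.ne_zero _
  have h4 := congrArg (fun T => (x : Matrix ι ι F) * (y : Matrix ι ι F) * T *
    ((y : Matrix ι ι F) * (x : Matrix ι ι F))) h2
  simp only [Matrix.mul_smul, Matrix.smul_mul] at h4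
  simp only [mul_assoc, Units.inv_mul_cancel_left, Units.mul_inv_cancel_left, Units.inv_mul, mul_one] at h4
  rw [he, smul_smul] at h4
  exact (smul_left_injective F hne ((one_smul F _).trans h4)).symm

/-- Some element of such a group is skew. -/
theorem skew_of_commutators [Nonempty ι] (hodd : Odd (Fintype.card F)) {R : Subgroup (GL ι F)} (hR : R ≤ Isom G₀)
    (hc : ⁅R, R⁆ ≤ scalars ι F) (habs : ActsAbsolutelyIrreducibly (matrixSet R)) (hns : ¬ R ≤ scalars ι F) :
    PairOrField Q (⊥ : Subgroup (GL ι F)) := by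
  have hG := sym_gram hQ
  have h2 := two_ne_zero' hodd
  suffices h : ∃ x ∈ R, (x : Matrix ι ι F) * (x : Matrix ι ι F) = -1 by
    obtain ⟨x, hx, hxx⟩ := h
    refine of_skew hQ hodd (T := (x : Matrix ι ι F)) (δ := -1) (fun u v => ?_) (neg_ne_zero.mpr one_ne_zero)
      (by rw [hxx, neg_one_smul]) fun h hh => Or.inl (by rw [Subgroup.mem_bot.mp hh]; simp)
    have hinv : ((x⁻¹ : GL ι F) : Matrix ι ι F) = -(x : Matrix ι ι F) := by
      calc ((x⁻¹ : GL ι F) : Matrix ι ι F) = ((x⁻¹ : GL ι F) : Matrix ι ι F) * (-((x : Matrix ι ι F) * x)) := by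
            rw [hxx, neg_neg, mul_one]
        _ = _ := by rw [mul_neg, ← mul_assoc, Units.inv_mul, one_mul]
    have h1 := gramForm_adj hG (x : Matrix ι ι F) u v
    rw [adj_isom hG (hR hx), hinv, Matrix.neg_mulVec, gram_eq hQ] at h1
    rw [h1, ← neg_one_smul F ((x : Matrix ι ι F) *ᵥ v), hQ.polar_bilinear.smul_right]
    ring
  by_contra! hno
  have hsq : ∀ x ∈ R, (x : Matrix ι ι F) * (x : Matrix ι ι F) = 1 := fun x hx => by
    obtain ⟨c, hc'⟩ := (mem_scalars_iff (x * x)).mp (scalar_of_comm' habs fun y hy => by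
      obtain ⟨c, hcc, he⟩ := factor_sign hQ hR hc hx hy
      rw [Units.val_mul, mul_assoc, he, Matrix.mul_smul, ← mul_assoc, he, Matrix.smul_mul, smul_smul, hcc, one_smul,
        mul_assoc])
    rw [Units.val_mul] at hc'
    have h3 := congrArg (adj G₀) hc'
    rw [adj_mul hG, adj_smul hG, Cfsg.Agent.Lib.AschbacherOrth.adj_one hG, adj_isom hG (hR hx), ← Units.val_mul,
      ← mul_inv_rev] at h3
    have h4 : ((c : F) * c) • (1 : Matrix ι ι F) = (1 : F) • 1 := by
      rw [one_smul]
      calc ((c : F) * c) • (1 : Matrix ι ι F) = ((c : F) • 1) * ((c : F) • 1) := by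
            rw [Matrix.smul_mul, Matrix.mul_smul, smul_smul, one_mul]
        _ = (x : Matrix ι ι F) * x * (((x * x)⁻¹ : GL ι F) : Matrix ι ι F) := by rw [h3, hc']
        _ = 1 := by rw [← Units.val_mul, Units.mul_inv]
    rcases mul_self_eq_one_iff.mp (smul_left_injective F (one_ne_zero : (1 : Matrix ι ι F) ≠ 0) h4) with h5 | h5
    · rw [hc', h5, one_smul]
    · exact absurd (by rw [hc', h5, neg_one_smul]) (hno x hx)
  refine hns fun x hx => scalar_of_comm' habs fun y hy => ?_
  have h3 := hsq (x * y) (mul_mem hx hy)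
  rw [Units.val_mul] at h3
  calc (x : Matrix ι ι F) * y
      = (x : Matrix ι ι F) * y * (((y : Matrix ι ι F) * y) ) := by rw [hsq y hy, mul_one]
    _ = (x : Matrix ι ι F) * y * y * y := by simp only [mul_assoc]
    _ = (x : Matrix ι ι F) * y := by rw [mul_assoc _ (y : Matrix ι ι F), hsq y hy, mul_one]
    _ = (x : Matrix ι ι F) * y * ((x : Matrix ι ι F) * y * ((y : Matrix ι ι F) * x)) := by
        rw [mul_assoc (x : Matrix ι ι F) y ((y : Matrix ι ι F) * x), ← mul_assoc (y : Matrix ι ι F), hsq y hy, one_mul,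
          hsq x hx, mul_one]
    _ = (y : Matrix ι ι F) * x := by rw [← mul_assoc, h3, one_mul]

/-- The dimension is a power of two. -/
theorem card_of_commutators [Nonempty ι] {R : Subgroup (GL ι F)} (hR : R ≤ Isom G₀)
    (hc : ⁅R, R⁆ ≤ scalars ι F) (habs : ActsAbsolutelyIrreducibly (matrixSet R)) :
    ∃ k : ℕ, Fintype.card ι * Fintype.card ι = 2 ^ k := by
  classical
  let S : Subgroup R := (scalars ι F).subgroupOf R
  haveI : S.Normal := Subgroup.normal_subgroupOf
  letI : Fintype (R ⧸ S) := Fintype.ofFinite _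
  have hsq : ∀ q : R ⧸ S, q * q = 1 := fun q => by
    induction q using QuotientGroup.induction_on with
    | _ x =>
      rw [← QuotientGroup.mk_mul, QuotientGroup.eq_one_iff, Subgroup.mem_subgroupOf]
      refine scalar_of_comm' habs fun y hy => ?_
      obtain ⟨c, hcc, he⟩ := factor_sign hQ hR hc x.2 hy
      rw [Subgroup.coe_mul, Units.val_mul, mul_assoc, he, Matrix.mul_smul, ← mul_assoc, he, Matrix.smul_mul, smul_smul,
        hcc, one_smul, mul_assoc]
  haveI : Fact (Nat.Prime 2) := ⟨Nat.prime_two⟩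
  obtain ⟨k, hk⟩ := IsPGroup.iff_card.mp (show IsPGroup 2 (R ⧸ S) from fun q => ⟨1, by rw [pow_one, pow_two, hsq]⟩)
  refine ⟨k, ?_⟩
  let X : (R ⧸ S) → Matrix ι ι F := fun q => (((q.out : R) : GL ι F) : Matrix ι ι F)
  have hfac : ∀ (q : R ⧸ S) (y : R), ∃ c : F, ((y : GL ι F) : Matrix ι ι F) * X q = c • (X q * ((y : GL ι F) : Matrix ι ι F)) :=
    fun q y => by
      obtain ⟨c, -, he⟩ := factor_sign hQ hR hc y.2 (q.out : R).2
      exact ⟨c, he⟩
  choose cf hcf using hfac
  have hsep : ∀ q q₀, (∀ y, cf q y = cf q₀ y) → q = q₀ := by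
    intro q q₀ h
    rw [← QuotientGroup.out_eq' q, ← QuotientGroup.out_eq' q₀, QuotientGroup.eq, Subgroup.mem_subgroupOf]
    refine scalar_of_comm' habs fun y hy => ?_
    have e1 : ((y : GL ι F) : Matrix ι ι F) * X q = cf q ⟨y, hy⟩ • (X q * y) := hcf q ⟨y, hy⟩
    have e0 : ((y : GL ι F) : Matrix ι ι F) * X q₀ = cf q ⟨y, hy⟩ • (X q₀ * y) := h ⟨y, hy⟩ ▸ hcf q₀ ⟨y, hy⟩
    simp only [X] at e1 e0
    rw [Subgroup.coe_mul, Subgroup.coe_inv, Units.val_mul]
    calc (((((q.out : R) : GL ι F))⁻¹ : GL ι F) : Matrix ι ι F) * (((q₀.out : R) : GL ι F) : Matrix ι ι F) * y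
        = ((((q.out : R) : GL ι F)⁻¹ : GL ι F) : Matrix ι ι F) * ((((q₀.out : R) : GL ι F) : Matrix ι ι F) * y) := mul_assoc _ _ _
      _ = (y : Matrix ι ι F) * (((((q.out : R) : GL ι F))⁻¹ : GL ι F) : Matrix ι ι F) *
          (((q₀.out : R) : GL ι F) : Matrix ι ι F) := by
        have e2 : (((((q.out : R) : GL ι F))⁻¹ : GL ι F) : Matrix ι ι F) * y =
            cf q ⟨y, hy⟩ • ((y : Matrix ι ι F) * (((((q.out : R) : GL ι F))⁻¹ : GL ι F) : Matrix ι ι F)) := by
          calc (((((q.out : R) : GL ι F))⁻¹ : GL ι F) : Matrix ι ι F) * y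
              = (((((q.out : R) : GL ι F))⁻¹ : GL ι F) : Matrix ι ι F) *
                ((y : Matrix ι ι F) * (((q.out : R) : GL ι F) : Matrix ι ι F)) *
                  (((((q.out : R) : GL ι F))⁻¹ : GL ι F) : Matrix ι ι F) := by simp [mul_assoc]
            _ = _ := by rw [e1]; simp [← mul_assoc]
        have hne : cf q ⟨y, hy⟩ ≠ 0 := fun h0 => by
          rw [h0, zero_smul, ← Units.val_mul] at e1
          exact Units.ne_zero _ e1
        calc ((((q.out : R) : GL ι F)⁻¹ : GL ι F) : Matrix ι ι F) * ((((q₀.out : R) : GL ι F) : Matrix ι ι F) * y)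
            = (cf q ⟨y, hy⟩)⁻¹ • (((((q.out : R) : GL ι F)⁻¹ : GL ι F) : Matrix ι ι F) * y *
              (((q₀.out : R) : GL ι F) : Matrix ι ι F)) := by
              rw [mul_assoc, e0, Matrix.mul_smul, smul_smul, inv_mul_cancel₀ hne, one_smul]
          _ = _ := by rw [e2, Matrix.smul_mul, smul_smul, inv_mul_cancel₀ hne, one_smul]
      _ = (y : Matrix ι ι F) * ((((((q.out : R) : GL ι F))⁻¹ : GL ι F) : Matrix ι ι F) *
          (((q₀.out : R) : GL ι F) : Matrix ι ι F)) := mul_assoc _ _ _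
  have hX : ∀ q, X q ≠ 0 := fun q => Units.ne_zero _
  have hli : LinearIndependent F X := by
    rw [Fintype.linearIndependent_iff]
    suffices h : ∀ (s : Finset (R ⧸ S)) (a : (R ⧸ S) → F), ∑ q ∈ s, a q • X q = 0 → ∀ q ∈ s, a q = 0 from
      fun a ha q => h Finset.univ a ha q (Finset.mem_univ q)
    intro s
    induction s using Finset.induction_on with
    | empty => simp
    | insert q₀ s hq₀ ih =>
      intro a ha
      rw [Finset.sum_insert hq₀] at ha
      have hs : ∀ q ∈ s, a q = 0 := fun q hq => by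
        obtain ⟨y, hy⟩ : ∃ y, cf q y ≠ cf q₀ y := by
          by_contra! h
          exact hq₀ (hsep q q₀ h ▸ hq)
        have h1 := congrArg (fun M => ((y : GL ι F) : Matrix ι ι F) * M) ha
        simp only [mul_add, Finset.mul_sum, Matrix.mul_smul, hcf, smul_smul, mul_zero] at h1
        have h2 := congrArg (fun M => cf q₀ y • (M * ((y : GL ι F) : Matrix ι ι F))) ha
        simp only [add_mul, Finset.sum_mul, Matrix.smul_mul, smul_add, Finset.smul_sum, smul_smul, zero_mul, smul_zero] at h2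
        have h3 : (∑ r ∈ s, (a r * (cf r y - cf q₀ y)) • X r) * ((y : GL ι F) : Matrix ι ι F) = 0 := by
          simp only [mul_sub, sub_smul, Finset.sum_sub_distrib, sub_mul, Finset.sum_mul, Matrix.smul_mul]
          rw [sub_eq_zero]
          have h4 := h1.trans h2.symm
          rw [mul_comm (a q₀)] at h4
          simpa [mul_comm] using add_left_cancel h4
        have h5 := congrArg (fun M => M * (((y : GL ι F)⁻¹ : GL ι F) : Matrix ι ι F)) h3
        simp only [mul_assoc, Units.mul_inv, mul_one, zero_mul] at h5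
        exact (mul_eq_zero.mp (ih _ h5 q hq)).resolve_right (sub_ne_zero.mpr hy)
      intro q hq
      rcases Finset.mem_insert.mp hq with rfl | hq
      · rw [Finset.sum_eq_zero fun r hr => by rw [hs r hr, zero_smul], add_zero] at ha
        exact (smul_eq_zero.mp ha).resolve_right (hX _)
      · exact hs q hq
  have hspan : ⊤ ≤ Submodule.span F (Set.range X) := by
    intro M _
    have hM : M ∈ algOf R := by
      rw [algOf_eq_top (irred_iff.mp habs.1) fun M hM => habs.2 M fun s hs => by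
        obtain ⟨y, hy, rfl⟩ := mem_matrixSet.mp hs
        exact (mem_commutant.mp hM y hy).symm]
      exact Algebra.mem_top
    rw [algOf, ← Subalgebra.mem_toSubmodule, Algebra.adjoin_eq_span,
      show (Submonoid.closure (matrixSet R) : Set (Matrix ι ι F)) = matrixSet R from by
        refine congrArg SetLike.coe (Submonoid.closure_eq (R.toSubmonoid.map (Units.coeHom _)))] at hM
    refine Submodule.span_le.mpr ?_ hM
    intro s hs
    obtain ⟨x, hx, rfl⟩ := mem_matrixSet.mp hs
    set q : R ⧸ S := QuotientGroup.mk ⟨x, hx⟩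
    obtain ⟨c, hc'⟩ : ∃ c : Fˣ, ((((q.out : R)⁻¹ * ⟨x, hx⟩ : R) : GL ι F) : Matrix ι ι F) = (c : F) • 1 :=
      (mem_scalars_iff _).mp (Subgroup.mem_subgroupOf.mp (QuotientGroup.eq.mp (QuotientGroup.out_eq' q)))
    have : (x : Matrix ι ι F) = (c : F) • X q := by
      rw [Subgroup.coe_mul, Subgroup.coe_inv, Units.val_mul] at hc'
      have h := congrArg (fun M => X q * M) hc'
      simp only [X, ← mul_assoc, Units.mul_inv, one_mul, Matrix.mul_smul, mul_one] at h
      exact h
    rw [this]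
    exact Submodule.smul_mem _ _ (Submodule.subset_span ⟨q, rfl⟩)
  have h := Module.finrank_eq_card_basis (Basis.mk hli hspan)
  rw [Module.finrank_matrix, Module.finrank_self, mul_one, ← Nat.card_eq_fintype_card (α := R ⧸ S), hk] at h
  simpa [Nat.card_eq_fintype_card] using h

end Cfsg.Agent.Lib.AschbacherEvenDim
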