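import Cfsg.Agent.Lib.AschbacherEvenDim.OddTools
import Cfsg.Agent.Lib.AschbacherEvenDim.TensorProper
import Cfsg.Agent.Lib.AschbacherEvenDim.Blocks
import Cfsg.Agent.Lib.AschbacherSp.PlusTensor

/-!
Tensor products of symmetric factors of dimensions three and four.
-/

set_option autoImplicit false
set_option linter.unusedSectionVars false

namespace Cfsg.Agent.Lib.AschbacherEvenDim

open Cfsg.Geo Module QuadraticMap Cfsg.Agent.Lib.Subspaces.OrthForm
open Cfsg.Agent.Lib.PrimeDim.Basic Cfsg.Agent.Lib.PrimeDim.Fields Cfsg.Agent.Lib.Aschbacher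
open Cfsg.Agent.Lib.AschbacherOrth (sym_gram gram_eq eq_half Sym)
open Cfsg.Agent.Lib.AschbacherSp (Isom mem_isom gramIn gramForm_in gramForm_ext gramForm_gramMatrix symm_isom
  two_ne_zero' pt om sw exists_hyperbolic gram_change coord_change similitudes similitude_pair factors_of_mem)
open scoped Matrix MatrixGroups Kronecker

variable {ι : Type} [Fintype ι] [DecidableEq ι] {F : Type*} [Field F] [Fintype F]

omit [Fintype F] in
theorem gram_sym {d : ℕ} {f : (Fin d → F) → (Fin d → F) → F} (hf : IsSymmetricForm f) :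
    Sym (gramMatrix f) :=
  ⟨Matrix.ext fun i j => hf.symm _ _,
    (isSesqui_of_bilinear hf.bilinear).det_ne_zero Function.bijective_id hf.nondegenerate⟩

omit [Fintype F] in
/-- The quadratic form of a symmetric form. -/
theorem quad_of_sym {d : ℕ} (h2 : (2 : F) ≠ 0) {f : (Fin d → F) → (Fin d → F) → F} (hf : IsSymmetricForm f) :
    IsNondegenerateQuadraticForm (fun v => f v v) ∧
      gramMatrix (QuadraticMap.polar fun v => f v v) = (2 : F) • gramMatrix f := by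
  have hb := hf.bilinear
  have hpol : ∀ x y, QuadraticMap.polar (fun v => f v v) x y = 2 * f x y := fun x y => by
    simp only [QuadraticMap.polar, hb.add_left, hb.add_right, hf.symm y x]
    ring
  refine ⟨⟨fun c v => ?_, ⟨fun x y z => ?_, fun a x z => ?_, fun z x y => ?_, fun a z x => ?_⟩, fun x hx => ?_⟩, ?_⟩
  · simp only [hb.smul_left, hb.smul_right]; ring
  · rw [hpol, hpol, hpol, hb.add_left]; ring
  · rw [hpol, hpol, hb.smul_left]; ring
  · rw [hpol, hpol, hpol, hb.add_right]; ring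
  · rw [hpol, hpol, hb.smul_right]; ring
  · obtain ⟨⟨y, hy⟩, ⟨z, hz⟩⟩ := hf.nondegenerate x hx
    exact ⟨⟨y, by rw [hpol]; exact mul_ne_zero h2 hy⟩, ⟨z, by rw [hpol]; exact mul_ne_zero h2 hz⟩⟩
  · ext i j
    exact hpol _ _

/-- A symmetric form on at least three dimensions has an isotropic vector. -/
theorem exists_isotropic_sym {d : ℕ} (hd : 3 ≤ d) (h2 : (2 : F) ≠ 0) {f : (Fin d → F) → (Fin d → F) → F}
    (hf : IsSymmetricForm f) : ∃ s : Fin d → F, s ≠ 0 ∧ f s s = 0 := by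
  obtain ⟨s, -, hs0, hsQ⟩ := Cfsg.Agent.Lib.Subspaces.OrthNondeg.exists_singular_in (quad_of_sym h2 hf).1 (S := ⊤)
    (by rw [finrank_top, Module.finrank_fin_fun]; exact hd)
  exact ⟨s, hs0, hsQ⟩

variable {Q : (ι → F) → F} (hQ : IsNondegenerateQuadraticForm Q)
include hQ

local notation "B" => QuadraticMap.polar Q
local notation "G₀" => gramMatrix (QuadraticMap.polar Q)

/-- The Gram matrix of a tensor structure. -/
theorem tensor_gram {m l : ℕ} {e : ι ≃ Fin m × Fin l} {P : GL ι F} {f₁ : (Fin m → F) → (Fin m → F) → F}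
    {f₂ : (Fin l → F) → (Fin l → F) → F} (hf : IsTensorFormStructure id B f₁ f₂ e P) :
    ∃ c : F, c ≠ 0 ∧ gramIn G₀ e P = c • (gramMatrix f₁ ⊗ₖ gramMatrix f₂) := by
  obtain ⟨c, hc, hf⟩ := hf
  refine ⟨c, hc, gramForm_ext fun x y => ?_⟩
  rw [← gramForm_in, gram_eq hQ, hf]
  simp [formOfGram, gramForm, dotProduct, Matrix.mulVec, Finset.mul_sum, mul_assoc, mul_left_comm]

/-- `Ω` preserves no tensor product of symmetric forms of dimension at least three. -/
theorem not_le_tensor_sym (hodd : Odd (Fintype.card F)) (h7 : 7 ≤ Fintype.card ι) {m l : ℕ} (hm : 3 ≤ m) (hl : 3 ≤ l)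
    {e : ι ≃ Fin m × Fin l} {P : GL ι F} {f₁ : (Fin m → F) → (Fin m → F) → F} {f₂ : (Fin l → F) → (Fin l → F) → F}
    (h1 : IsSymmetricForm f₁) (h2 : IsSymmetricForm f₂) (hf : IsTensorFormStructure id B f₁ f₂ e P) :
    ¬ omegaGL Q ≤ tensorProductSubgroup m l e P := by
  have h20 := two_ne_zero' hodd
  obtain ⟨c, -, hv⟩ := tensor_value h1.bilinear h2.bilinear hf
  obtain ⟨x₀, hx₀, hx₀0⟩ := exists_isotropic_sym hm h20 h1
  obtain ⟨s, hs, hs0⟩ := exists_isotropic_sym hl h20 h2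
  let L₁ : (Fin m → F) →ₗ[F] F :=
    { toFun := f₁ x₀, map_add' := fun x y => h1.bilinear.add_right _ x y
      map_smul' := fun a x => h1.bilinear.smul_right a _ x }
  obtain ⟨x₁, hx₁, hxli⟩ := exists_indep_kernel hm L₁ hx₀
  obtain ⟨a, -, hali⟩ := exists_indep_kernel hl (0 : (Fin l → F) →ₗ[F] F) hs
  refine not_le_tensor hQ h7 (x₀ := x₀) (w₀ := s) (x₁ := x₀) (x₂ := x₁) (w₁ := a) (w₂ := s) hx₀ hs ?_ hxli
    (LinearIndependent.pair_symm_iff.mp hali) ?_
  · rw [eq_half hQ hodd, hv, hx₀0, zero_mul, mul_zero, zero_div]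
  · rw [Q_add (Q := Q), eq_half hQ hodd, eq_half hQ hodd ((P : Matrix ι ι F) *ᵥ (pt x₁ s ∘ e)), hv, hv, hv, hx₀0, hs0,
      show f₁ x₀ x₁ = 0 from hx₁]
    simp

/-- The type of a product of dimensions three and four is that of the second factor. -/
theorem tensor_type_34 (hodd : Odd (Fintype.card F)) (hn : Fintype.card ι = 12) {e : ι ≃ Fin 3 × Fin 4} {P : GL ι F}
    {f₁ : (Fin 3 → F) → (Fin 3 → F) → F} {f₂ : (Fin 4 → F) → (Fin 4 → F) → F} (h1 : IsSymmetricForm f₁)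
    (h2 : IsSymmetricForm f₂) (hf : IsTensorFormStructure id B f₁ f₂ e P) :
    IsPlusTypeOn Q ⊤ ↔ IsPlusTypeOn (fun v => f₂ v v) ⊤ := by
  obtain ⟨c, hc, hg⟩ := tensor_gram hQ hf
  obtain ⟨hQ₂, hpol⟩ := quad_of_sym (two_ne_zero' hodd) h2
  rw [plus_iff_gramIn hQ hodd (m := 6) (by omega) e P, hg, plus_iff_gram hQ₂ hodd (m := 2) (by simp), hpol,
    Matrix.det_smul, Matrix.det_smul, Matrix.det_kronecker, Fintype.card_prod, Fintype.card_fin, Fintype.card_fin]
  have hd1 := (gram_sym h1).det_ne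
  have hd2 := (gram_sym h2).det_ne
  have h20 := two_ne_zero' hodd
  constructor <;> rintro ⟨r, hr⟩
  · exact ⟨4 * r / (c ^ 6 * (gramMatrix f₁).det ^ 2 * (gramMatrix f₂).det), by
      field_simp
      linear_combination (16 : F) * hr⟩
  · exact ⟨c ^ 6 * (gramMatrix f₁).det ^ 2 * (gramMatrix f₂).det * r / 4, by
      have h4 : (4 : F) ≠ 0 := by rw [show (4 : F) = 2 * 2 by norm_num]; exact mul_ne_zero h20 h20
      field_simp
      linear_combination (c ^ 12) * hr⟩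

/-- Over three elements the product has three blocks permuted transitively. -/
theorem tensor_34_three (hodd : Odd (Fintype.card F)) (hq : Fintype.card F = 3) {e : ι ≃ Fin 3 × Fin 4} {P : GL ι F}
    {f₁ : (Fin 3 → F) → (Fin 3 → F) → F} {f₂ : (Fin 4 → F) → (Fin 4 → F) → F} (h1 : IsSymmetricForm f₁)
    (h2 : IsSymmetricForm f₂) (hf : IsTensorFormStructure id B f₁ f₂ e P) {H : Subgroup (GL ι F)}
    (hHI : H ≤ Isom G₀) (hle : H ≤ tensorProductSubgroup 3 4 e P) (hirr : Irred H) :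
    ∃ D : Fin 3 → Submodule F (ι → F), IsOrthogonalMDecomposition Q 4 D ∧ H ≤ decompositionStabilizer D := by
  obtain ⟨c, hc, hf'⟩ := hf
  have hsw : IsTensorFormStructure id (gramForm G₀) f₂ f₁ (e.trans (Equiv.prodComm _ _)) P := by
    refine ⟨c, hc, fun x y => ?_⟩
    have := hf' (x ∘ Prod.swap) (y ∘ Prod.swap)
    rw [gram_eq hQ]
    refine this.trans ?_
    simp only [formOfGram, Fintype.sum_prod_type, Matrix.kroneckerMap_apply, Function.comp_apply, Prod.swap_prod_mk, id]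
    congr 1
    rw [Finset.sum_comm]
    refine Finset.sum_congr rfl fun a _ => Finset.sum_congr rfl fun b _ => ?_
    rw [Finset.sum_comm]
    exact Finset.sum_congr rfl fun a' _ => Finset.sum_congr rfl fun b' _ => by ring
  obtain ⟨D, hD, hDle⟩ := blocks_three hq (by norm_num) h2 h1 hsw
  have hle' : H ≤ decompositionStabilizer D :=
    (le_inf (hle.trans (tensorProduct_swap e P)) hHI).trans hDle
  exact ⟨D, isometric_decomp hQ hodd hD fun i j => by
    obtain ⟨h, hh, ht⟩ := transitive_of_irred hirr hD.decomp hle' i j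
    exact ⟨h, hHI hh, ht⟩, hle'⟩

/-- A plus factor on four dimensions regroups to two and six. -/
theorem tensor_34_plus (hodd : Odd (Fintype.card F)) (hn : Fintype.card ι = 12) {e : ι ≃ Fin 3 × Fin 4} {P : GL ι F}
    {f₁ : (Fin 3 → F) → (Fin 3 → F) → F} {f₂ : (Fin 4 → F) → (Fin 4 → F) → F} (h1 : IsSymmetricForm f₁)
    (h2 : IsSymmetricForm f₂) (hf : IsTensorFormStructure id B f₁ f₂ e P) (hplus : IsPlusTypeOn (fun v => f₂ v v) ⊤)
    {H : Subgroup (GL ι F)} (hH : H ≤ omegaGL Q) (hle : H ≤ tensorProductSubgroup 3 4 e P) :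
    ∃ (e' : ι ≃ Fin 2 × Fin 6) (P' : GL ι F) (g₁ : (Fin 2 → F) → (Fin 2 → F) → F)
      (g₂ : (Fin 6 → F) → (Fin 6 → F) → F), IsSymplecticForm g₁ ∧ IsSymplecticForm g₂ ∧
      IsTensorFormStructure id B g₁ g₂ e' P' ∧ H ≤ tensorProductSubgroup 2 6 e' P' := by
  classical
  haveI : Nonempty ι := Fintype.card_pos_iff.mp (by omega)
  have h20 := two_ne_zero' hodd
  obtain ⟨c, hc, hg⟩ := tensor_gram hQ hf
  set G₁ := gramMatrix f₁
  set G₂ := gramMatrix f₂
  have hs1 := gram_sym h1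
  have hs2 := gram_sym h2
  obtain ⟨ψ, M, hM⟩ := exists_hyperbolic h20 hs2.symm hs2.det_ne (by
    convert hplus using 2
    rename_i v
    exact gramForm_gramMatrix h2.bilinear v v)
  set Mv : Matrix (Fin 4) (Fin 4) F := (M : Matrix (Fin 4) (Fin 4) F)
  set Mi : Matrix (Fin 4) (Fin 4) F := ((M⁻¹ : GL (Fin 4) F) : Matrix (Fin 4) (Fin 4) F)
  let K : GL (Fin 3 × Fin 4) F :=
    ⟨(1 : Matrix (Fin 3) (Fin 3) F) ⊗ₖ Mv, (1 : Matrix (Fin 3) (Fin 3) F) ⊗ₖ Mi,
      by rw [← Matrix.mul_kronecker_mul, one_mul, Units.mul_inv, Matrix.one_kronecker_one],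
      by rw [← Matrix.mul_kronecker_mul, one_mul, Units.inv_mul, Matrix.one_kronecker_one]⟩
  let π : Fin 2 × Fin 3 ≃ Fin 6 := finProdFinEquiv
  let Ψ : Fin 3 × Fin 4 ≃ Fin 2 × Fin 6 :=
    { toFun := fun x => ((ψ x.2).1, π ((ψ x.2).2, x.1))
      invFun := fun y => ((π.symm y.2).2, ψ.symm (y.1, (π.symm y.2).1))
      left_inv := fun x => by simp
      right_inv := fun y => by simp }
  have hMψ : (Mvᵀ * G₂ * Mv).submatrix ψ.symm ψ.symm = om F ⊗ₖ om F := hM
  let C : Matrix (Fin 6) (Fin 6) F := (c • (om F ⊗ₖ G₁)).submatrix π.symm π.symm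
  have hgram : gramIn G₀ (e.trans Ψ) (P * glReindex e.symm K) = om F ⊗ₖ C := by
    rw [gram_change, hg]
    show (((1 : Matrix (Fin 3) (Fin 3) F) ⊗ₖ Mv)ᵀ * (c • (G₁ ⊗ₖ G₂)) *
      ((1 : Matrix (Fin 3) (Fin 3) F) ⊗ₖ Mv)).submatrix Ψ.symm Ψ.symm = _
    rw [← Matrix.kroneckerMap_transpose, Matrix.mul_smul, Matrix.smul_mul, ← Matrix.mul_kronecker_mul,
      ← Matrix.mul_kronecker_mul, Matrix.transpose_one, one_mul, mul_one]
    ext ⟨p, x⟩ ⟨r, y⟩
    have h := congrFun (congrFun hMψ (p, (π.symm x).1)) (r, (π.symm y).1)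
    simp only [Matrix.submatrix_apply, Matrix.kroneckerMap_apply] at h
    simp [Ψ, C, h]
    ring
  have hCs : Cᵀ = -C := by
    ext x y
    simp only [C, Matrix.transpose_apply, Matrix.submatrix_apply, Matrix.neg_apply, Matrix.smul_apply,
      Matrix.kroneckerMap_apply, smul_eq_mul]
    have e1 : ∀ u v, om F u v = -om F v u := fun u v => by fin_cases u <;> fin_cases v <;> simp [om]
    have e2 : G₁ (π.symm y).2 (π.symm x).2 = G₁ (π.symm x).2 (π.symm y).2 := congrFun (congrFun hs1.symm _) _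
    rw [e1 (π.symm y).1, e2]
    ring
  have hCd : C.det ≠ 0 := by
    simp only [C]
    rw [Matrix.det_submatrix_equiv_self, Matrix.det_smul, Matrix.det_kronecker]
    exact mul_ne_zero (pow_ne_zero _ hc)
      (mul_ne_zero (pow_ne_zero _ Cfsg.Agent.Lib.AschbacherSp.om_det) (pow_ne_zero _ hs1.det_ne))
  have homs : (om F)ᵀ = -om F := by ext i j; fin_cases i <;> fin_cases j <;> simp [om]
  have hdiag : ∀ {d : ℕ} {A : Matrix (Fin d) (Fin d) F}, Aᵀ = -A → ∀ i, A i i = 0 := fun {d A} h i =>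
    Cfsg.Agent.Lib.AschbacherSp.eq_zero_of_two_mul hodd (by simpa using congrFun (congrFun h i) i)
  refine ⟨e.trans Ψ, P * glReindex e.symm K, gramForm (om F), gramForm C,
    isSymplectic_gram homs (gramForm_self_eq_zero homs (hdiag homs)) Cfsg.Agent.Lib.AschbacherSp.om_det,
    isSymplectic_gram hCs (gramForm_self_eq_zero hCs (hdiag hCs)) hCd, ⟨1, one_ne_zero, fun x y => ?_⟩, fun g hh => ?_⟩
  · rw [← gram_eq hQ, gramForm_in, hgram, Cfsg.Agent.Lib.AschbacherSp.gramMatrix_gramForm,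
      Cfsg.Agent.Lib.AschbacherSp.gramMatrix_gramForm, one_mul]
    simp [formOfGram, gramForm, dotProduct, Matrix.mulVec, Finset.mul_sum, mul_assoc]
  obtain ⟨A, X, d, hd, hgv, hA, hX⟩ := factors_of_mem (G₁ := c • G₁) (C := G₂)
    (by rw [hg, Matrix.smul_kronecker]) (by
      rw [Matrix.det_smul]; exact mul_ne_zero (pow_ne_zero _ hc) hs1.det_ne) hs2.det_ne (hle hh)
    (mem_Isom hQ hodd (hH hh))
  set T := (Mi * (X : Matrix (Fin 4) (Fin 4) F) * Mv).submatrix ψ.symm ψ.symm with hTdef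
  have hTs : Tᵀ * (om F ⊗ₖ om F) * T = d⁻¹ • (om F ⊗ₖ om F) := by
    rw [← hMψ, hTdef, Matrix.transpose_submatrix, Matrix.submatrix_mul_equiv, Matrix.submatrix_mul_equiv]
    rw [show (Mi * (X : Matrix (Fin 4) (Fin 4) F) * Mv)ᵀ * (Mvᵀ * G₂ * Mv) *
      (Mi * (X : Matrix (Fin 4) (Fin 4) F) * Mv) = d⁻¹ • (Mvᵀ * G₂ * Mv) from ?_]
    · rfl
    calc _ = Mvᵀ * ((X : Matrix (Fin 4) (Fin 4) F)ᵀ * ((Mv * Mi)ᵀ * G₂ * (Mv * Mi)) *
          (X : Matrix (Fin 4) (Fin 4) F)) * Mv := by simp only [Matrix.transpose_mul, mul_assoc]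
      _ = _ := by
        rw [Units.mul_inv, Matrix.transpose_one, one_mul, mul_one, hX, Matrix.mul_smul, Matrix.smul_mul]
  have hval : (g : Matrix ι ι F) = coordAlg (e.trans Ψ) (P * glReindex e.symm K)
      (((A : Matrix (Fin 3) (Fin 3) F) ⊗ₖ (Mi * (X : Matrix (Fin 4) (Fin 4) F) * Mv)).submatrix Ψ.symm Ψ.symm) := by
    rw [coord_change]
    conv_lhs => rw [← (coordGL e P).apply_symm_apply g, coordGL_val, hgv]
    congr 1
    rw [Matrix.submatrix_submatrix, Equiv.symm_comp_self, Matrix.submatrix_id_id]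
    show _ = ((1 : Matrix (Fin 3) (Fin 3) F) ⊗ₖ Mv) * _ * ((1 : Matrix (Fin 3) (Fin 3) F) ⊗ₖ Mi)
    rw [← Matrix.mul_kronecker_mul, ← Matrix.mul_kronecker_mul, one_mul, mul_one]
    congr 1
    rw [← mul_assoc, ← mul_assoc, Units.mul_inv, one_mul, mul_assoc, Units.mul_inv, mul_one]
  obtain ⟨X₁, X₂, hT | hT⟩ := similitudes h20 (inv_ne_zero hd) hTs
  · set N : Matrix (Fin 6) (Fin 6) F :=
      ((X₂ : Matrix (Fin 2) (Fin 2) F) ⊗ₖ (A : Matrix (Fin 3) (Fin 3) F)).submatrix π.symm π.symm with hN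
    have hNd : N.det ≠ 0 := by
      rw [hN, Matrix.det_submatrix_equiv_self, Matrix.det_kronecker]
      exact mul_ne_zero (pow_ne_zero _ ((Matrix.isUnit_iff_isUnit_det _).mp X₂.isUnit).ne_zero)
        (pow_ne_zero _ ((Matrix.isUnit_iff_isUnit_det _).mp A.isUnit).ne_zero)
    let g₁ : GL (Fin 2 × Fin 6) F := Matrix.GeneralLinearGroup.mkOfDetNeZero ((X₁ : Matrix (Fin 2) (Fin 2) F) ⊗ₖ N)
      (by
        rw [Matrix.det_kronecker]
        exact mul_ne_zero (pow_ne_zero _ ((Matrix.isUnit_iff_isUnit_det _).mp X₁.isUnit).ne_zero) (pow_ne_zero _ hNd))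
    have hmem : g₁ ∈ kroneckerSubgroup 2 6 F := ⟨X₁, Matrix.GeneralLinearGroup.mkOfDetNeZero N hNd, rfl⟩
    refine ⟨_, ⟨g₁, hmem, rfl⟩, Units.ext ?_⟩
    refine Eq.trans ?_ hval.symm
    show coordAlg (e.trans Ψ) (P * glReindex e.symm K) ((X₁ : Matrix (Fin 2) (Fin 2) F) ⊗ₖ N) = _
    congr 1
    ext ⟨p, x⟩ ⟨r, y⟩
    have h := congrFun (congrFun hT (p, (π.symm x).1)) (r, (π.symm y).1)
    simp only [hTdef, Matrix.submatrix_apply, Matrix.kroneckerMap_apply] at h
    simp [Ψ, hN, h]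
    ring
  -- the exchange has determinant minus one
  exfalso
  have hswdet : (sw F).det = -1 := by
    have e1 : sw F = (Equiv.prodComm (Fin 2) (Fin 2)).toPEquiv.toMatrix := by
      ext x y
      simp [sw, PEquiv.toMatrix_apply, eq_comm]
    rw [e1, ← Equiv.Perm.permMatrix, Matrix.det_permutation,
      show Equiv.Perm.sign (Equiv.prodComm (Fin 2) (Fin 2) : Equiv.Perm (Fin 2 × Fin 2)) = -1 by decide +kernel]
    simp
  have hswf : (sw F)ᵀ * (om F ⊗ₖ om F) * sw F = om F ⊗ₖ om F := by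
    ext ⟨p, p'⟩ ⟨r, r'⟩
    fin_cases p <;> fin_cases p' <;> fin_cases r <;> fin_cases r' <;>
      simp [sw, om, Matrix.mul_apply, Fintype.sum_prod_type, Fin.sum_univ_two]
  have hγ : (X₁ : Matrix (Fin 2) (Fin 2) F).det * (X₂ : Matrix (Fin 2) (Fin 2) F).det = d⁻¹ := by
    have h := hTs
    rw [hT, Matrix.transpose_mul] at h
    have h' : ((X₁ : Matrix (Fin 2) (Fin 2) F) ⊗ₖ (X₂ : Matrix (Fin 2) (Fin 2) F))ᵀ *
        ((sw F)ᵀ * (om F ⊗ₖ om F) * sw F) * ((X₁ : Matrix (Fin 2) (Fin 2) F) ⊗ₖ (X₂ : Matrix (Fin 2) (Fin 2) F)) =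
        d⁻¹ • (om F ⊗ₖ om F) := by rw [← h]; simp only [mul_assoc]
    rw [hswf, similitude_pair] at h'
    refine smul_left_injective F (fun h0 => ?_) h'
    have := congrFun (congrFun h0 (0, 0)) (1, 1)
    simp [om] at this
  have hdX : (X : Matrix (Fin 4) (Fin 4) F).det = -(d⁻¹ * d⁻¹) := by
    have h1 : T.det = (X : Matrix (Fin 4) (Fin 4) F).det := by
      rw [hTdef, Matrix.det_submatrix_equiv_self, Matrix.det_mul, Matrix.det_mul, mul_comm Mi.det, mul_assoc,
        ← Matrix.det_mul, Units.inv_mul, Matrix.det_one, mul_one]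
    rw [← h1, hT, Matrix.det_mul, hswdet, Matrix.det_kronecker, Fintype.card_fin, ← hγ]
    ring
  have hdA : (A : Matrix (Fin 3) (Fin 3) F).det * (A : Matrix (Fin 3) (Fin 3) F).det = d ^ 3 := by
    have h := congrArg Matrix.det hA
    rw [Matrix.det_mul, Matrix.det_mul, Matrix.det_transpose, Matrix.det_smul _ d, Fintype.card_fin] at h
    refine mul_right_cancel₀ (b := (c • G₁).det) ?_ (by linear_combination h)
    rw [Matrix.det_smul]
    exact mul_ne_zero (pow_ne_zero _ hc) hs1.det_ne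
  have h1 := det_omega (hH hh)
  have hdet : ∀ Y : Matrix (Fin 3 × Fin 4) (Fin 3 × Fin 4) F, (coordAlg e P Y).det = Y.det := fun Y => by
    rw [coordAlg_apply, Matrix.det_units_conj]
    exact Matrix.det_reindexAlgEquiv F F e.symm Y
  rw [← (coordGL e P).apply_symm_apply g, coordGL_val, hgv, hdet, Matrix.det_kronecker, Fintype.card_fin,
    Fintype.card_fin, hdX] at h1
  have h6 : (-1 : F) = 1 := by
    refine Eq.trans ?_ h1
    rw [show (A : Matrix (Fin 3) (Fin 3) F).det ^ 4 =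
      ((A : Matrix (Fin 3) (Fin 3) F).det * (A : Matrix (Fin 3) (Fin 3) F).det) ^ 2 by ring, hdA]
    field_simp
  exact h20 (by linear_combination (-1 : F) * h6)

end Cfsg.Agent.Lib.AschbacherEvenDim
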