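import Cfsg.Agent.Lib.AschbacherEvenDim.OddDecomp
import Cfsg.Agent.Lib.AschbacherEvenDim.OddField
import Cfsg.Agent.Lib.AschbacherEvenDim.OddTensor
import Cfsg.Agent.Lib.AschbacherEvenDim.OddGroup
import Cfsg.Agent.Lib.AschbacherOrth.OddDim

/-!
The outcomes for an irreducible subgroup of `Ω` in dimensions eight, ten and twelve, odd characteristic.
-/

set_option autoImplicit false
set_option linter.unusedSectionVars false

namespace Cfsg.Agent.Lib.AschbacherEvenDim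

open Cfsg.Geo Module QuadraticMap
open Cfsg.Agent.Lib.PrimeDim.Basic Cfsg.Agent.Lib.Aschbacher
open Cfsg.Agent.Lib.AschbacherOrth (sym_gram gram_eq singular_quad field_dvd' not_symplectic_odd)
open Cfsg.Agent.Lib.AschbacherSp (Isom gramIn gramForm_in gramForm_single co3)
open scoped Matrix MatrixGroups Kronecker

variable {ι : Type} [Fintype ι] [DecidableEq ι] {F : Type*} [Field F] [Fintype F]

/-- The outcomes for an irreducible subgroup, odd characteristic. -/
def OddIrredOutcome (Q : (ι → F) → F) (m : ℕ) (H : Subgroup (GL ι F)) : Prop :=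
  (∃ (t k : ℕ) (D : Fin t → Submodule F (ι → F)), 2 ≤ t ∧ 1 ≤ k ∧ t * k = Fintype.card ι ∧
    IsOrthogonalMDecomposition Q k D ∧ H ≤ decompositionStabilizer D) ∨
  (∃ D : Fin 2 → Submodule F (ι → F), IsMDecomposition m D ∧ (∀ i, IsTotallySingularQuad Q (D i)) ∧
    H ≤ decompositionStabilizer D) ∨
  (∃ (r : ℕ) (K : Subalgebra F (Matrix ι ι F)), r.Prime ∧ r ∣ Fintype.card ι ∧ IsFieldSubalgebra r K ∧
    IsSelfAdjointFor (QuadraticMap.polar Q) K ∧ H ≤ subalgebraNormalizer K) ∨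
  PairOrField Q H ∨
  (∃ (l : ℕ) (e : ι ≃ Fin 2 × Fin l) (P : GL ι F) (f₁ : (Fin 2 → F) → (Fin 2 → F) → F)
    (f₂ : (Fin l → F) → (Fin l → F) → F), 2 * l = Fintype.card ι ∧ Even l ∧ IsSymplecticForm f₁ ∧
    IsSymplecticForm f₂ ∧ IsTensorFormStructure id (QuadraticMap.polar Q) f₁ f₂ e P ∧
    H ≤ tensorProductSubgroup 2 l e P) ∨
  (∃ (e : ι ≃ Fin 3 × Fin 4) (P : GL ι F) (f₁ : (Fin 3 → F) → (Fin 3 → F) → F)
    (f₂ : (Fin 4 → F) → (Fin 4 → F) → F), Fintype.card ι = 12 ∧ IsSymmetricForm f₁ ∧ IsSymmetricForm f₂ ∧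
    IsTensorFormStructure id (QuadraticMap.polar Q) f₁ f₂ e P ∧ H ≤ tensorProductSubgroup 3 4 e P) ∨
  (∃ (F₀ : Subfield F) (r : ℕ) (P : GL ι F) (ζ : F), r.Prime ∧ Fintype.card F = Nat.card F₀ ^ r ∧ ζ ≠ 0 ∧
    IsQuadFormRationalStructure (fun v => ζ * Q v) F₀ P ∧ H ≤ subfieldSubgroup F₀ P) ∨
  (Fintype.card ι = 8 ∧ PairOrField Q (⊥ : Subgroup (GL ι F))) ∨
  InOrthogonalResidualClass H

variable {Q : (ι → F) → F} (hQ : IsNondegenerateQuadraticForm Q)
include hQ

local notation "B" => QuadraticMap.polar Q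
local notation "G₀" => gramMatrix (QuadraticMap.polar Q)

/-- A tensor cube of planes gives a skew element. -/
theorem of_cube [Nonempty ι] (hodd : Odd (Fintype.card F)) {e : ι ≃ (Fin 3 → Fin 2)} {P : GL ι F}
    {f₁ : (Fin 2 → F) → (Fin 2 → F) → F} (h1 : IsSymmetricForm f₁)
    (hf : IsTensorPowerFormStructure id B f₁ e P) : PairOrField Q (⊥ : Subgroup (GL ι F)) := by
  classical
  obtain ⟨c, hc, hf⟩ := hf
  set G₁ := gramMatrix f₁
  have hs := gram_sym h1
  let π : (Fin 3 → Fin 2) ≃ Fin 2 × Fin 4 :=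
    co3.symm.trans ((Equiv.refl (Fin 2)).prodCongr finProdFinEquiv)
  let D : Matrix (Fin 4) (Fin 4) F :=
    (c • (G₁ ⊗ₖ G₁)).submatrix (finProdFinEquiv (m := 2) (n := 2)).symm (finProdFinEquiv (m := 2) (n := 2)).symm
  have hent : ∀ a b, gramIn G₀ e P a b = c * ∏ i, G₁ (a i) (b i) := fun a b => by
    rw [← gramForm_single (gramIn G₀ e P), ← gramForm_in, gram_eq hQ, hf]
    simp [Pi.single_apply, Finset.sum_ite_eq', G₁]
  have hg : gramIn G₀ (e.trans π) P = G₁ ⊗ₖ D := by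
    ext x y
    show gramIn G₀ e P (π.symm x) (π.symm y) = _
    rw [hent, Fin.prod_univ_three]
    simp [π, D, co3]
    ring
  have hDd : D.det ≠ 0 := by
    simp only [D]
    rw [Matrix.det_submatrix_equiv_self, Matrix.det_smul, Matrix.det_kronecker]
    exact mul_ne_zero (pow_ne_zero _ hc) (mul_ne_zero (pow_ne_zero _ hs.det_ne) (pow_ne_zero _ hs.det_ne))
  exact of_two_factor hQ hodd (H := ⊥) hg hs.det_ne hDd hs.symm bot_le bot_le

/-- The irreducible case. -/
theorem odd_irred (hodd : Odd (Fintype.card F)) {m : ℕ} (hn : Fintype.card ι = 2 * m)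
    (hm : m = 4 ∨ m = 5 ∨ m = 6) {H : Subgroup (GL ι F)} (hH : H ≤ omegaGL Q) (hirr : Irred H) :
    OddIrredOutcome Q m H := by
  classical
  haveI : Nonempty ι := Fintype.card_pos_iff.mp (by omega)
  have hG := sym_gram hQ
  have hg := gram_eq hQ
  have hHI : H ≤ Isom G₀ := fun g hgH => mem_Isom hQ hodd (hH hgH)
  have hred : ∀ W : Submodule F (ι → F), W ≠ ⊥ → W ≠ ⊤ → ¬ H ≤ subspaceStabilizer W := fun W h0 h1 hle =>
    (hirr W fun h hh w hw => (hle hh w).mp hw).elim h0 h1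
  rcases Cfsg.Agent.Lib.AschbacherOrth.main hG hodd (by omega) H hHI with hgeo | hres
  swap
  · exact Or.inr (Or.inr (Or.inr (Or.inr (Or.inr (Or.inr (Or.inr (Or.inr hres)))))))
  rcases hgeo with ⟨W, h0, h1, h⟩ | ⟨W, h0, h1, -, h⟩ | ⟨t, k, D, hD, hi, h⟩ | ⟨k, D, hk, hD, hts, h⟩ |
    ⟨r, K, hr, hK, hs, h⟩ | ⟨K, -, hK, hc, hns, h⟩ | ⟨n₁, n₂, e, P, f₁, f₂, h2, h12, hs, -, hf, h⟩ |
    ⟨F₀, r, P, ζ, hr, hq, hζ, hP, h⟩ | ⟨R, -, hc, hns, hRI, habs, -⟩ | ⟨k, t, e, P, f₁, hk, ht, hs, -, hf, -⟩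
  · refine absurd h (hred W h0 fun htop => ?_)
    exact ne_top_ts hQ (singular_quad hQ hodd (hg ▸ h1)) htop
  · exact absurd h (hred W h0 h1)
  · exact Or.inl ⟨t, k, D, hD.decomp.two_le, hD.decomp.pos,
      Cfsg.Agent.Lib.AschbacherSp.decomposition_card hD.decomp, isometric_decomp hQ hodd hD hi, h⟩
  · obtain rfl : k = m := by omega
    exact Or.inr (Or.inl ⟨D, hD, fun i => singular_quad hQ hodd (hg ▸ hts i), h⟩)
  · exact Or.inr (Or.inr (Or.inl ⟨r, K, hr, field_dvd' hK, hK, hg ▸ hs, h⟩))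
  · rw [hg] at hc hns
    exact Or.inr (Or.inr (Or.inr (Or.inl
      (Or.inr ⟨K, hK, hc, hns, similitude_field hQ hodd hK hc hns, h⟩))))
  · have hcard : n₁ * n₂ = Fintype.card ι := by simp [Fintype.card_congr e]
    rw [hg] at hf
    have hn₁ : n₁ = 2 ∨ (n₁ = 3 ∧ n₂ = 4) := by
      have h1 : n₁ * n₁ ≤ 12 := le_trans (Nat.mul_le_mul_left n₁ h12) (by omega)
      have h3 : n₁ ≤ 3 := by nlinarith
      interval_cases n₁
      · exact Or.inl rfl
      · right; omega
    rcases hn₁ with rfl | ⟨rfl, rfl⟩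
    · rcases hs with ⟨hs1, hs2⟩ | ⟨hs1, hs2⟩
      · obtain ⟨c, hc, hgram⟩ := tensor_gram hQ hf
        have hd1 := gram_sym hs1
        have hd2 := gram_sym hs2
        refine Or.inr (Or.inr (Or.inr (Or.inl (of_two_factor hQ hodd (C := gramMatrix f₁)
          (D := c • gramMatrix f₂) (by rw [hgram, Matrix.kronecker_smul]) hd1.det_ne ?_ hd1.symm hHI h))))
        rw [Matrix.det_smul]
        exact mul_ne_zero (pow_ne_zero _ hc) hd2.det_ne
      · have hev : Even n₂ := by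
          by_contra hne
          exact not_symplectic_odd hodd (Nat.not_even_iff_odd.mp hne) hs2
        exact Or.inr (Or.inr (Or.inr (Or.inr (Or.inl ⟨n₂, e, P, f₁, f₂, hcard, hev, hs1, hs2, hf, h⟩))))
    · rcases hs with ⟨hs1, hs2⟩ | ⟨hs1, -⟩
      · exact Or.inr (Or.inr (Or.inr (Or.inr (Or.inr (Or.inl ⟨e, P, f₁, f₂, by omega, hs1, hs2, hf, h⟩)))))
      · exact (not_symplectic_odd hodd (by decide) hs1).elim
  · exact Or.inr (Or.inr (Or.inr (Or.inr (Or.inr (Or.inr (Or.inl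
      ⟨F₀, r, P, ζ, hr, hq, hζ, quad_rational hQ hodd hP, h⟩))))))
  · obtain ⟨j, hj⟩ := card_of_commutators hQ hRI hc habs
    have h8 : m = 4 := by
      rcases hm with rfl | rfl | rfl
      · rfl
      all_goals
        exfalso
        rw [hn] at hj
        have hj8 : j < 8 := by
          by_contra hge
          have := Nat.pow_le_pow_right (show 0 < 2 by norm_num) (not_lt.mp hge)
          omega
        interval_cases j <;> norm_num at hj
    exact Or.inr (Or.inr (Or.inr (Or.inr (Or.inr (Or.inr (Or.inr (Or.inl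
      ⟨by omega, skew_of_commutators hQ hodd hRI hc habs hns⟩)))))))
  · have hcard : k ^ t = Fintype.card ι := by simp [Fintype.card_congr e]
    have hk12 : k ≤ 12 := le_trans (Nat.le_self_pow (show t ≠ 0 by omega) k) (by omega)
    have ht3 : t ≤ 3 := by
      by_contra hlt
      have h1 := Nat.pow_le_pow_right (show 0 < k by omega) (show 4 ≤ t by omega)
      have h2 := Nat.pow_le_pow_left hk 4
      omega
    have hkt : k = 2 ∧ t = 3 := by
      interval_cases t <;> interval_cases k <;> norm_num at hcard ⊢ <;> omega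
    obtain ⟨rfl, rfl⟩ := hkt
    rcases hs with hs | ⟨he, -⟩
    · exact Or.inr (Or.inr (Or.inr (Or.inr (Or.inr (Or.inr (Or.inr (Or.inl
        ⟨by omega, of_cube hQ hodd hs (hg ▸ hf)⟩)))))))
    · exact absurd he (by decide)

end Cfsg.Agent.Lib.AschbacherEvenDim
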