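import Cfsg.Agent.Lib.AschbacherEvenDim.Disc

/-!
Common reductions in odd characteristic: skew elements, similitude fields, transitivity.
-/

set_option autoImplicit false
set_option linter.unusedSectionVars false

namespace Cfsg.Agent.Lib.AschbacherEvenDim

open Cfsg.Geo Module QuadraticMap Cfsg.Agent.Lib.Subspaces.OrthForm
open Cfsg.Agent.Lib.PrimeDim.Basic Cfsg.Agent.Lib.Aschbacher
open Cfsg.Agent.Lib.AschbacherOrth (sym_gram gram_eq eq_half isom_eq areIsometric eq_adj adj_isom)
open Cfsg.Agent.Lib.AschbacherSp (gramIn adj Isom mem_isom factors_of_mem gramForm_toX toX_coord two_ne_zero')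
open scoped Matrix MatrixGroups Kronecker

variable {ι : Type} [Fintype ι] [DecidableEq ι] {F : Type*} [Field F] [Fintype F] {Q : (ι → F) → F}
  (hQ : IsNondegenerateQuadraticForm Q)
include hQ

local notation "B" => QuadraticMap.polar Q
local notation "G₀" => gramMatrix (QuadraticMap.polar Q)

/-- Isometries for `Q` of an element of `Ω`. -/
theorem mem_Isom (hodd : Odd (Fintype.card F)) {g : GL ι F} (hg : g ∈ omegaGL Q) : g ∈ Isom G₀ := by
  rw [isom_eq hQ hodd]
  exact Cfsg.Agent.Lib.AschbacherOrth.omegaGL_le_isometryGroup Q hg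

/-- A skew element squaring to a scalar gives a pair or a field. -/
theorem of_skew [Nonempty ι] (hodd : Odd (Fintype.card F)) {H : Subgroup (GL ι F)} {T : Matrix ι ι F} {δ : F}
    (hskew : ∀ u v, B (T *ᵥ u) v + B u (T *ᵥ v) = 0) (hδ : δ ≠ 0) (hT : T * T = δ • 1)
    (hconj : ∀ h ∈ H, (h : Matrix ι ι F) * T * ((h⁻¹ : GL ι F) : Matrix ι ι F) = T ∨
      (h : Matrix ι ι F) * T * ((h⁻¹ : GL ι F) : Matrix ι ι F) = -T) : PairOrField Q H := by
  have h2 := two_ne_zero' hodd
  refine of_quadratic hQ (T := T) (p := 0) (r := δ) (by simp [hT]) (by simpa using hskew) (fun v => ?_) ?_ (Or.inr h2)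
    (fun h hh => by simpa using hconj h hh)
  · have := hskew v v
    rw [B_comm v (T *ᵥ v)] at this
    rw [zero_mul]
    exact mul_left_cancel₀ h2 (by linear_combination this)
  · rw [zero_mul, zero_add, show (4 : F) = 2 * 2 by norm_num]
    exact mul_ne_zero (mul_ne_zero h2 h2) hδ

/-- For even `m` a pair or a field means plus type. -/
theorem pairOrField_plus [Nonempty ι] {m : ℕ} (hn : Fintype.card ι = 2 * m) (hm : Even m) {H : Subgroup (GL ι F)}
    (h : PairOrField Q H) : IsPlusTypeOn Q ⊤ := by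
  rcases h with ⟨k, D, hk, hD, hs, -⟩ | ⟨K, hK, -, -, hsim, -⟩
  · exact plus_of_ts (hs 0) (by rw [hD.finrank_eq]; omega)
  · exact (field_two_type hQ hn hK hsim).2 hm

/-- For odd `m` an irreducible group leaves only the field, which means minus type. -/
theorem pairOrField_minus [Nonempty ι] {m : ℕ} (hn : Fintype.card ι = 2 * m) (hm : Odd m) {H : Subgroup (GL ι F)}
    (hH : H ≤ omegaGL Q) (hirr : Irred H) (h : PairOrField Q H) :
    ¬ IsPlusTypeOn Q ⊤ ∧ ∃ K : Subalgebra F (Matrix ι ι F), IsFieldSubalgebra 2 K ∧ IsAdjointClosedFor B K ∧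
      ¬ IsSelfAdjointFor B K ∧ (∀ k ∈ K, ∃ c : F, ∀ v : ι → F, Q (k *ᵥ v) = c * Q v) ∧
      H ≤ subalgebraNormalizer K := by
  rcases h with ⟨k, D, hk, hD, hs, hle⟩ | ⟨K, hK, hc, hns, hsim, hle⟩
  · obtain rfl : k = m := by omega
    exact absurd hirr (pair_reducible hQ hn hm hD hs hH hle)
  · exact ⟨(field_two_type hQ hn hK hsim).1 hm, K, hK, hc, hns, hsim, hle⟩

/-- A quadratic field closed under adjoints, not self-adjoint, consists of similitudes. -/
theorem similitude_field [Nonempty ι] (hodd : Odd (Fintype.card F)) {K : Subalgebra F (Matrix ι ι F)}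
    (hK : IsFieldSubalgebra 2 K) (hc : IsAdjointClosedFor B K) (hns : ¬ IsSelfAdjointFor B K) :
    ∀ k ∈ K, ∃ c : F, ∀ v : ι → F, Q (k *ᵥ v) = c * Q v := by
  classical
  have hG := sym_gram hQ
  have hg := gram_eq hQ
  have hadj : ∀ k ∈ K, adj G₀ k ∈ K := fun k hk => by
    obtain ⟨k', hk', h⟩ := hc k hk
    rwa [← eq_adj hG (M := k) (M' := k') (fun u v => by rw [hg]; exact h u v)]
  let S : Submodule F K :=
    { carrier := {k | adj G₀ (k : Matrix ι ι F) = k}
      add_mem' := fun {a b} ha hb => by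
        show adj G₀ ((a : Matrix ι ι F) + b) = _
        rw [Cfsg.Agent.Lib.AschbacherOrth.adj_add hG, ha, hb]; rfl
      zero_mem' := Cfsg.Agent.Lib.AschbacherOrth.adj_zero hG
      smul_mem' := fun c a ha => by
        show adj G₀ (c • (a : Matrix ι ι F)) = _
        rw [Cfsg.Agent.Lib.AschbacherOrth.adj_smul hG, ha]; rfl }
  have hS : S ≠ ⊤ := fun h => hns fun k hk u v => by
    have h1 : adj G₀ k = k := (h ▸ Submodule.mem_top : (⟨k, hk⟩ : K) ∈ S)
    have h2 := Cfsg.Agent.Lib.AschbacherOrth.gramForm_adj hG k u v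
    rwa [h1, hg] at h2
  have hone : (1 : K) ∈ S := Cfsg.Agent.Lib.AschbacherOrth.adj_one hG
  haveI : Module.Finite F K := Module.Finite.of_finite
  have hlt := Submodule.finrank_lt hS
  rw [hK.finrank_eq] at hlt
  have hS1 : S = Submodule.span F {(1 : K)} := by
    refine (Submodule.eq_of_le_of_finrank_le ((Submodule.span_singleton_le_iff_mem _ _).mpr hone) ?_).symm
    rw [finrank_span_singleton (one_ne_zero : (1 : K) ≠ 0)]
    omega
  intro k hk
  have hmem : (⟨adj G₀ k * k, mul_mem (hadj k hk) hk⟩ : K) ∈ S := by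
    show adj G₀ (adj G₀ k * k) = _
    rw [Cfsg.Agent.Lib.AschbacherOrth.adj_mul hG, Cfsg.Agent.Lib.AschbacherOrth.adj_adj hG]
  rw [hS1, Submodule.mem_span_singleton] at hmem
  obtain ⟨c, hc'⟩ := hmem
  have hc'' : adj G₀ k * k = c • (1 : Matrix ι ι F) := (congrArg Subtype.val hc').symm
  refine ⟨c, fun v => ?_⟩
  have h1 := Cfsg.Agent.Lib.AschbacherOrth.gramForm_adj hG k v (k *ᵥ v)
  rw [Matrix.mulVec_mulVec, hc'', hg, Matrix.smul_mulVec, Matrix.one_mulVec, hQ.polar_bilinear.smul_right] at h1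
  rw [eq_half hQ hodd, eq_half hQ hodd v, h1]
  ring

/-- A tensor product with a symmetric factor on two dimensions gives a skew element. -/
theorem of_two_factor [Nonempty ι] (hodd : Odd (Fintype.card F)) {H : Subgroup (GL ι F)} {l : ℕ}
    {ε : ι ≃ Fin 2 × Fin l} {P : GL ι F} {C : Matrix (Fin 2) (Fin 2) F} {D : Matrix (Fin l) (Fin l) F}
    (h : gramIn G₀ ε P = C ⊗ₖ D) (h1 : C.det ≠ 0) (h2 : D.det ≠ 0) (hs : Cᵀ = C) (hHI : H ≤ Isom G₀)
    (hle : H ≤ tensorProductSubgroup 2 l ε P) : PairOrField Q H := by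
  classical
  have hG := sym_gram hQ
  set J : Matrix (Fin 2) (Fin 2) F := !![0, 1; -1, 0] with hJ
  set S := C⁻¹ * J with hS
  have hu : IsUnit C.det := isUnit_iff_ne_zero.mpr h1
  have hJdet : ∀ X : Matrix (Fin 2) (Fin 2) F, Xᵀ * J * X = X.det • J := fun X => by
    ext i j
    fin_cases i <;> fin_cases j <;> simp [hJ, Matrix.mul_apply, Fin.sum_univ_two, Matrix.det_fin_two] <;> ring
  have hJJ : J * J = (-1 : F) • 1 := by
    ext i j
    fin_cases i <;> fin_cases j <;> simp [hJ, Matrix.mul_apply, Fin.sum_univ_two]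
  have hCi : (C⁻¹)ᵀ = C⁻¹ := by rw [Matrix.transpose_nonsing_inv, hs]
  have hS2 : S * S = (-(C.det)⁻¹) • (1 : Matrix (Fin 2) (Fin 2) F) := by
    have h5 := hJdet C⁻¹
    rw [hCi] at h5
    calc S * S = (C⁻¹ * J * C⁻¹) * J := by rw [hS]; simp [mul_assoc]
      _ = _ := by rw [h5, Matrix.smul_mul, hJJ, smul_smul, Matrix.det_nonsing_inv, Ring.inverse_eq_inv', mul_neg_one]
  have hSC : Sᵀ * C = -(C * S) := by
    rw [hS, Matrix.transpose_mul, hCi, mul_assoc, Matrix.nonsing_inv_mul _ hu, mul_one,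
      Matrix.mul_nonsing_inv_cancel_left _ _ hu]
    ext i j
    fin_cases i <;> fin_cases j <;> simp [hJ]
  set T := coordAlg ε P (S ⊗ₖ (1 : Matrix (Fin l) (Fin l) F)) with hT
  have hTT : T * T = (-(C.det)⁻¹) • 1 := by
    rw [hT, ← map_mul, ← Matrix.mul_kronecker_mul, one_mul, hS2, Matrix.smul_kronecker, Matrix.one_kronecker_one,
      map_smul, map_one]
  have hskew : ∀ u v, B (T *ᵥ u) v + B u (T *ᵥ v) = 0 := fun u v => by
    rw [← gram_eq hQ, gramForm_toX G₀ ε P, gramForm_toX G₀ ε P u, hT, toX_coord, toX_coord, h]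
    simp only [gramForm, Matrix.mulVec_mulVec]
    rw [← Matrix.vecMul_transpose, ← Matrix.dotProduct_mulVec, Matrix.mulVec_mulVec,
      ← Matrix.kroneckerMap_transpose, Matrix.transpose_one, ← Matrix.mul_kronecker_mul, ← Matrix.mul_kronecker_mul,
      one_mul, mul_one, hSC, ← dotProduct_add, ← Matrix.add_mulVec, ← Matrix.add_kronecker, neg_add_cancel,
      Matrix.zero_kronecker, Matrix.zero_mulVec, dotProduct_zero]
  refine of_skew hQ hodd hskew (neg_ne_zero.mpr (inv_ne_zero h1)) hTT fun g hg => ?_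
  obtain ⟨A, X, c, hc, hgv, hAC, -⟩ := factors_of_mem h h1 h2 (hle (inv_mem hg)) (hHI (inv_mem hg))
  set a : Matrix (Fin 2) (Fin 2) F := (A : Matrix (Fin 2) (Fin 2) F) with ha
  have hau : IsUnit a.det := (Matrix.isUnit_iff_isUnit_det _).mp A.isUnit
  have hk : S * a = (c⁻¹ * a.det) • (a * S) := by
    have e2 : J * a = a.det • (a⁻¹ᵀ * J) := by
      rw [← Matrix.mul_smul, ← hJdet a, ← mul_assoc, ← mul_assoc, ← Matrix.transpose_mul,
        Matrix.mul_nonsing_inv _ hau, Matrix.transpose_one, one_mul]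
    have e3 : a⁻¹ᵀ = c⁻¹ • (C * a * C⁻¹) := by
      have e4 := congrArg (fun M => a⁻¹ᵀ * (M * C⁻¹)) hAC
      rw [mul_assoc, mul_assoc] at e4
      simp only [← mul_assoc, ← Matrix.transpose_mul, Matrix.mul_nonsing_inv _ hau, Matrix.transpose_one, one_mul,
        Matrix.mul_smul, Matrix.smul_mul] at e4
      rw [Matrix.mul_nonsing_inv_cancel_right _ _ hu] at e4
      rw [e4, smul_smul, inv_mul_cancel₀ hc, one_smul]
    rw [hS, mul_assoc, e2, e3]
    simp only [Matrix.mul_smul, Matrix.smul_mul, smul_smul, ← mul_assoc]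
    rw [Matrix.nonsing_inv_mul _ hu, one_mul, mul_comm c⁻¹]
  have hk2 : (c⁻¹ * a.det) * (c⁻¹ * a.det) = 1 := by
    have e5 : S * S * a = ((c⁻¹ * a.det) * (c⁻¹ * a.det)) • (a * (S * S)) := by
      rw [mul_assoc, hk, Matrix.mul_smul, ← mul_assoc, hk, Matrix.smul_mul, smul_smul, mul_assoc a]
    rw [hS2, Matrix.smul_mul, one_mul, Matrix.mul_smul, mul_one, smul_smul] at e5
    have := smul_left_injective F A.ne_zero e5
    exact (mul_eq_right₀ (neg_ne_zero.mpr (inv_ne_zero h1))).mp this.symm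
  have hconj : (g : Matrix ι ι F) * T * ((g⁻¹ : GL ι F) : Matrix ι ι F) = (c⁻¹ * a.det) • T := by
    have e6 : T * ((g⁻¹ : GL ι F) : Matrix ι ι F) = (c⁻¹ * a.det) • (((g⁻¹ : GL ι F) : Matrix ι ι F) * T) := by
      conv_lhs => rw [← (coordGL ε P).apply_symm_apply g⁻¹, coordGL_val, hgv]
      conv_rhs => rw [← (coordGL ε P).apply_symm_apply g⁻¹, coordGL_val, hgv]
      rw [hT, ← map_mul, ← map_mul, ← map_smul, ← Matrix.mul_kronecker_mul, ← Matrix.mul_kronecker_mul, one_mul,
        mul_one, hk, Matrix.smul_kronecker]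
    rw [mul_assoc, e6, Matrix.mul_smul, ← mul_assoc, Units.mul_inv, one_mul]
  rcases mul_self_eq_one_iff.mp hk2 with h8 | h8
  · left; rw [hconj, h8, one_smul]
  · right; rw [hconj, h8, neg_one_smul]

omit hQ in
/-- An irreducible group permutes the members of a decomposition transitively. -/
theorem transitive_of_irred {H : Subgroup (GL ι F)} (hirr : Irred H) {t k : ℕ} {D : Fin t → Submodule F (ι → F)}
    (hD : IsMDecomposition k D) (hle : H ≤ decompositionStabilizer D) (i j : Fin t) :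
    ∃ h ∈ H, translate h (D i) = D j := by
  classical
  set S : Submodule F (ι → F) := ⨆ h : H, translate (h : GL ι F) (D i) with hS
  have hinv : Invariant H S := by
    intro g hg v hv
    induction hv using Submodule.iSup_induction' with
    | mem h x hx =>
      refine Submodule.mem_iSup_of_mem ⟨g * h, mul_mem hg h.2⟩ ?_
      obtain ⟨w, hw, rfl⟩ := hx
      exact ⟨w, hw, by simp [Matrix.toLin'_apply, Matrix.mulVec_mulVec]⟩
    | zero => rw [Matrix.mulVec_zero]; exact zero_mem _
    | add x y _ _ hx hy => rw [Matrix.mulVec_add]; exact add_mem hx hy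
  have hne : D i ≠ ⊥ := fun h => by
    have := hD.finrank_eq i
    rw [h, finrank_bot] at this
    exact hD.pos.ne this
  rcases hirr S hinv with h | h
  · exact absurd (le_bot_iff.mp (h ▸ (show D i ≤ S from le_trans
      (show D i ≤ translate ((1 : H) : GL ι F) (D i) from fun v hv => ⟨v, hv, by simp⟩) (le_iSup (fun h : H => translate (h : GL ι F) (D i)) 1)))) hne
  · by_contra hno
    push Not at hno
    have hle' : S ≤ ⨆ a, ⨆ _ : a ≠ j, D a := iSup_le fun g => by
      obtain ⟨σ, hσ⟩ := hle g.2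
      have h1 : translate (g : GL ι F) (D i) = D (σ i) := hσ i
      rw [h1]
      exact le_iSup₂_of_le (σ i) (fun e => hno g g.2 (h1.trans (by rw [e]))) le_rfl
    rw [h] at hle'
    have hj : D j ≠ ⊥ := fun h' => by
      have := hD.finrank_eq j
      rw [h', finrank_bot] at this
      exact hD.pos.ne this
    exact hj ((hD.indep j).eq_bot_of_le (le_top.trans hle'))

/-- A decomposition whose members are permuted transitively by isometries is orthogonal. -/
theorem isometric_decomp (hodd : Odd (Fintype.card F)) {t k : ℕ} {D : Fin t → Submodule F (ι → F)}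
    (hD : IsNondegenerateMDecomposition (gramForm G₀) k D)
    (hi : ∀ i j, ∃ g ∈ Isom G₀, translate g (D i) = D j) : IsOrthogonalMDecomposition Q k D :=
  ⟨gram_eq hQ ▸ hD, fun i j => by
    obtain ⟨g, hg, h⟩ := hi i j
    exact areIsometric hQ hodd hg h⟩

/-- A rational structure of the polar form gives one of the quadratic form. -/
theorem quad_rational (hodd : Odd (Fintype.card F)) {F₀ : Subfield F} {P : GL ι F} {ζ : F}
    (hP : IsFormRationalStructure (gramForm G₀) F₀ ζ P) :
    IsQuadFormRationalStructure (fun v => ζ * Q v) F₀ P := fun u hu => by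
  show ζ * Q _ ∈ F₀
  rw [eq_half hQ hodd, ← mul_div_assoc]
  have := hP u u hu hu
  rw [gram_eq hQ] at this
  exact div_mem this (one_add_one_eq_two (R := F) ▸ add_mem F₀.one_mem F₀.one_mem)

/-- For minus type a subfield structure has odd index. -/
theorem odd_index [Nonempty ι] {m : ℕ} (hn : Fintype.card ι = 2 * m) (hminus : ¬ IsPlusTypeOn Q ⊤) {F₀ : Subfield F}
    {r : ℕ} {P : GL ι F} {ζ : F} (hr : r.Prime) (hq : Fintype.card F = Nat.card F₀ ^ r) (hζ : ζ ≠ 0)
    (hP : IsQuadFormRationalStructure (fun v => ζ * Q v) F₀ P) : Odd r := by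
  rcases hr.eq_two_or_odd' with rfl | h
  · exact absurd (plus_of_index_two hQ hn hq hζ hP) hminus
  · exact h

end Cfsg.Agent.Lib.AschbacherEvenDim
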