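import Cfsg.Agent.Lib.Subspaces.OrthNondegMax
import Cfsg.Agent.Lib.Subspaces.OrthSingular
import Cfsg.Agent.Lib.Forms.MaxSingular
import Cfsg.Agent.Lib.Forms.Tensor
import Cfsg.Agent.Lib.OrthField.EvenModels

/-!
Plus and minus type: criteria and orthogonal sums, in any characteristic.
-/

set_option autoImplicit false
set_option linter.unusedSectionVars false

namespace Cfsg.Agent.Lib.AschbacherEvenDim

open Cfsg.Geo Module QuadraticMap Cfsg.Agent.Lib.Forms Cfsg.Agent.Lib.Subspaces.OrthForm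
open Cfsg.Agent.Lib.Subspaces.OmegaGL Cfsg.Agent.Lib.Subspaces.OrthNondeg

section abstract

variable {F : Type*} [Field F] [Finite F]
variable {V V' : Type*} [AddCommGroup V] [Module F V] [FiniteDimensional F V]
  [AddCommGroup V'] [Module F V'] [FiniteDimensional F V']

/-- A totally singular subspace of half the dimension. -/
def HasHalf (Q : QuadraticForm F V) : Prop :=
  ∃ U : Submodule F V, (∀ u ∈ U, Q u = 0) ∧ 2 * finrank F U = finrank F V

omit [Finite F] in
theorem HasHalf.congr {Q : QuadraticForm F V} {Q' : QuadraticForm F V'} (e : Q.IsometryEquiv Q') (h : HasHalf Q) :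
    HasHalf Q' := by
  obtain ⟨U, hU, hd⟩ := h
  refine ⟨U.map e.toLinearEquiv.toLinearMap, ?_, by rw [LinearEquiv.finrank_map_eq, hd, e.toLinearEquiv.finrank_eq]⟩
  rintro _ ⟨u, hu, rfl⟩
  exact (e.map_app u).trans (hU u hu)

theorem hasHalf_qPlus (m : ℕ) : HasHalf (qPlus (F := F) m) :=
  ⟨MaxSingular.stdX F m, MaxSingular.isMax_stdX.2, by rw [MaxSingular.isMax_stdX.1, MaxSingular.finrank_space]⟩

theorem not_hasHalf_minus (m : ℕ) {a b : F} (hab : OrthField.Aniso a b) :
    ¬ HasHalf ((qPlus (F := F) m).prod (qBin a b)) := by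
  rintro ⟨U, hU, hd⟩
  have h := witt_index_le (qBin_nondeg hab) (qBin_anisotropic hab) m U hU
  rw [Module.finrank_prod, MaxSingular.finrank_space, Module.finrank_fin_fun] at hd
  omega

/-- Non-degenerate forms of the same even dimension and the same type are equivalent. -/
theorem equivalent_of_type {Q : QuadraticForm F V} {Q' : QuadraticForm F V'} (hQ : Nondeg Q) (hQ' : Nondeg Q')
    {k : ℕ} (hV : finrank F V = 2 * k) (hV' : finrank F V' = 2 * k) (h : HasHalf Q ↔ HasHalf Q') :
    Q.Equivalent Q' := by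
  rcases classify Q hQ with ⟨m, hm, he⟩ | ⟨m, c, -, -, hm, -⟩ | ⟨m, a, b, hab, hm, he⟩
  · rcases classify Q' hQ' with ⟨m', hm', he'⟩ | ⟨m', c, -, -, hm', -⟩ | ⟨m', a', b', hab', hm', he'⟩
    · obtain rfl : m' = m := by omega
      exact he.trans he'.symm
    · omega
    · obtain ⟨e⟩ := he
      obtain ⟨e'⟩ := he'
      exact absurd ((h.mp ((hasHalf_qPlus m).congr e.symm)).congr e') (not_hasHalf_minus m' hab')
  · omega
  · rcases classify Q' hQ' with ⟨m', hm', he'⟩ | ⟨m', c, -, -, hm', -⟩ | ⟨m', a', b', hab', hm', he'⟩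
    · obtain ⟨e⟩ := he
      obtain ⟨e'⟩ := he'
      exact absurd ((h.mpr ((hasHalf_qPlus m').congr e'.symm)).congr e) (not_hasHalf_minus m hab)
    · omega
    · obtain rfl : m' = m := by omega
      refine he.trans (Equivalent.trans ?_ he'.symm)
      obtain ⟨f, hf⟩ := OrthField.exists_bin_equiv hab hab'
      let g : (qBin a b).IsometryEquiv (qBin a' b') := { f with map_app' := hf }
      exact (Equivalent.refl _).prod ⟨g⟩

end abstract

variable {ι : Type} [Fintype ι] [DecidableEq ι] {F : Type*} [Field F] {Q : (ι → F) → F}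

local notation "B" => QuadraticMap.polar Q

theorem ts_polar {W : Submodule F (ι → F)} (h : IsTotallySingularQuad Q W) {u v : ι → F} (hu : u ∈ W) (hv : v ∈ W) :
    B u v = 0 := by
  rw [QuadraticMap.polar, h _ (W.add_mem hu hv), h u hu, h v hv]; ring

/-- The restriction of the form. -/
noncomputable def resQ (hQ : IsNondegenerateQuadraticForm Q) (W : Submodule F (ι → F)) : QuadraticForm F W :=
  (qf hQ).comp W.subtype

variable (hQ : IsNondegenerateQuadraticForm Q)
include hQ

theorem resQ_apply (W : Submodule F (ι → F)) (w : W) : resQ hQ W w = Q (w : ι → F) := rfl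

theorem resQ_nondeg {W : Submodule F (ι → F)} (hW : IsNondegenerateOn B W) : Nondeg (resQ hQ W) := by
  intro x hx
  by_contra h0
  obtain ⟨-, y, hy, hne⟩ := hW x x.2 (fun h => h0 (Subtype.ext h))
  apply hne
  have := hx ⟨y, hy⟩
  simpa [QuadraticMap.polar, resQ_apply] using this

theorem plusOn_iff (W : Submodule F (ι → F)) : IsPlusTypeOn Q W ↔ HasHalf (resQ hQ W) := by
  constructor
  · rintro ⟨U, hUW, hU, hd⟩
    refine ⟨U.comap W.subtype, fun u hu => hU _ hu, ?_⟩
    rw [(Submodule.comapSubtypeEquivOfLe hUW).finrank_eq, hd]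
  · rintro ⟨U, hU, hd⟩
    refine ⟨U.map W.subtype, Submodule.map_subtype_le _ _, ?_, by rw [Submodule.finrank_map_subtype_eq, hd]⟩
    rintro _ ⟨u, hu, rfl⟩
    exact hU u hu

omit hQ [DecidableEq ι] in
theorem plus_of_ts {U : Submodule F (ι → F)} (hU : IsTotallySingularQuad Q U)
    (hd : 2 * finrank F U = Fintype.card ι) : IsPlusTypeOn Q ⊤ :=
  ⟨U, le_top, hU, by rw [hd, finrank_top, Module.finrank_fintype_fun_eq_card]⟩

theorem two_dim_le {U : Submodule F (ι → F)} (hU : IsTotallySingularQuad Q U) :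
    2 * finrank F U ≤ Fintype.card ι := by
  have := two_mul_finrank_le (qf_nondeg hQ) U (fun w hw => hU w hw)
  rwa [Module.finrank_fintype_fun_eq_card] at this

theorem ts_sup {U W : Submodule F (ι → F)} (hU : IsTotallySingularQuad Q U) (hW : IsTotallySingularQuad Q W)
    (h : ∀ u ∈ U, ∀ w ∈ W, B u w = 0) : IsTotallySingularQuad Q (U ⊔ W) := by
  intro x hx
  obtain ⟨u, hu, w, hw, rfl⟩ := Submodule.mem_sup.mp hx
  rw [Q_add (Q := Q), hU u hu, hW w hw, h u hu w hw]
  ring

/-- A totally singular subspace which is maximal and small shows minus type. -/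
theorem not_plus_of_maximal {L : Submodule F (ι → F)} (hL : IsTotallySingularQuad Q L)
    (hmax : ∀ z, Q z = 0 → (∀ w ∈ L, B z w = 0) → z ∈ L) (hlt : 2 * finrank F L < Fintype.card ι) :
    ¬ IsPlusTypeOn Q ⊤ := by
  rintro ⟨U, -, hU, hd⟩
  rw [finrank_top, Module.finrank_fintype_fun_eq_card] at hd
  have hV : finrank F (ι → F) = 2 * finrank F U := by rw [Module.finrank_fintype_fun_eq_card, hd]
  have h1 := MaxSingular.finrank_inf_perp (qf_nondeg hQ) hV (U := U) ⟨rfl, fun w hw => hU w hw⟩ L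
  have h2 : finrank F ↥(U ⊓ MaxSingular.perp (qf hQ) L) ≤ finrank F ↥(U ⊓ L) := by
    refine Submodule.finrank_mono fun z hz => ⟨hz.1, hmax z (hU z hz.1) fun w hw => ?_⟩
    have := MaxSingular.mem_perp.1 hz.2 w hw
    rw [B_comm]
    exact this
  omega

variable [Finite F]

/-- A totally singular subspace of codimension at least two below half the dimension is not maximal. -/
theorem exists_extend {L : Submodule F (ι → F)} (h : 2 * finrank F L + 3 ≤ Fintype.card ι) :
    ∃ z, Q z = 0 ∧ (∀ w ∈ L, B z w = 0) ∧ z ∉ L := by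
  have h1 := finrank_perpQ_ge (hQ := hQ) L
  obtain ⟨v, hv, hvL, hvQ⟩ := exists_singular_avoid hQ (S := perpQ hQ L) (V := L) (by omega)
  exact ⟨v, hvQ, hv, hvL⟩

/-- Non-degenerate subspaces of the same even dimension and type are isometric. -/
theorem isometric_of_type {W W' : Submodule F (ι → F)} (hW : IsNondegenerateOn B W) (hW' : IsNondegenerateOn B W')
    {k : ℕ} (hd : finrank F W = 2 * k) (hd' : finrank F W' = 2 * k)
    (h : IsPlusTypeOn Q W ↔ IsPlusTypeOn Q W') : AreIsometricFor Q W W' := by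
  obtain ⟨e⟩ := equivalent_of_type (resQ_nondeg hQ hW) (resQ_nondeg hQ hW') hd hd'
    (by rw [← plusOn_iff, ← plusOn_iff]; exact h)
  exact ⟨e.toLinearEquiv, fun w => e.map_app w⟩

/-- The part of an isometric pair inside a totally singular graph. -/
theorem exists_graph {W W' : Submodule F (ι → F)} (hW : IsNondegenerateOn B W) (hW' : IsNondegenerateOn B W')
    {k : ℕ} (hd : finrank F W = 2 * k) (hd' : finrank F W' = 2 * k)
    (horth : ∀ u ∈ W, ∀ v ∈ W', B u v = 0)
    (h : IsPlusTypeOn Q W ↔ IsPlusTypeOn Q W') :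
    ∃ U : Submodule F (ι → F), U ≤ W ⊔ W' ∧ IsTotallySingularQuad Q U ∧ finrank F U = 2 * k := by
  have hn : Nondeg (-resQ hQ W) := fun x hx => resQ_nondeg hQ hW x fun y => by
    have h' := hx y
    rw [QuadraticMap.coeFn_neg, QuadraticMap.polar_neg] at h'
    exact neg_eq_zero.mp h'
  obtain ⟨e⟩ := equivalent_of_type hn (resQ_nondeg hQ hW') hd hd' (by
    rw [← plusOn_iff, ← h, plusOn_iff hQ W]
    constructor <;> rintro ⟨U, hU, hUd⟩
    · exact ⟨U, fun u hu => neg_eq_zero.mp (hU u hu), hUd⟩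
    · exact ⟨U, fun u hu => neg_eq_zero.mpr (hU u hu), hUd⟩)
  let f : W →ₗ[F] (ι → F) := W.subtype + W'.subtype.comp e.toLinearEquiv.toLinearMap
  have hinj : Function.Injective f := by
    rw [← LinearMap.ker_eq_bot, eq_bot_iff]
    intro u hu
    rw [Submodule.mem_bot]
    by_contra h0
    obtain ⟨-, y, hy, huy⟩ := hW u u.2 (fun h => h0 (Subtype.ext h))
    have heq : (u : ι → F) = -((e.toLinearEquiv u : W') : ι → F) := eq_neg_of_add_eq_zero_left hu
    refine huy ?_
    rw [B_comm]
    exact horth y hy _ (heq ▸ W'.neg_mem (e.toLinearEquiv u).2)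
  refine ⟨LinearMap.range f, ?_, ?_, by rw [LinearMap.finrank_range_of_inj hinj, hd]⟩
  · rintro _ ⟨u, rfl⟩
    exact Submodule.add_mem_sup u.2 (e.toLinearEquiv u).2
  · rintro _ ⟨u, rfl⟩
    show Q ((u : ι → F) + ((e.toLinearEquiv u : W') : ι → F)) = 0
    have h1 : Q ((e.toLinearEquiv u : W') : ι → F) = -Q (u : ι → F) := e.map_app u
    rw [Q_add (Q := Q), h1, horth _ u.2 _ (e.toLinearEquiv u).2]
    ring

end Cfsg.Agent.Lib.AschbacherEvenDim
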