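import Cfsg.Agent.Lib.AschbacherOrth.Proper
import Cfsg.Agent.Lib.Subspaces.OrthSingular
import Cfsg.Agent.Lib.AschbacherEvenDim.Type

/-!
No member of a geometric class contains `Ω` of a quadratic form, in any characteristic.
-/

set_option autoImplicit false
set_option linter.style.haveILetI false
set_option linter.unusedSectionVars false

namespace Cfsg.Agent.Lib.AschbacherEvenDim

open Cfsg.Geo Cfsg.Agent.Lib.PrimeDim.Basic Cfsg.Agent.Lib.Aschbacher
open Cfsg.Agent.Lib.Subspaces.OrthForm Cfsg.Agent.Lib.Subspaces.OmegaGL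
open Cfsg.Agent.Lib.AschbacherOrth (omega_map)
open scoped Matrix MatrixGroups

variable {ι : Type} [Fintype ι] [DecidableEq ι] {F : Type*} [Field F] [Fintype F] {Q : (ι → F) → F}

local notation "B" => QuadraticMap.polar Q

variable (hQ : IsNondegenerateQuadraticForm Q)
include hQ

theorem nondeg_top : IsNondegenerateOn B (⊤ : Submodule F (ι → F)) := fun v _ hv => by
  obtain ⟨⟨a, ha⟩, ⟨b, hb⟩⟩ := hQ.nondegenerate v hv
  exact ⟨⟨a, Submodule.mem_top, ha⟩, ⟨b, Submodule.mem_top, hb⟩⟩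

theorem exists_singular_vec (h7 : 7 ≤ Fintype.card ι) : ∃ u : ι → F, u ≠ 0 ∧ Q u = 0 := by
  obtain ⟨u, -, hu0, hu⟩ := Cfsg.Agent.Lib.Subspaces.OrthNondeg.exists_singular_in hQ
    (S := (⊤ : Submodule F (ι → F))) (by rw [finrank_top, Module.finrank_fintype_fun_eq_card]; omega)
  exact ⟨u, hu0, hu⟩

/-- A matrix commuting with `Ω` has every singular vector as an eigenvector. -/
theorem eigen_of_comm (h7 : 7 ≤ Fintype.card ι) {u : ι → F} (hu0 : u ≠ 0) (hu : Q u = 0) {k : Matrix ι ι F}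
    (hk : ∀ g ∈ omegaGL Q, k * (g : Matrix ι ι F) = (g : Matrix ι ι F) * k) : ∃ a : F, k *ᵥ u = a • u := by
  classical
  have hb' := hQ.polar_bilinear
  have step : ∀ w, B w u = 0 → w ∉ Submodule.span F {u} → k *ᵥ u ∈ Submodule.span F {u, w} := by
    intro w hwu hw
    have hwu' : w ∉ Submodule.span F (Set.range ![u]) := by
      simpa [Matrix.range_cons, Matrix.range_empty] using hw
    obtain ⟨v, hv, hvw⟩ := dual hQ hwu'
    have hvu : B v u = 0 := hv u (Submodule.subset_span ⟨0, rfl⟩)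
    have h := congrArg (fun M => M *ᵥ v) (hk _ (sieg_mem_omega hQ (by omega) hu hwu))
    simp only [← Matrix.mulVec_mulVec, sieg_mulVec hQ hu hwu, hvu, hvw, zero_smul, add_zero, mul_zero, sub_zero,
      Matrix.mulVec_add, Matrix.mulVec_smul] at h
    have h' : k *ᵥ u = -(B (k *ᵥ v) u • w + (-B (k *ᵥ v) w - Q w * B (k *ᵥ v) u) • u) := by
      linear_combination (norm := module) -h
    rw [h']
    exact neg_mem (add_mem (Submodule.smul_mem _ _ (Submodule.subset_span (by simp)))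
      (Submodule.smul_mem _ _ (Submodule.subset_span (by simp))))
  let U := Cfsg.Agent.Lib.Subspaces.OrthNondeg.perpQ hQ (Submodule.span F {u})
  have hU : Fintype.card ι ≤ Module.finrank F (Submodule.span F {u}) + Module.finrank F U :=
    Cfsg.Agent.Lib.Subspaces.OrthNondeg.finrank_perpQ_ge _
  rw [finrank_span_singleton hu0] at hU
  have havoid : ∀ V : Submodule F (ι → F), Module.finrank F V ≤ 2 → ∃ w ∈ U, w ∉ V := fun V hV => by
    by_contra! h
    have := Submodule.finrank_mono (show U ≤ V from h)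
    omega
  obtain ⟨w₁, hw₁U, hw₁⟩ := havoid (Submodule.span F {u}) (by rw [finrank_span_singleton hu0]; omega)
  obtain ⟨w₂, hw₂U, hw₂⟩ := havoid (Submodule.span F {u, w₁})
    (Cfsg.Agent.Lib.Subspaces.OrthNondeg.finrank_pair_le u w₁)
  have hperp : ∀ w ∈ U, B w u = 0 := fun w hw => hw u (Submodule.mem_span_singleton_self u)
  obtain ⟨a, b, hab⟩ := Submodule.mem_span_pair.mp (step w₁ (hperp _ hw₁U) hw₁)
  obtain ⟨a', b', hab'⟩ := Submodule.mem_span_pair.mp (step w₂ (hperp _ hw₂U)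
    fun h => hw₂ (Submodule.span_mono (by simp) h))
  have hb'0 : b' = 0 := by
    by_contra hne
    apply hw₂
    have h2 : w₂ = b'⁻¹ • ((a - a') • u + b • w₁) := by
      rw [show (a - a') • u + b • w₁ = b' • w₂ by linear_combination (norm := module) hab - hab', smul_smul,
        inv_mul_cancel₀ hne, one_smul]
    rw [h2]
    exact Submodule.smul_mem _ _ (Submodule.add_mem _ (Submodule.smul_mem _ _ (Submodule.subset_span (by simp)))
      (Submodule.smul_mem _ _ (Submodule.subset_span (by simp))))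
  exact ⟨a', by rw [← hab', hb'0, zero_smul, add_zero]⟩

/-- No proper non-zero subspace is stabilised by `Ω`. -/
theorem not_le_stab (h7 : 7 ≤ Fintype.card ι) {W : Submodule F (ι → F)} (hb : W ≠ ⊥)
    (ht : W ≠ ⊤) : ¬ omegaGL Q ≤ subspaceStabilizer W := by
  intro hle
  have hmove : ∀ x ∈ W, x ≠ 0 → ∀ y, y ≠ 0 → Q y = Q x → y ∈ W := fun x hx hx0 y hy hxy => by
    obtain ⟨g, hg, rfl⟩ := omega_map hQ (by omega) hx0 hy hxy.symm
    exact (hle hg x).mp hx
  obtain ⟨x, hx, hx0⟩ := Submodule.exists_mem_ne_zero_of_ne_bot hb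
  obtain ⟨z, hz, hz0, hzQ⟩ : ∃ z ∈ W, z ≠ 0 ∧ Q z = 0 := by
    by_cases hQx : Q x = 0
    · exact ⟨x, hx, hx0, hQx⟩
    obtain ⟨z, hzp, hz0, hzQ⟩ := Cfsg.Agent.Lib.Subspaces.OrthNondeg.exists_singular_in hQ
      (S := Cfsg.Agent.Lib.Subspaces.OrthNondeg.perpQ hQ (Submodule.span F {x})) (by
        have h : Fintype.card ι ≤ _ :=
          Cfsg.Agent.Lib.Subspaces.OrthNondeg.finrank_perpQ_ge (hQ := hQ) (Submodule.span F {x})
        rw [finrank_span_singleton hx0] at h
        omega)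
    have h1 : Q (x + z) = Q x := by
      rw [Q_add (Q := Q), hzQ, B_comm, hzp x (Submodule.mem_span_singleton_self x)]; ring
    refine ⟨z, ?_, hz0, hzQ⟩
    have := W.sub_mem (hmove x hx hx0 (x + z) (fun h => hQx (by rw [← h1, h, Q_zero hQ])) h1) hx
    simpa using this
  apply ht
  rw [eq_top_iff]
  refine le_trans (fun v hv => Cfsg.Agent.Lib.Subspaces.OrthNondeg.span_singular_in hQ (nondeg_top hQ)
    (by rw [finrank_top, Module.finrank_fintype_fun_eq_card]; omega) v hv) (Submodule.span_le.mpr ?_)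
  rintro v ⟨-, hv⟩
  by_cases hv0 : v = 0
  · rw [hv0]; exact W.zero_mem
  · exact hmove z hz hz0 v hv0 (hv.trans hzQ.symm)

/-- An isometric decomposition with members of dimension at least two is not preserved by `Ω` in characteristic two. -/
theorem not_le_decomp_two (h7 : 7 ≤ Fintype.card ι) (h2 : (2 : F) = 0) {t k : ℕ} {D : Fin t → Submodule F (ι → F)}
    (hk : 2 ≤ k) (hD : IsOrthogonalMDecomposition Q k D) : ¬ omegaGL Q ≤ decompositionStabilizer D := by
  classical
  intro hle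
  have hd := hD.decomp.decomp
  let i : Fin t := ⟨0, by have := hd.two_le; omega⟩
  have hsep : ∀ {a b : Fin t} {x : ι → F}, x ∈ D a → x ∈ D b → x ≠ 0 → a = b := fun {a b x} ha hb' hx0 => by
    by_contra hne
    exact hx0 (Submodule.disjoint_def.mp (hd.indep.pairwiseDisjoint hne) x ha hb')
  have hmove : ∀ {a : Fin t} {x y : ι → F}, x ∈ D a → x ≠ 0 → y ≠ 0 → Q y = Q x → ∃ b, y ∈ D b := fun {a x y} hx hx0 hy0 h => by
    obtain ⟨g, hg, rfl⟩ := omega_map hQ (by omega) hx0 hy0 h.symm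
    obtain ⟨σ, hσ⟩ := hle hg
    exact ⟨σ a, hσ a ▸ Submodule.mem_map_of_mem hx⟩
  have hiso : ∀ (x : ι → F), x ∈ D i → x ≠ 0 → ∀ j, ∃ y ∈ D j, y ≠ 0 ∧ Q y = Q x := fun x hx hx0 j => by
    obtain ⟨e, he⟩ := hD.isometric i j
    exact ⟨e ⟨x, hx⟩, (e ⟨x, hx⟩).2, fun h => hx0 (congrArg Subtype.val (e.injective (Subtype.ext h |>.trans (map_zero e).symm))),
      he ⟨x, hx⟩⟩
  -- combinations over at least two members lie in none of them
  have hout : ∀ {a b : Fin t} {x y : ι → F}, a ≠ b → x ∈ D a → x ≠ 0 → y ∈ ⨆ c, ⨆ _ : c ≠ a, D c →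
      x + y ∈ D b → False := fun {a b x y} hab hx hx0 hy hm => hx0 (Submodule.disjoint_def.mp (hd.indep a) x hx (by
    have h := Submodule.sub_mem _ (Submodule.mem_iSup_of_mem b (Submodule.mem_iSup_of_mem (Ne.symm hab) hm)) hy
    simpa using h))
  have hin : ∀ {a c : Fin t} {y : ι → F}, c ≠ a → y ∈ D c → y ∈ ⨆ c, ⨆ _ : c ≠ a, D c := fun {a c y} hca hy =>
    Submodule.mem_iSup_of_mem c (Submodule.mem_iSup_of_mem hca hy)
  let j : Fin t := ⟨1, by have := hd.two_le; omega⟩
  have hij : i ≠ j := by simp [i, j]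
  by_cases hsing : ∃ x ∈ D i, x ≠ 0 ∧ Q x = 0
  · obtain ⟨x, hx, hx0, hxQ⟩ := hsing
    obtain ⟨y, hy, hy0, hyQ⟩ := hiso x hx hx0 j
    have hs : Q (x + y) = Q x := by
      rw [Q_add (Q := Q), hyQ, hxQ, hD.decomp.orthogonal i j hij x hx y hy]; ring
    obtain ⟨b, hb⟩ := hmove (y := x + y) hx hx0 (fun h => hij (hsep hx (by
      rw [eq_neg_of_add_eq_zero_left h]; exact (D j).neg_mem hy) hx0)) hs
    by_cases hbi : i = b
    · subst hbi
      exact hij (hsep (by simpa using (D i).sub_mem hb hx) hy hy0)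
    · exact hout hbi hx hx0 (hin (Ne.symm hij) hy) hb
  push Not at hsing
  have hk2 : k ≤ 2 := by
    have := Cfsg.Agent.Lib.Forms.anisotropic_finrank_le_two (resQ_nondeg hQ (hD.decomp.nondegenerate i))
      (fun w hw => by
        by_contra h0
        exact hsing w w.2 (fun h => h0 (Subtype.ext h)) hw)
    rwa [hd.finrank_eq] at this
  have hcard := Cfsg.Agent.Lib.Subspaces.Decomposition.card_eq hd
  have ht3 : 3 ≤ t := by
    by_contra ht
    have : t * k ≤ 2 * 2 := Nat.mul_le_mul (by omega) hk2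
    omega
  let l : Fin t := ⟨2, by omega⟩
  obtain ⟨x, hx, hx0⟩ := Submodule.exists_mem_ne_zero_of_ne_bot (p := D i) (fun h => by
    have := hd.finrank_eq i
    rw [h, finrank_bot] at this
    omega)
  obtain ⟨y, hy, hy0, hyQ⟩ := hiso x hx hx0 j
  obtain ⟨w, hw, hw0, hwQ⟩ := hiso x hx hx0 l
  have hil : i ≠ l := by simp [i, l]
  have hjl : j ≠ l := by simp [j, l]
  have hs : Q (x + (y + w)) = Q x := by
    rw [Q_add (Q := Q), Q_add (Q := Q), hQ.polar_bilinear.add_right, hD.decomp.orthogonal i j hij x hx y hy,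
      hD.decomp.orthogonal i l hil x hx w hw, hD.decomp.orthogonal j l hjl y hy w hw, hyQ, hwQ]
    linear_combination Q x * h2
  obtain ⟨b, hb⟩ := hmove (y := x + (y + w)) hx hx0 (fun h => hsing x hx hx0 (by
    rw [← hs, h, Q_zero hQ])) hs
  have hyw : y + w ∈ ⨆ c, ⨆ _ : c ≠ i, D c := add_mem (hin (Ne.symm hij) hy) (hin (Ne.symm hil) hw)
  by_cases hbi : i = b
  · subst hbi
    exact hy0 (Submodule.disjoint_def.mp (hd.indep j) y hy (by
      have h1 : x + (y + w) - x ∈ ⨆ c, ⨆ _ : c ≠ j, D c := Submodule.sub_mem _ (hin hij hb) (hin hij hx)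
      have := Submodule.sub_mem _ h1 (hin (Ne.symm hjl) hw)
      simpa using this))
  · exact hout hbi hx hx0 hyw hb

/-- `Ω` does not preserve a pair of singular halves. -/
theorem not_le_pair (h7 : 7 ≤ Fintype.card ι) {m : ℕ} {D : Fin 2 → Submodule F (ι → F)}
    (hD : IsMDecomposition m D) (hts : ∀ i, IsTotallySingularQuad Q (D i)) :
    ¬ omegaGL Q ≤ decompositionStabilizer D := by
  intro hle
  have hn : Fintype.card ι = 2 * m := Cfsg.Agent.Lib.Subspaces.Decomposition.card_eq hD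
  obtain ⟨x, hx, hx0⟩ := Submodule.exists_mem_ne_zero_of_ne_bot (p := D 0) (fun h => by
    have := hD.finrank_eq 0
    rw [h, finrank_bot] at this
    omega)
  let U := D 1 ⊓ Cfsg.Agent.Lib.Subspaces.OrthNondeg.perpQ hQ (Submodule.span F {x})
  have hU : U ≠ ⊥ := fun h => by
    have h1 := Cfsg.Agent.Lib.Subspaces.OrthNondeg.inf_perp_ge (hQ := hQ) (D 1) (Submodule.span F {x})
    rw [show D 1 ⊓ Cfsg.Agent.Lib.Subspaces.OrthNondeg.perpQ hQ (Submodule.span F {x}) = ⊥ from h, finrank_bot,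
      finrank_span_singleton hx0, hD.finrank_eq 1] at h1
    omega
  obtain ⟨y, hy, hy0⟩ := Submodule.exists_mem_ne_zero_of_ne_bot hU
  have hs : Q (x + y) = Q x := by
    rw [Q_add (Q := Q), hts 0 x hx, hts 1 y hy.1, B_comm, hy.2 x (Submodule.mem_span_singleton_self x)]
    ring
  have hdis := hD.indep.pairwiseDisjoint (show (0 : Fin 2) ≠ 1 by decide)
  have hxy : x + y ∉ D 0 ∧ x + y ∉ D 1 :=
    ⟨fun h => hy0 (Submodule.disjoint_def.mp hdis y (by simpa using (D 0).sub_mem h hx) hy.1),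
      fun h => hx0 (Submodule.disjoint_def.mp hdis x hx (by simpa using (D 1).sub_mem h hy.1))⟩
  obtain ⟨g, hg, hgx⟩ := omega_map hQ (by omega) hx0 (fun h => hxy.1 (by rw [h]; exact (D 0).zero_mem)) hs.symm
  obtain ⟨σ, hσ⟩ := hle hg
  have hm' : x + y ∈ D (σ 0) := by rw [← hgx, ← hσ 0]; exact Submodule.mem_map_of_mem hx
  obtain h0 | h1 : σ 0 = 0 ∨ σ 0 = 1 := by omega
  · exact hxy.1 (h0 ▸ hm')
  · exact hxy.2 (h1 ▸ hm')

/-- `Ω` does not normalise a proper field subalgebra. -/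
theorem not_le_field (h7 : 7 ≤ Fintype.card ι) {r : ℕ}
    {K : Subalgebra F (Matrix ι ι F)} (hK : IsFieldSubalgebra r K) (hr : 2 ≤ r) :
    ¬ omegaGL Q ≤ subalgebraNormalizer K := by
  intro hle
  haveI : Nonempty ι := Fintype.card_pos_iff.mp (by omega)
  have hb' := hQ.polar_bilinear
  have hcomm : ∀ k ∈ K, ∀ g ∈ omegaGL Q, k * (g : Matrix ι ι F) = (g : Matrix ι ι F) * k := by
    intro k hk
    let M : Subgroup (GL ι F) :=
      { carrier := {g | k * (g : Matrix ι ι F) = (g : Matrix ι ι F) * k}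
        one_mem' := by simp
        mul_mem' := fun {a b} ha hb => by
          simp only [Set.mem_setOf_eq, Units.val_mul] at *
          rw [← mul_assoc, ha, mul_assoc, hb, mul_assoc]
        inv_mem' := fun {a} ha => by
          simp only [Set.mem_setOf_eq] at *
          calc k * ((a⁻¹ : GL ι F) : Matrix ι ι F)
              = ((a⁻¹ : GL ι F) : Matrix ι ι F) * ((a : Matrix ι ι F) * k) * ((a⁻¹ : GL ι F) : Matrix ι ι F) := by
                simp [← mul_assoc]
            _ = _ := by rw [← ha]; simp [mul_assoc] }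
    refine fun g hg => omega_le hQ (by omega) (M := M) (fun u w hu hwu => ?_) hg
    set t := sieg Q u w with ht
    set k' := (t : Matrix ι ι F) * k * ((t⁻¹ : GL ι F) : Matrix ι ι F) with hk'
    have hk'K : k' ∈ K := (hle (sieg_mem_omega hQ (by omega) hu hwu) k).mp hk
    let L : (ι → F) →ₗ[F] (F × F) × F × F :=
      { toFun := fun v => ((B v u, B v w), B (k *ᵥ v) u, B (k *ᵥ v) w)
        map_add' := fun a b => by simp [hb'.add_left, Matrix.mulVec_add]
        map_smul' := fun c a => by simp [hb'.smul_left, Matrix.mulVec_smul] }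
    obtain ⟨v, hv, hv0⟩ := Submodule.exists_mem_ne_zero_of_ne_bot (p := LinearMap.ker L) (fun h => by
      have h1 := LinearMap.finrank_range_add_finrank_ker L
      have h2 := Submodule.finrank_le (LinearMap.range L)
      rw [h, finrank_bot, Module.finrank_pi] at h1
      simp only [Module.finrank_prod, Module.finrank_self] at h2
      omega)
    rw [LinearMap.mem_ker] at hv
    simp only [L, LinearMap.coe_mk, AddHom.coe_mk, Prod.mk_eq_zero] at hv
    obtain ⟨⟨hv1, hv2⟩, hv3, hv4⟩ := hv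
    have htv : (t : Matrix ι ι F) *ᵥ v = v := by rw [ht, sieg_mulVec hQ hu hwu, hv1, hv2]; simp
    have hk'v : k' *ᵥ v = k *ᵥ v := by
      have h1 : ((t⁻¹ : GL ι F) : Matrix ι ι F) *ᵥ v = v := by
        conv_lhs => rw [← htv, inv_mulVec_cancel]
      rw [hk', ← Matrix.mulVec_mulVec, h1, ← Matrix.mulVec_mulVec, ht, sieg_mulVec hQ hu hwu, hv3, hv4]
      simp
    have hkk : k' = k := by
      by_contra hne
      obtain ⟨y, hy, hyk⟩ := hK.inv _ (sub_mem hk'K hk) (sub_ne_zero.mpr hne)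
      rw [hK.comm _ (sub_mem hk'K hk) y hy] at hyk
      apply hv0
      rw [← Matrix.one_mulVec v, ← hyk, ← Matrix.mulVec_mulVec, Matrix.sub_mulVec, hk'v, sub_self, Matrix.mulVec_zero]
    show k * (t : Matrix ι ι F) = (t : Matrix ι ι F) * k
    have := congrArg (fun M => M * (t : Matrix ι ι F)) hkk
    simpa [hk', mul_assoc] using this.symm
  obtain ⟨u, hu0, hu⟩ := exists_singular_vec hQ h7
  obtain ⟨k, hk, hks⟩ : ∃ k ∈ K, ∀ c : F, k ≠ c • 1 := by
    by_contra! h
    have hbot : K = ⊥ := le_bot_iff.mp fun k hk => by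
      obtain ⟨c, rfl⟩ := h k hk
      exact Algebra.mem_bot.mpr ⟨c, by rw [Algebra.algebraMap_eq_smul_one]⟩
    have := hK.finrank_eq
    rw [hbot, Subalgebra.finrank_bot] at this
    omega
  obtain ⟨a, ha⟩ := eigen_of_comm hQ h7 hu0 hu (hcomm k hk)
  obtain ⟨y, -, hy⟩ := hK.inv (k - a • 1) (sub_mem hk (Subalgebra.smul_mem _ (one_mem K) a)) (sub_ne_zero.mpr (hks a))
  apply hu0
  have hyk : y * (k - a • 1) = 1 := mul_eq_one_comm.mp hy
  rw [← Matrix.one_mulVec u, ← hyk, ← Matrix.mulVec_mulVec, Matrix.sub_mulVec, ha, Matrix.smul_mulVec,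
    Matrix.one_mulVec, sub_self, Matrix.mulVec_zero]

/-- `Ω` does not lie in a subfield subgroup. -/
theorem not_le_subfield (h7 : 7 ≤ Fintype.card ι) {F₀ : Subfield F} (hne : F₀ ≠ ⊤)
    (P : GL ι F) : ¬ omegaGL Q ≤ subfieldSubgroup F₀ P := by
  intro hle
  classical
  have hb' := hQ.polar_bilinear
  obtain ⟨u, hu0, hu⟩ := exists_singular_vec hQ h7
  -- a second singular vector orthogonal to the first
  obtain ⟨e, he, -, heu⟩ := Cfsg.Agent.Lib.Subspaces.OrthSingular.exists_singular_any hQ (![] : Fin 0 → ι → F) (z := u) (by simpa using hu0) (by omega)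
  set U := Cfsg.Agent.Lib.Subspaces.OrthNondeg.perpQ hQ (Submodule.span F {u, e}) with hU
  have hUd : 3 ≤ Module.finrank F U := by
    have h1 := Cfsg.Agent.Lib.Subspaces.OrthNondeg.finrank_perpQ_ge (hQ := hQ) (Submodule.span F {u, e})
    have h2' := Cfsg.Agent.Lib.Subspaces.OrthNondeg.finrank_pair_le u e
    have : 3 ≤ Module.finrank F (Cfsg.Agent.Lib.Subspaces.OrthNondeg.perpQ hQ (Submodule.span F {u, e})) := by omega
    exact this
  obtain ⟨w, hw, hw0, hwQ⟩ := Cfsg.Agent.Lib.Subspaces.OrthNondeg.exists_singular_in hQ hUd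
  have hwu : B w u = 0 := hw u (Submodule.subset_span (by simp))
  have hwe : B w e = 0 := hw e (Submodule.subset_span (by simp))
  have huu : B u u = 0 := by rw [B_self hQ, hu, mul_zero]
  have hww : B w w = 0 := by rw [B_self hQ, hwQ, mul_zero]
  have huw : B u w = 0 := by rw [B_comm]; exact hwu
  have hsieg : ∀ (c : F) v, (sieg Q u (c • w) : Matrix ι ι F) *ᵥ v = v + c • (B v u • w - B v w • u) := fun c v => by
    rw [sieg_mulVec hQ hu (by rw [hb'.smul_left, hwu, mul_zero]), hb'.smul_right, hQ.smul, hwQ]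
    module
  have hmem : ∀ c : F, sieg Q u (c • w) ∈ omegaGL Q := fun c =>
    sieg_mem_omega hQ (by omega) hu (by rw [hb'.smul_left, hwu, mul_zero])
  set A : Matrix ι ι F := (sieg Q u w : Matrix ι ι F) - 1 with hA
  have hAv : ∀ v, A *ᵥ v = B v u • w - B v w • u := fun v => by
    have := hsieg 1 v
    rw [one_smul, one_smul] at this
    rw [hA, Matrix.sub_mulVec, this, Matrix.one_mulVec, add_sub_cancel_left]
  have hAc : ∀ c : F, (sieg Q u (c • w) : Matrix ι ι F) = 1 + c • A := fun c =>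
    Matrix.ext_of_mulVec_single fun j => by
      rw [hsieg, Matrix.add_mulVec, Matrix.one_mulVec, Matrix.smul_mulVec, hAv]
  have hA2 : A * A = 0 := Matrix.ext_of_mulVec_single fun j => by
    rw [← Matrix.mulVec_mulVec, hAv, Matrix.zero_mulVec]
    simp only [hAv, sub_eq_add_neg, ← neg_smul, hb'.add_left, hb'.smul_left, huu, hww, huw, hwu, mul_zero, add_zero,
      neg_zero, zero_smul]
  have hA0 : A ≠ 0 := by
    intro h
    have := hAv e
    rw [h, Matrix.zero_mulVec, heu, B_comm e w, hwe, zero_smul, sub_zero, one_smul] at this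
    exact hw0 this.symm
  set N := ((P⁻¹ : GL ι F) : Matrix ι ι F) * A * (P : Matrix ι ι F) with hN
  have hN2 : N * N = 0 := by
    calc N * N = ((P⁻¹ : GL ι F) : Matrix ι ι F) * (A * A) * (P : Matrix ι ι F) := by simp [hN, mul_assoc]
      _ = 0 := by rw [hA2]; simp
  have hN0 : N ≠ 0 := fun h => hA0 (by
    have := congrArg (fun M => (P : Matrix ι ι F) * M * ((P⁻¹ : GL ι F) : Matrix ι ι F)) h
    simpa [hN, mul_assoc] using this)
  obtain ⟨i, j, hij, hb0⟩ : ∃ i j, i ≠ j ∧ N i j ≠ 0 := by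
    by_contra! h
    refine hN0 (Matrix.ext fun i j => ?_)
    rcases eq_or_ne i j with rfl | hij
    · have h1 := congrFun (congrFun hN2 i) i
      rw [Matrix.mul_apply, Finset.sum_eq_single i (fun x _ hx => by rw [h i x (Ne.symm hx), zero_mul]) (by simp)] at h1
      exact mul_self_eq_zero.mp h1
    · exact h i j hij
  have hrat : ∀ c : F, c ≠ 0 → (1 + c * N i i) * (c * N i j)⁻¹ ∈ F₀ := by
    intro c hc
    obtain ⟨M, hM, hMt⟩ := hle (hmem c)
    obtain ⟨_, ⟨g, rfl⟩, z, hz, rfl⟩ := Subgroup.mem_sup_of_normal_right.mp (by exact hM) |> fun h => h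
    obtain ⟨s, hs⟩ := (mem_scalars_iff z).mp hz
    have hval : (s : F) • ((Matrix.GeneralLinearGroup.map (F₀.subtype : F₀ →+* F) g : GL ι F) : Matrix ι ι F) =
        1 + c • N := by
      have h1 := congrArg (fun x : GL ι F => ((P⁻¹ * x * P : GL ι F) : Matrix ι ι F)) hMt
      simp only [MulEquiv.coe_toMonoidHom, MulAut.conj_apply] at h1
      rw [show P⁻¹ * (P * ((Matrix.GeneralLinearGroup.map (F₀.subtype : F₀ →+* F) g) * z) * P⁻¹) * P
        = (Matrix.GeneralLinearGroup.map (F₀.subtype : F₀ →+* F) g) * z by group] at h1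
      rw [Units.val_mul, hs, Matrix.mul_smul, mul_one] at h1
      rw [h1, Units.val_mul, Units.val_mul, hAc, mul_add, add_mul, mul_one, Units.inv_mul, Matrix.mul_smul,
        Matrix.smul_mul, hN]
    have hii := congrFun (congrFun hval i) i
    have hij' := congrFun (congrFun hval i) j
    simp only [Matrix.smul_apply, Matrix.add_apply, Matrix.one_apply_eq, Matrix.one_apply_ne hij, zero_add,
      smul_eq_mul] at hii hij'
    rw [← hii, ← hij', mul_inv, mul_mul_mul_comm, mul_inv_cancel₀ s.ne_zero, one_mul]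
    exact mul_mem (g.val i i).2 (inv_mem (g.val i j).2)
  have hdiff : ∀ x y : F, x ≠ 0 → y ≠ 0 → (x - y) * (N i j)⁻¹ ∈ F₀ := by
    intro x y hx hy
    have h := sub_mem (hrat x⁻¹ (inv_ne_zero hx)) (hrat y⁻¹ (inv_ne_zero hy))
    have e : (1 + x⁻¹ * N i i) * (x⁻¹ * N i j)⁻¹ - (1 + y⁻¹ * N i i) * (y⁻¹ * N i j)⁻¹ = (x - y) * (N i j)⁻¹ := by
      field_simp; ring
    rwa [e] at h
  obtain ⟨x, hx⟩ : ∃ x : F, x ∉ F₀ := by
    by_contra! h
    exact hne (eq_top_iff.mpr fun v _ => h v)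
  have hx0 : x ≠ 0 := fun h => hx (h ▸ zero_mem F₀)
  have hx1 : x ≠ 1 := fun h => hx (h ▸ one_mem F₀)
  have hxm : x - 1 ≠ 0 := sub_ne_zero.mpr hx1
  -- two differences whose ratio is `x`
  have h1 : (x - 1) * (N i j)⁻¹ ∈ F₀ := hdiff x 1 hx0 one_ne_zero
  have h2' : (x * x - x) * (N i j)⁻¹ ∈ F₀ := hdiff (x * x) x (mul_ne_zero hx0 hx0) hx0
  apply hx
  have e : x = ((x * x - x) * (N i j)⁻¹) / ((x - 1) * (N i j)⁻¹) := by
    field_simp
  rw [e]
  exact div_mem h2' h1

end Cfsg.Agent.Lib.AschbacherEvenDim
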